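import Cfsg.Agent.Lie.ClassicalLin
import Cfsg.Prelude.Def_LieTypeChar

/-! The classical groups in their defining characteristic: rigidity of the Sylow subgroup under
coprime automorphisms and the abelianisation of the Sylow `2`-subgroup. -/

set_option autoImplicit false
set_option linter.unusedSectionVars false

namespace Cfsg

open Matrix

universe u

section general

variable {F : Type} [Field F] {ι : Type} [Fintype ι] [DecidableEq ι]

theorem hasTransv_SL : HasTransv F (ι → F) (Matrix.SpecialLinearGroup ι F) := by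
  refine ⟨fun h hh => Subtype.ext (Matrix.ext_iff_smul.2 fun v => (hh v).trans (one_smul _ v).symm),
    fun f w hw => ?_⟩
  have h1 : ∀ v, (fun j => f (Pi.single j 1)) ⬝ᵥ v = f v := fun v => by
    rw [LinearMap.pi_apply_eq_sum_univ f v, dotProduct]
    refine Finset.sum_congr rfl fun j _ => ?_
    rw [smul_eq_mul, mul_comm]
    congr 2
    ext i
    simp [Pi.single_apply, eq_comm]
  refine ⟨⟨1 + vecMulVec w fun j => f (Pi.single j 1), by
    rw [vecMulVec_eq Unit, det_one_add_replicateCol_mul_replicateRow, h1, hw, add_zero]⟩,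
    fun v => ?_⟩
  change (1 + vecMulVec w fun j => f (Pi.single j 1)) *ᵥ v = _
  rw [add_mulVec, one_mulVec, vecMulVec_mulVec, h1, op_smul_eq_smul]

theorem exists_GL_of_injective (e : (ι → F) →ₗ[F] (ι → F)) (h : Function.Injective e) :
    ∃ g : GL ι F, ∀ x, g • x = e x := by
  obtain ⟨g, hg⟩ := ((LinearMap.isUnit_iff_ker_eq_bot e).2 (LinearMap.ker_eq_bot.2 h)).map
    (LinearMap.toMatrixAlgEquiv' (R := F) (n := ι))
  exact ⟨g, fun x => by
    change g.1 *ᵥ x = _
    rw [hg]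
    exact LinearMap.toMatrix'_mulVec e x⟩

namespace Polar

variable (P : Polar F (ι → F))

theorem injective_of_B {e : (ι → F) →ₗ[F] (ι → F)} (h : ∀ x y, P.B (e x) (e y) = P.B x y) :
    Function.Injective e :=
  (injective_iff_map_eq_zero e).2 fun x hx => P.nondeg x fun y => by rw [← h, hx, map_zero]

/-- the full isometry group -/
def glIso : Subgroup (GL ι F) where
  carrier := {g | (∀ x y, P.B (g • x) (g • y) = P.B x y) ∧ ∀ x, P.q (g • x) = P.q x}
  one_mem' := by simp
  mul_mem' := fun {a b} ha hb => ⟨fun x y => by rw [mul_smul, mul_smul, ha.1, hb.1],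
    fun x => by rw [mul_smul, ha.2, hb.2]⟩
  inv_mem' := fun {a} ha => ⟨fun x y => by rw [← ha.1, smul_inv_smul, smul_inv_smul],
    fun x => by rw [← ha.2, smul_inv_smul]⟩

theorem isGrp_glIso : P.IsGrp P.glIso := by
  refine ⟨fun h hh => Subtype.ext (Units.ext (Matrix.ext_iff_smul.2 fun v =>
    (hh v).trans (one_smul _ v).symm)), fun h => h.2.1, fun h => h.2.2,
    fun v w w' hv hw hw' h h' => ?_⟩
  obtain ⟨e, h1, h2, h3, h4, h5⟩ := P.exists_eichler_map hv hw hw' h h'
  obtain ⟨g, hg⟩ := exists_GL_of_injective e (P.injective_of_B h1)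
  exact ⟨⟨g, by simpa [hg] using h1, by simpa [hg] using h2⟩,
    ⟨(hg v).trans h4, fun y hy => (h5 y hy).imp fun c hc => (hg y).trans hc⟩, (hg w).trans h3⟩

theorem isGrp_of_matrix (p : ℕ) [Fact p.Prime] [CharP F p] {K : Type u} [Group K]
    [DistribMulAction K (ι → F)] [SMulCommClass K F (ι → F)]
    (hf : ∀ h : K, (∀ x : ι → F, h • x = x) → h = 1)
    (hB : ∀ (h : K) x y, P.B (h • x) (h • y) = P.B x y) (hq : ∀ (h : K) x, P.q (h • x) = P.q x)
    (h : ∀ g ∈ P.glIso, g.1.det = 1 → ∃ k : K, ∀ x : ι → F, k • x = g • x) : P.IsGrp K := by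
  refine ⟨hf, hB, hq, fun v w w' hv hw hw' h1 h2 => ?_⟩
  obtain ⟨g, hg, h3⟩ := P.isGrp_glIso.eichler v w w' hv hw hw' h1 h2
  obtain ⟨k, hk⟩ := h g g.2 (by
    obtain ⟨n, hn⟩ := P.isGrp_glIso.isPGroup_rad p v ⟨g, hg⟩
    have h4 : g.1.1.det ^ p ^ n = 1 := by
      rw [← det_pow, ← Units.val_pow_eq_pow_val, ← Subgroup.coe_pow,
        show g ^ p ^ n = 1 from congrArg Subtype.val hn]
      simp
    rw [← sub_eq_zero] at h4 ⊢
    exact pow_eq_zero_iff (pow_ne_zero n (Fact.out : p.Prime).ne_zero) |>.1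
      (by rw [sub_pow_char_pow, one_pow, h4]))
  exact ⟨k, ⟨(hk v).trans hg.1, fun y hy => (hg.2 y hy).imp fun c hc => (hk y).trans hc⟩,
    (hk w).trans h3⟩

end Polar

/-- the polar space of a non-degenerate quadratic form -/
noncomputable def orthPolar (Q : QuadraticForm F (ι → F))
    (hQ : ∀ u, (∀ v, Q (u + v) = Q u + Q v) → u = 0) : Polar F (ι → F) where
  σ := RingHom.id F
  B := Q.polarBilin
  ε := 1
  q := Q
  τ := AddMonoidHom.id F
  σσ _ := rfl
  ε_ne := one_ne_zero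
  symm x y := by simpa using QuadraticMap.polar_comm Q y x
  nondeg x h := hQ x fun y => by
    have := h y
    rw [QuadraticMap.polarBilin_apply_apply, QuadraticMap.polar_comm, QuadraticMap.polar] at this
    linear_combination this
  q_add x y := by simp [QuadraticMap.polar]
  q_smul c x := by simp [QuadraticMap.map_smul]
  q_mem x := ⟨_, rfl⟩
  B_self x h := by simp [QuadraticMap.polar_self, h]

theorem isGrp_omega [Fintype F] (p : ℕ) [Fact p.Prime] [CharP F p] (Q : QuadraticForm F (ι → F))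
    (hQ : ∀ u, (∀ v, Q (u + v) = Q u + Q v) → u = 0) (h5 : 5 ≤ Fintype.card ι) :
    (orthPolar Q hQ).IsGrp (Omega F Q) := by
  have h1 : (orthPolar Q hQ).IsGrp (isometryGroup F Q) :=
    (orthPolar Q hQ).isGrp_of_matrix p (fun h hh => Subtype.ext (Units.ext (Matrix.ext_iff_smul.2
      fun v => (hh v).trans (one_smul _ v).symm))) (fun h x y => by
        have h1 : ∀ v, Q (h • v) = Q v := fun v => h.2 v v
        change QuadraticMap.polar Q _ _ = QuadraticMap.polar Q _ _
        rw [QuadraticMap.polar, QuadraticMap.polar, ← smul_add, h1, h1, h1])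
      (fun h x => h.2 x x) fun g hg _ => ⟨⟨g, fun u _ => hg.2 u⟩, fun _ => rfl⟩
  refine h1.commutator (fun _ h => h) (by simpa using h5) fun a ha => ?_
  change Q a ≠ 0 at ha
  let e : (ι → F) →ₗ[F] (ι → F) := LinearMap.id - ((Q a)⁻¹ • Q.polarBilin.flip a).smulRight a
  have he : ∀ x, e x = x - (QuadraticMap.polar Q x a / Q a) • a := fun x => by
    simp [e, div_eq_inv_mul]
  have h2 : ∀ x, Q (e x) = Q x := fun x => by
    rw [he, sub_eq_add_neg, ← neg_smul, QuadraticMap.map_add Q, QuadraticMap.map_smul,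
      QuadraticMap.polar_smul_right]
    simp only [smul_eq_mul]
    field_simp
    ring
  obtain ⟨g, hg⟩ := exists_GL_of_injective e ((orthPolar Q hQ).injective_of_B fun x y => by
    change QuadraticMap.polar Q _ _ = QuadraticMap.polar Q _ _
    rw [QuadraticMap.polar, QuadraticMap.polar, ← map_add, h2, h2, h2])
  exact ⟨⟨g, fun u _ => (congrArg Q (hg u)).trans (h2 u)⟩, fun x => (hg x).trans (he x)⟩

theorem lieRigid_POmega [Fintype F] (p : ℕ) [Fact p.Prime] [CharP F p]
    {Q₀ : (ι → F) → F} (h : ∃ Q : QuadraticForm F (ι → F), Q₀ = Q ∧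
      ∀ u, (∀ v, Q (u + v) = Q u + Q v) → u = 0)
    (h5 : 5 ≤ Fintype.card ι) {v : ι → F} (hv : v ≠ 0) (hq : Q₀ v = 0) {G : Type u} [Group G]
    [Finite G] [IsSimpleGroup G] (e : G ≃* POmega F Q₀) : LieRigid p G := by
  obtain ⟨Q, rfl, hQ⟩ := h
  exact (isGrp_omega p Q hQ h5).lieRigid (by simp; omega) p hv hq e

theorem abExp_POmega [Fintype F] [CharP F 2]
    {Q₀ : (ι → F) → F} (h : ∃ Q : QuadraticForm F (ι → F), Q₀ = Q ∧
      ∀ u, (∀ v, Q (u + v) = Q u + Q v) → u = 0)
    (h5 : 5 ≤ Fintype.card ι) {G : Type u} [Group G] [Finite G] (e : G ≃* POmega F Q₀)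
    (S : Sylow 2 G) : AbExp 2 (S : Subgroup G) := by
  obtain ⟨Q, rfl, hQ⟩ := h
  refine sylow_abExp_of_equiv_quotient e ((isGrp_omega 2 Q hQ h5).sylow_abExp (fun u y hu _ => ?_)
    fun u => ⟨0, ?_⟩) S
  · obtain ⟨a, ha⟩ := isSquare_of_charTwo' (Q y / Q u)
    refine ⟨a, ?_⟩
    change Q u ≠ 0 at hu
    change a * a * Q u + Q y = 0
    rw [← ha, div_mul_cancel₀ _ hu, CharTwo.add_self_eq_zero]
  · change _ * QuadraticMap.polar Q u u = 0
    rw [QuadraticMap.polar_self, two_nsmul, CharTwo.add_self_eq_zero, mul_zero]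

end general

section families

variable {F : Type} [Field F]

/-- the symplectic polar space -/
noncomputable def spPolar (m : ℕ) (F : Type) [Field F] : Polar F (Fin m ⊕ Fin m → F) where
  σ := RingHom.id F
  B := Matrix.toLinearMap₂' F (J (Fin m) F)
  ε := -1
  q _ := 0
  τ := 0
  σσ _ := rfl
  ε_ne := by simp
  symm x y := by
    rw [toLinearMap₂'_apply', toLinearMap₂'_apply', dotProduct_mulVec, dotProduct_comm,
      ← mulVec_transpose, J_transpose, neg_mulVec]
    simp
  nondeg x h := by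
    have h1 : J (Fin m) F *ᵥ x = 0 := dotProduct_eq_zero_iff.1 fun y => by
      simpa [toLinearMap₂'_apply', dotProduct_comm] using h y
    have h2 := congrArg (J (Fin m) F *ᵥ ·) h1
    simpa [J_squared, neg_mulVec] using h2
  q_add _ _ := by simp
  q_smul _ _ := by simp
  q_mem _ := ⟨0, rfl⟩
  B_self x _ := by
    rw [toLinearMap₂'_apply', J, fromBlocks_mulVec]
    simp [dotProduct, neg_mulVec, mul_comm]

theorem spPolar_B (m : ℕ) (A : Matrix (Fin m ⊕ Fin m) (Fin m ⊕ Fin m) F) (x y : Fin m ⊕ Fin m → F) :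
    (spPolar m F).B (A *ᵥ x) (A *ᵥ y) = Matrix.toLinearMap₂' F (Aᵀ * J (Fin m) F * A) x y := by
  change Matrix.toLinearMap₂' F (J (Fin m) F) _ _ = _
  rw [toLinearMap₂'_apply', toLinearMap₂'_apply', ← mulVec_mulVec, ← mulVec_mulVec,
    dotProduct_mulVec x, vecMul_transpose]

theorem isGrp_sp (p : ℕ) [Fact p.Prime] [CharP F p] (m : ℕ) :
    (spPolar m F).IsGrp (symplecticGroup (Fin m) F) :=
  (spPolar m F).isGrp_of_matrix p (fun h hh => Subtype.ext (Matrix.ext_iff_smul.2
      fun v => (hh v).trans (one_smul _ v).symm))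
    (fun h x y => (spPolar_B m h.1 x y).trans (by rw [SymplecticGroup.mem_iff'.1 h.2]; rfl))
    (fun _ _ => rfl) fun g hg _ => ⟨⟨g.1, SymplecticGroup.mem_iff'.2
      ((Matrix.toLinearMap₂' F).injective (LinearMap.ext₂ fun x y =>
        (spPolar_B m g.1 x y).symm.trans (hg.1 x y)))⟩, fun _ => rfl⟩

theorem exists_frob_of_card [Fintype F] (p : ℕ) [Fact p.Prime] [CharP F p] {q : ℕ}
    (hq : Fintype.card F = q ^ 2) : ∃ σ : F →+* F, (∀ a, σ a = a ^ q) ∧ (∀ a, σ (σ a) = a) ∧
      ∃ l, l + σ l = 1 := by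
  obtain ⟨n, hp, hn⟩ := FiniteField.card F p
  obtain ⟨k, -, hk⟩ := (Nat.dvd_prime_pow hp).1 (show q ∣ p ^ (n : ℕ) from
    hn ▸ hq ▸ dvd_pow_self q two_ne_zero)
  have h1 : ∀ a : F, iterateFrobenius F p k a = a ^ q := fun a => by rw [hk, iterateFrobenius_def]
  have h2 : ∀ a : F, iterateFrobenius F p k (iterateFrobenius F p k a) = a := fun a => by
    rw [h1, h1, ← pow_mul, ← sq, ← hq, FiniteField.pow_card]
  refine ⟨_, h1, h2, ?_⟩
  obtain ⟨b, hb⟩ : ∃ b : F, b + iterateFrobenius F p k b ≠ 0 := by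
    by_contra h
    push Not at h
    have h3 : ∀ a : F, a ^ q = a := fun a => by
      have h4 := h 1
      rw [map_one] at h4
      have h5 := h a
      rw [h1] at h5
      linear_combination h5 - a * h4
    have h4 : 1 < q ^ 2 := hq ▸ Fintype.one_lt_card
    have h5 : 1 < q := by
      by_contra h6
      interval_cases q <;> simp at h4
    have h6 := (FiniteField.forall_pow_eq_one_iff F (q - 1)).1 fun x => by
      refine mul_left_cancel (a := x) ?_
      rw [← pow_succ', Nat.sub_add_cancel h5.le, mul_one]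
      exact Units.ext (by simpa using h3 x)
    have h7 := Nat.le_of_dvd (by omega) h6
    rw [hq] at h7
    have : q < q ^ 2 := by nlinarith
    omega
  exact ⟨b / (b + iterateFrobenius F p k b), by
    rw [map_div₀, map_add, h2, add_comm (iterateFrobenius F p k b), ← add_div, div_self hb]⟩

/-- the unitary polar space -/
noncomputable def suPolar (n : ℕ) (σ : F →+* F) (h : ∀ a, σ (σ a) = a) (h' : ∃ l, l + σ l = 1) :
    Polar F (Fin n → F) where
  σ := σ
  B := LinearMap.mk₂'ₛₗ (RingHom.id F) σ (fun u v => ∑ i, u i * σ (v i))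
    (fun _ _ _ => by simp [add_mul, Finset.sum_add_distrib])
    (fun _ _ _ => by simp [Finset.mul_sum, mul_assoc])
    (fun _ _ _ => by simp [mul_add, Finset.sum_add_distrib])
    (fun _ _ _ => by simp [Finset.mul_sum, mul_left_comm])
  ε := 1
  q u := ∑ i, u i * σ (u i)
  τ := AddMonoidHom.id F + σ.toAddMonoidHom
  σσ := h
  ε_ne := one_ne_zero
  symm x y := by simp [h, mul_comm]
  nondeg x hx := funext fun i => by simpa [Pi.single_apply] using hx (Pi.single i 1)
  q_add x y := by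
    simp only [Pi.add_apply, map_add, LinearMap.mk₂'ₛₗ_apply, AddMonoidHom.add_apply,
      AddMonoidHom.id_apply, RingHom.toAddMonoidHom_eq_coe, AddMonoidHom.coe_coe, map_sum, map_mul,
      h, ← Finset.sum_add_distrib]
    exact Finset.sum_congr rfl fun i _ => by ring
  q_smul c x := by
    simp only [Pi.smul_apply, smul_eq_mul, map_mul, Finset.mul_sum]
    exact Finset.sum_congr rfl fun i _ => by ring
  q_mem x := by
    obtain ⟨l, hl⟩ := h'
    refine ⟨(∑ i, x i * σ (x i)) * l, ?_⟩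
    have h1 : σ (∑ i, x i * σ (x i)) = ∑ i, x i * σ (x i) := by simp [h, mul_comm]
    change _ * l + σ _ = _
    rw [map_mul, h1, ← mul_add, hl, mul_one]
  B_self _ hx := hx

theorem isGrp_su (p : ℕ) [Fact p.Prime] [CharP F p] (n q : ℕ) (σ : F →+* F)
    (hσ : ∀ a, σ a = a ^ q) (h : ∀ a, σ (σ a) = a) (h' : ∃ l, l + σ l = 1) :
    (suPolar n σ h h').IsGrp (SU n F q) := by
  have h1 : ∀ x y, (suPolar n σ h h').B x y = hermForm n F q x y := fun x y => by
    change ∑ i, x i * σ (y i) = _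
    simp only [hσ, hermForm]
  have h2 : ∀ (g : SU n F q) x y, (suPolar n σ h h').B (g • x) (g • y) =
      (suPolar n σ h h').B x y := fun g x y => by
    rw [h1, h1]
    exact g.2 x y
  exact (suPolar n σ h h').isGrp_of_matrix p (fun g hg => Subtype.ext (hasTransv_SL.faithful _ hg))
    h2 (fun g x => h2 g x x) fun g hg hd => ⟨⟨⟨g.1, hd⟩, fun x y => by
      rw [← h1, ← h1]
      exact hg.1 x y⟩, fun _ => rfl⟩

theorem exists_quadFormOdd (h2 : (2 : F) ≠ 0) (m : ℕ) :
    ∃ Q : QuadraticForm F (Unit ⊕ (Fin m ⊕ Fin m) → F), quadFormOdd m F = Q ∧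
      ∀ u, (∀ v, Q (u + v) = Q u + Q v) → u = 0 := by
  let Q : QuadraticForm F (Unit ⊕ (Fin m ⊕ Fin m) → F) :=
    QuadraticMap.proj (Sum.inl ()) (Sum.inl ()) +
      ∑ i : Fin m, QuadraticMap.proj (Sum.inr (Sum.inl i)) (Sum.inr (Sum.inr i))
  have hQ : quadFormOdd m F = Q := by
    funext v
    simp [Q, quadFormOdd, _root_.sum_apply, sq]
  refine ⟨Q, hQ, fun u hu => ?_⟩
  rw [← hQ] at hu
  funext i
  rcases i with _ | i | i
  · have := hu (Pi.single (Sum.inl ()) 1)
    simp [quadFormOdd] at this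
    exact (mul_eq_zero.1 (by linear_combination this)).resolve_left h2
  · have := hu (Pi.single (Sum.inr (Sum.inr i)) 1)
    simp [quadFormOdd, Pi.single_apply, mul_add, Finset.sum_add_distrib] at this
    exact this
  · have := hu (Pi.single (Sum.inr (Sum.inl i)) 1)
    simp [quadFormOdd, Pi.single_apply, add_mul, Finset.sum_add_distrib] at this
    exact this

theorem exists_quadFormPlus (m : ℕ) :
    ∃ Q : QuadraticForm F (Fin m ⊕ Fin m → F), quadFormPlus m F = Q ∧
      ∀ u, (∀ v, Q (u + v) = Q u + Q v) → u = 0 := by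
  let Q : QuadraticForm F (Fin m ⊕ Fin m → F) :=
    ∑ i : Fin m, QuadraticMap.proj (Sum.inl i) (Sum.inr i)
  have hQ : quadFormPlus m F = Q := by
    funext v
    simp [Q, quadFormPlus, _root_.sum_apply]
  refine ⟨Q, hQ, fun u hu => ?_⟩
  rw [← hQ] at hu
  funext i
  rcases i with i | i
  · have := hu (Pi.single (Sum.inr i) 1)
    simp [quadFormPlus, Pi.single_apply, mul_add, Finset.sum_add_distrib] at this
    exact this
  · have := hu (Pi.single (Sum.inl i) 1)
    simp [quadFormPlus, Pi.single_apply, add_mul, Finset.sum_add_distrib] at this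
    exact this

theorem exists_quadFormMinus [Fintype F] (m : ℕ) (a b : F)
    (hab : ∀ z₁ z₂ : F, z₁ ^ 2 + a * z₁ * z₂ + b * z₂ ^ 2 = 0 → z₁ = 0 ∧ z₂ = 0) :
    ∃ Q : QuadraticForm F ((Fin m ⊕ Fin m) ⊕ Fin 2 → F), quadFormMinus m F a b = Q ∧
      ∀ u, (∀ v, Q (u + v) = Q u + Q v) → u = 0 := by
  let Q : QuadraticForm F ((Fin m ⊕ Fin m) ⊕ Fin 2 → F) :=
    (∑ i : Fin m, QuadraticMap.proj (Sum.inl (Sum.inl i)) (Sum.inl (Sum.inr i))) +
      (QuadraticMap.proj (Sum.inr 0) (Sum.inr 0) + a • QuadraticMap.proj (Sum.inr 0) (Sum.inr 1) +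
        b • QuadraticMap.proj (Sum.inr 1) (Sum.inr 1))
  have hQ : quadFormMinus m F a b = Q := by
    funext v
    simp [Q, quadFormMinus, _root_.sum_apply, sq, mul_assoc]
  refine ⟨Q, hQ, fun u hu => ?_⟩
  rw [← hQ] at hu
  have h0 := hu (Pi.single (Sum.inr 0) 1)
  have h1 := hu (Pi.single (Sum.inr 1) 1)
  simp [quadFormMinus, Pi.single_apply] at h0 h1
  have h2 : u (Sum.inr 0) = 0 ∧ u (Sum.inr 1) = 0 := by
    by_cases h2 : (2 : F) = 0
    · have : CharP F 2 := CharTwo.of_one_ne_zero_of_two_eq_zero one_ne_zero h2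
      obtain ⟨s, hs⟩ := isSquare_of_charTwo' b
      have ha : a ≠ 0 := fun ha => one_ne_zero (hab s 1 (by
        rw [ha, hs]; linear_combination s ^ 2 * h2)).2
      exact ⟨(mul_eq_zero.1 (by linear_combination h1 - b * u (Sum.inr 1) * h2)).resolve_left ha,
        (mul_eq_zero.1 (by linear_combination h0 - u (Sum.inr 0) * h2)).resolve_left ha⟩
    · refine hab _ _ ((mul_eq_zero.1 ?_).resolve_left h2)
      linear_combination u (Sum.inr 0) * h0 + u (Sum.inr 1) * h1
  funext i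
  rcases i with (i | i) | i
  · have := hu (Pi.single (Sum.inl (Sum.inr i)) 1)
    simp [quadFormMinus, Pi.single_apply, mul_add, Finset.sum_add_distrib] at this
    exact this
  · have := hu (Pi.single (Sum.inl (Sum.inl i)) 1)
    simp [quadFormMinus, Pi.single_apply, add_mul, Finset.sum_add_distrib] at this
    exact this
  · fin_cases i
    · exact h2.1
    · exact h2.2

end families

variable {G : Type u} [Group G] [Finite G]

theorem lieRigid_classical [IsSimpleGroup G] (p : ℕ) [Fact p.Prime]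
    (h : IsPSLChar p G ∨ IsPSpChar p G ∨ IsPSUChar p G ∨ IsPOmegaOddChar p G ∨
      IsPOmegaPlusChar p G ∨ IsPOmegaMinusChar p G) : LieRigid p G := by
  rcases h with ⟨F, _, _, _, n, hn, -, ⟨e⟩⟩ | ⟨F, _, _, _, m, hm, -, ⟨e⟩⟩ |
    ⟨F, _, _, _, n, q, hq, hn, -, ⟨e⟩⟩ | ⟨F, _, _, _, m, hm, hF, ⟨e⟩⟩ |
    ⟨F, _, _, _, m, hm, ⟨e⟩⟩ | ⟨F, _, _, _, m, a, b, hm, hab, ⟨e⟩⟩
  · obtain ⟨n, rfl⟩ := Nat.exists_eq_add_of_le' hn
    exact (hasTransv_SL.oppGeom p).lieRigid_of_equiv ⟨Pi.single 0 1,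
      LinearMap.proj 1, by simp, ⟨1, by simp⟩, by simp⟩ e
  · exact (isGrp_sp p m).lieRigid (by simp; omega) p (v := Pi.single (Sum.inl ⟨0, by omega⟩) 1)
      (by simp) rfl e
  · obtain ⟨σ, h1, h2, h3⟩ := exists_frob_of_card p hq
    obtain ⟨n, rfl⟩ := Nat.exists_eq_add_of_le' hn
    obtain ⟨a, b, hab⟩ := CharP.sq_add_sq F p (-1)
    refine (isGrp_su p _ q σ h1 h2 h3).lieRigid (by simp) p
      (v := Fin.cons 1 (Fin.cons (a : F) (Fin.cons (b : F) 0))) (fun h => by simpa using congrFun h 0)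
      ?_ e
    simp only [suPolar, Fin.sum_univ_succ, Fin.cons_zero, Fin.cons_succ, map_one, map_natCast]
    simp only [Pi.zero_apply, zero_mul, Finset.sum_const_zero]
    push_cast at hab
    linear_combination hab
  · exact lieRigid_POmega p (exists_quadFormOdd (F := F) (Ring.two_ne_zero fun h2 =>
      (Nat.not_even_iff_odd.2 hF) (FiniteField.even_card_iff_char_two.1 h2 |> Nat.even_iff.2)) m)
      (by simp; omega) (v := Pi.single (Sum.inr (Sum.inl ⟨0, by omega⟩)) 1)
      (by simp) (by simp [quadFormOdd]) e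
  · exact lieRigid_POmega p (exists_quadFormPlus m) (by simp; omega)
      (v := Pi.single (Sum.inl ⟨0, by omega⟩) 1) (by simp) (by simp [quadFormPlus]) e
  · exact lieRigid_POmega p (exists_quadFormMinus (m - 1) a b hab) (by simp; omega)
      (v := Pi.single (Sum.inl (Sum.inl ⟨0, by omega⟩)) 1) (by simp) (by simp [quadFormMinus]) e

theorem abExp_classical
    (h : IsPSLChar 2 G ∨ IsPSpChar 2 G ∨ IsPSUChar 2 G ∨ IsPOmegaOddChar 2 G ∨
      IsPOmegaPlusChar 2 G ∨ IsPOmegaMinusChar 2 G) (P : Sylow 2 G) :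
    AbExp 2 (P : Subgroup G) := by
  rcases h with ⟨F, _, _, _, n, hn, -, ⟨e⟩⟩ | ⟨F, _, _, _, m, hm, -, ⟨e⟩⟩ |
    ⟨F, _, _, _, n, q, hq, hn, -, ⟨e⟩⟩ | ⟨F, _, _, _, m, hm, hF, ⟨e⟩⟩ |
    ⟨F, _, _, _, m, hm, ⟨e⟩⟩ | ⟨F, _, _, _, m, a, b, hm, hab, ⟨e⟩⟩
  · exact sylow_abExp_of_equiv_quotient e (hasTransv_SL.sylow_abExp 2) P
  · exact sylow_abExp_of_equiv_quotient e ((isGrp_sp 2 m).sylow_abExp (fun _ _ h => (h rfl).elim)
      fun u => ⟨0, by rw [(spPolar m F).B_self u rfl, mul_zero]⟩) P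
  · obtain ⟨σ, h1, h2, h3⟩ := exists_frob_of_card 2 hq
    refine sylow_abExp_of_equiv_quotient e ((isGrp_su 2 _ q σ h1 h2 h3).sylow_abExp
      (fun _ _ h h' => (h h').elim) fun u => h3.imp fun l hl => ?_) P
    change (l + σ l + 1) * _ = 0
    rw [hl, CharTwo.add_self_eq_zero, zero_mul]
  · exact absurd (FiniteField.even_card_iff_char_two.1 (ringChar.eq F 2) |> Nat.even_iff.2)
      (Nat.not_even_iff_odd.2 hF)
  · exact abExp_POmega (exists_quadFormPlus m) (by simp; omega) e P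
  · exact abExp_POmega (exists_quadFormMinus (m - 1) a b hab) (by simp; omega) e P

end Cfsg
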