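import Cfsg.Agent.Lie.TabE70

set_option autoImplicit false

namespace Cfsg.Lie.Chk

theorem cCE7_0 : allIn 0 3 (certE7.chkCs chevE7.rank chevE7.nroots .id 0) = true := by decide +kernel

theorem cCE7_3 : allIn 3 6 (certE7.chkCs chevE7.rank chevE7.nroots .id 0) = true := by decide +kernel

theorem cCE7_6 : allIn 6 7 (certE7.chkCs chevE7.rank chevE7.nroots .id 0) = true := by decide +kernel

theorem cCE7 : allIn 0 7 (certE7.chkCs chevE7.rank chevE7.nroots .id 0) = true :=
  allIn_trans (allIn_trans (cCE7_0) cCE7_3) cCE7_6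

end Cfsg.Lie.Chk
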