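import Cfsg.Agent.Lie.TabE80

set_option autoImplicit false

namespace Cfsg.Lie.Chk

theorem cCE8_0 : allIn 0 1 (certE8.chkCs chevE8.rank chevE8.nroots .id 0) = true := by decide +kernel

theorem cCE8_1 : allIn 1 2 (certE8.chkCs chevE8.rank chevE8.nroots .id 0) = true := by decide +kernel

theorem cCE8_2 : allIn 2 3 (certE8.chkCs chevE8.rank chevE8.nroots .id 0) = true := by decide +kernel

theorem cCE8_3 : allIn 3 4 (certE8.chkCs chevE8.rank chevE8.nroots .id 0) = true := by decide +kernel

theorem cCE8_4 : allIn 4 5 (certE8.chkCs chevE8.rank chevE8.nroots .id 0) = true := by decide +kernel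

theorem cCE8_5 : allIn 5 6 (certE8.chkCs chevE8.rank chevE8.nroots .id 0) = true := by decide +kernel

theorem cCE8_6 : allIn 6 7 (certE8.chkCs chevE8.rank chevE8.nroots .id 0) = true := by decide +kernel

theorem cCE8_7 : allIn 7 8 (certE8.chkCs chevE8.rank chevE8.nroots .id 0) = true := by decide +kernel

theorem cCE8 : allIn 0 8 (certE8.chkCs chevE8.rank chevE8.nroots .id 0) = true :=
  allIn_trans (allIn_trans (allIn_trans (allIn_trans (allIn_trans (allIn_trans (allIn_trans (cCE8_0) cCE8_1) cCE8_2) cCE8_3) cCE8_4) cCE8_5) cCE8_6) cCE8_7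

end Cfsg.Lie.Chk
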