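import Cfsg.Agent.Lie.TabE8A
import Cfsg.Agent.Lie.TabE8B
import Cfsg.Agent.Lie.TabE8C

set_option autoImplicit false

namespace Cfsg.Lie.Chk

theorem goodE8 : certE8.Good chevE8 where
  rep := Rep.of_chkP (of_allIn cPE8)
  add := of_allIn cAE8
  grade := of_allIn cGE8
  hN := by decide +kernel
  hN0 := mkCert_N _ _ _ _ _ _ _ _ _
  hNe := by decide +kernel
  hH := by decide +kernel
  hH0 := by decide +kernel
  hHs := by decide +kernel
  wt0 := by decide +kernel
  simple := by decide +kernel
  inj := by decide +kernel
  sign := by decide +kernel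
  red := by decide +kernel
  refl := by decide +kernel
  wd := by decide +kernel
  wit := by decide +kernel

theorem goodIE8 : certE8.GoodT chevE8 .id 0 :=
  ⟨by decide +kernel, by decide +kernel, of_allIn cNE8, of_allIn cCE8⟩

end Cfsg.Lie.Chk
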