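import Cfsg.Agent.Grp.Suzuki
import Cfsg.Agent.Grp.Opp

/-! Rank one groups: rigidity of the unipotent subgroup; the Suzuki groups. -/

set_option autoImplicit false

namespace Cfsg

open scoped commutatorElement

namespace RankOne

variable {G U T : Type*} [Group G] [Group U] [CommGroup T] (D : RankOne G U T) [Nontrivial U]
  [Finite G] {p : ℕ} [Fact p.Prime]

theorem normalizer_range : Subgroup.normalizer (D.x.range : Set G) = D.B := by
  have h1 : D.B ≤ Subgroup.normalizer (D.x.range : Set G) := by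
    rintro _ ⟨u, t, rfl⟩
    refine mul_mem (Subgroup.le_normalizer ⟨u, rfl⟩) (Subgroup.mem_normalizer_fintype ?_)
    rintro _ ⟨u, rfl⟩
    exact ⟨_, (D.h_x t u).symm⟩
  refine le_antisymm (fun g hg => (D.bruhat g).resolve_right ?_) h1
  rintro ⟨u, u', t, rfl⟩
  rw [mul_mem_cancel_right (h1 ⟨u', t, rfl⟩), mul_mem_cancel_left (h1 (D.x_mem u))] at hg
  obtain ⟨v, hv⟩ := exists_ne (1 : U)
  exact hv (D.eq_one_of_conj_mem (mul_mem (mul_mem (inv_mem hg) (h1 (D.x_mem v))) hg |> fun _ => by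
    obtain ⟨w, hw⟩ := (Subgroup.mem_normalizer_iff.1 (inv_mem hg) _).1 ⟨v, rfl⟩
    rw [inv_inv] at hw
    exact hw ▸ D.x_mem w))

theorem opp_iff {g : G} : Opp D.x.range g ↔ g ∉ D.B := by
  have h1 : ∀ g ∉ D.B, OppR D.x.range g := fun g hg => by
    obtain ⟨u, u', t, rfl⟩ := (D.bruhat g).resolve_left hg
    rintro _ ⟨v, rfl⟩ hv
    have h2 : D.x u' * D.h t ∈ D.B := ⟨u', t, rfl⟩
    rw [normalizer_range, show _ * D.x v * _ = (D.x u' * D.h t)⁻¹ * (D.n⁻¹ * D.x (u⁻¹ * v * u) *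
      D.n) * (D.x u' * D.h t) by simp [mul_assoc], mul_mem_cancel_right h2,
      mul_mem_cancel_left (inv_mem h2)] at hv
    rw [show v = 1 by simpa [mul_assoc, inv_mul_eq_one] using D.eq_one_of_conj_mem hv, map_one]
  refine ⟨fun h hg => ?_, fun h => ⟨h1 g h, h1 _ (mt inv_mem_iff.1 h)⟩⟩
  obtain ⟨v, hv⟩ := exists_ne (1 : U)
  exact hv (D.x_injective ((h.1 _ ⟨v, rfl⟩ (D.normalizer_range ▸
    mul_mem (mul_mem (inv_mem hg) (D.x_mem v)) hg)).trans (map_one _).symm))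

include D in
theorem lieRigid [IsSimpleGroup G] (hU : IsPGroup p U) : LieRigid p G := by
  obtain ⟨v, hv⟩ := exists_ne (1 : U)
  have h1 : ∀ u, D.x u * D.n ∉ D.B := fun u h => D.n_notMem ((mul_mem_cancel_left (D.x_mem u)).1 h)
  have h2 := hU.of_surjective _ D.x.rangeRestrict_surjective
  refine ⟨_, h2, OppData.pRigid_of_simple ⟨h2, fun g g' hg hg' => ?_, D.n, D.x v * D.n,
    D.opp_iff.2 D.n_notMem, D.opp_iff.2 (h1 v), D.opp_iff.2 fun h => hv (D.eq_one_of_conj_mem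
    (mul_assoc _ _ D.n ▸ h))⟩ (fun h => hv (D.x_injective ((Subgroup.mem_bot.1
    (h.le ⟨v, rfl⟩)).trans (map_one _).symm))) fun g => ?_⟩
  · obtain ⟨u, u', t, rfl⟩ := (D.bruhat g).resolve_left (D.opp_iff.1 hg)
    obtain ⟨w, w', s, rfl⟩ := (D.bruhat g').resolve_left (D.opp_iff.1 hg')
    exact ⟨_, ⟨w * u⁻¹, rfl⟩, (D.x u' * D.h t)⁻¹ * (D.x w' * D.h s), D.normalizer_range ▸
      mul_mem (inv_mem ⟨u', t, rfl⟩) ⟨w', s, rfl⟩, by simp [mul_assoc]⟩
  simp only [opp_iff]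
  rcases D.bruhat g with h | ⟨u, u', t, rfl⟩
  · exact ⟨D.n, D.n_notMem, fun h' => D.n_notMem (inv_mem_iff.1 ((mul_mem_cancel_right h).1 h'))⟩
  · refine ⟨_, h1 (u * v⁻¹), fun h => hv (D.eq_one_of_conj_mem ?_)⟩
    simpa [mul_assoc] using mul_mem h (inv_mem (⟨u', t, rfl⟩ : D.x u' * D.h t ∈ D.B))

theorem abExp (hU : IsPGroup p U) (hT : ∀ t k, D.h t ^ p ^ k = 1 → D.h t = 1) {n : ℕ}
    (h : AbExp n (⊤ : Subgroup U)) (P : Sylow p G) : AbExp n (P : Subgroup G) := by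
  obtain ⟨S, hS⟩ := (hU.of_surjective _ D.x.rangeRestrict_surjective).exists_le_sylow
  refine sylow_abExp S ?_ P
  rw [show (S : Subgroup G) = D.x.range from by_contra fun hne => ?_, MonoidHom.range_eq_map]
  · exact h.map _
  obtain ⟨g, ⟨hg, hg1⟩, hg'⟩ := SetLike.exists_of_lt
    (lt_inf_normalizer_of_isPGroup S.isPGroup' (lt_of_le_of_ne hS (Ne.symm hne)))
  obtain ⟨u, t, rfl⟩ := D.normalizer_range.le hg1
  obtain ⟨k, hk⟩ := S.isPGroup' ⟨D.h t, (mul_mem_cancel_left (hS ⟨u, rfl⟩)).1 hg⟩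
  exact hg' ⟨u, by rw [hT t k (congrArg Subtype.val hk), mul_one]⟩

end RankOne

open _root_.Cfsg.Lie

variable {F : Type*} [Field F] [CharP F 2] {θ : F →+* F}

theorem SzU.isPGroup : IsPGroup 2 (SzU θ) := fun u => ⟨2, by
  have := CharTwo.two_eq_zero (R := F)
  ext <;> simp [pow_succ] <;> grind⟩

theorem SzU.abExp [Finite F] (hθ : ∀ x, θ (θ x) = x ^ 2) (h : ∃ a, θ a ≠ a) :
    AbExp 2 (⊤ : Subgroup (SzU θ)) := fun u _ => by
  obtain ⟨a, ha⟩ := h
  have h1 : Function.Injective fun c => c * θ c := fun c d hcd => by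
    have h1 : c * θ c = d * θ d := hcd
    have h2 := congrArg θ h1
    rw [map_mul, map_mul, hθ, hθ] at h2
    by_cases hc : c = 0
    · simpa [hc, eq_comm (a := (0 : F))] using h1
    · refine mul_left_cancel₀ (mul_ne_zero hc ((map_ne_zero θ).2 hc)) ?_
      linear_combination h2 - d * h1
  obtain ⟨c, hc⟩ := Finite.surjective_of_injective h1 (u.a * θ u.a / (θ a - a))
  rw [eq_div_iff (sub_ne_zero.2 ha)] at hc
  have := CharTwo.two_eq_zero (R := F)
  convert Subgroup.commutator_mem_commutator (Subgroup.mem_top (⟨c, 0⟩ : SzU θ))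
    (Subgroup.mem_top ⟨c * a, 0⟩) using 1
  ext <;> simp [sq, commutatorElement_def] <;> grind

theorem exists_theta (F : Type*) [Field F] [Fintype F] (p : ℕ) [Fact p.Prime] [CharP F p] {m : ℕ}
    (h : Fintype.card F = p ^ (2 * m + 1)) (x : F) :
    iterateFrobenius F p m (iterateFrobenius F p m x) ^ p = x := by
  rw [iterateFrobenius_def, iterateFrobenius_def, ← pow_mul, ← pow_mul,
    show p ^ m * (p ^ m * p) = Fintype.card F by rw [h]; ring, FiniteField.pow_card]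

theorem charP_of_card {F : Type*} [Field F] [Fintype F] {p k : ℕ} (hp : p.Prime)
    (h : Fintype.card F = p ^ k) : CharP F p := by
  obtain ⟨q, hq⟩ := CharP.exists F
  obtain ⟨n, hq', hn⟩ := FiniteField.card F q
  rwa [← (Nat.prime_dvd_prime_iff_eq hq' hp).1 (hq'.dvd_of_dvd_pow
    (n := k) (by rw [← h, hn]; exact dvd_pow_self q n.ne_zero))]

theorem exists_sq_ne {F : Type*} [Field F] [Fintype F] (h : 2 < Fintype.card F) :
    ∃ a : F, a ^ 2 ≠ a := by
  classical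
  obtain ⟨a, -, ha⟩ := Finset.exists_mem_notMem_of_card_lt_card (s := {(0 : F), 1})
    (t := Finset.univ) (Finset.card_le_two.trans_lt h)
  refine ⟨a, fun h1 => ha ?_⟩
  simpa using (by grind : a = 0 ∨ a = 1)

theorem lie_suzuki {G : Type*} [Group G] [Finite G] [IsSimpleGroup G] (h : IsoSuzuki G) :
    LieRigid 2 G ∧ ∀ P : Sylow 2 G, AbExp 2 (P : Subgroup G) := by
  obtain ⟨F, _, _, m, hm, hF, ⟨e⟩⟩ := h
  have := charP_of_card Nat.prime_two hF
  have hθ : ∀ x : F, iterateFrobenius F 2 (m + 1) (iterateFrobenius F 2 (m + 1) x) = x ^ 2 :=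
    fun x => by
      conv_rhs => rw [← exists_theta F 2 hF x]
      simp only [iterateFrobenius_def]
      ring
  rw [Sz_eq_szGrp _ (iterateFrobenius_def 2 (m + 1))] at e
  have := e.symm.isSimpleGroup
  have : Nontrivial (SzU (iterateFrobenius F 2 (m + 1))) := ⟨⟨0, 0⟩, ⟨1, 0⟩, by simp⟩
  refine ⟨((szRankOne hθ).lieRigid SzU.isPGroup).of_mulEquiv e, sylow_abExp_of_mulEquiv e
    ((szRankOne hθ).abExp SzU.isPGroup (fun t k h => ?_) (SzU.abExp hθ ?_))⟩
  · have h1 := congrFun (congrFun ((coe_szH hθ _).symm.trans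
      (congrArg (·.1.1) ((map_pow _ t _).trans h))) 1) 1
    rw [show t = 1 from Units.ext ((ExpChar.pow_prime_pow_mul_eq_one_iff 2 k 1 (t : F)).1
      (by simpa using h1) |> (pow_one (t : F)).symm.trans), map_one]
  · obtain ⟨a, ha⟩ := exists_sq_ne (F := F) (by
      rw [hF]; exact lt_of_lt_of_le (by norm_num) (Nat.pow_le_pow_right two_pos (by omega : 2 ≤ 2 * m + 1)))
    by_contra! h
    exact ha (by rw [← hθ, h, h])

end Cfsg
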