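import Cfsg.Agent.Lie.TabDef
import Cfsg.Prelude.Def_ChevG2

/-! Certificate for type G2. -/

set_option autoImplicit false

namespace Cfsg.Lie.Chk

noncomputable def tabUG2 : ℕ := pack 504 [
  0x1000000079000000059000000041000000000000000031000000000000000000000000000000000000000000000000000000000000021000000000,
  0x89000000001000000069000000000000000041000000000000000021000000000000000000000000000000000000000000000000000039000000033,
  0x390690a902105109900000000100003306200002b05a000000000000000000000000033000000023000000000000000000000000000000000000000000041,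
  0x790910b100000000000007b09200000000100000007b02104906100000000000002304a00000000000000002b000000000000000000000000051000000059,
  0x810a90b10000830aa00000008b00000000100000000003904105100000000000003b04200000003b000000000000000000000000069000000062,
  0xc100000000000000000000000009100000000000000000100000000000000005900000000000000000000000002900000000000000007200000007b,
  0xd10000000000000000000000000a100000000000000000100000000000000006900000000000000000000000003900000008a000000083,
  0xc30000cb0ba0000000000c10b10a900000000000000000100000007300007305207905904900000000000000009100000009a,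
  0xd30000000000000d30b20000000000d90b909900000008300000000100008b06a0000000000810610490000000a90000000a1,
  0xdb0000000cb0000000000000000000000db0a20000c309a0000000010d90a10610c10990510000000000000000b9,
  0xd90000000000000000b90000000000000000910000000010000000710000000c10000000cb,
  0xc90000000000000000b90000000a10000000810000000010000000d9000000000]

noncomputable def tabNG2 : ℕ := pack 168 [
  0xd10890a90b10690c1031099041059079021000000,
  0xc90d10b10990a1079089051069041021039000000]

noncomputable def certG2 : Cert := mkCert chevG2 36 tabUG2 tabNG2
  0xab9b9a9989987887777675658888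
  0xa999bab98998788757567767
  0x10100000102030100000101
  [7, 6] [(7, 6, [(11, 0, 1, 3, 2)]), (7, 8, [(11, 0, 3, 1, 2)]), (6, 7, [(9, 0, 1, 1, 2), (10, 1, 1, 1, 3), (11, 1, 2, 2, 3)])]

noncomputable def twG2 : Twist := mkTwist 0x9080b0a0607040501000302 [1, 0]
  0x0 0x5fd7f5

theorem cPG2_0 : allIn 0 12 (chkP chevG2 certG2.T) = true := by decide +kernel

theorem cPG2 : allIn 0 12 (chkP chevG2 certG2.T) = true :=
  cPG2_0

theorem cAG2_0 : allIn 0 12 (chkA (chevG2.rank + chevG2.nroots) certG2.T) = true := by decide +kernel

theorem cAG2 : allIn 0 12 (chkA (chevG2.rank + chevG2.nroots) certG2.T) = true :=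
  cAG2_0

theorem cGG2_0 : allIn 0 12 (certG2.chkG chevG2.rank chevG2.nroots) = true := by decide +kernel

theorem cGG2 : allIn 0 12 (certG2.chkG chevG2.rank chevG2.nroots) = true :=
  cGG2_0

theorem cNG2_0 : allIn 0 2 (certG2.chkN chevG2.rank chevG2.nroots .id 0) = true := by decide +kernel

theorem cNG2 : allIn 0 2 (certG2.chkN chevG2.rank chevG2.nroots .id 0) = true :=
  cNG2_0

theorem cNtG2_0 : allIn 0 2 (certG2.chkN chevG2.rank chevG2.nroots twG2 3) = true := by decide +kernel

theorem cNtG2 : allIn 0 2 (certG2.chkN chevG2.rank chevG2.nroots twG2 3) = true :=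
  cNtG2_0

theorem cCG2_0 : allIn 0 2 (certG2.chkCs chevG2.rank chevG2.nroots .id 0) = true := by decide +kernel

theorem cCG2 : allIn 0 2 (certG2.chkCs chevG2.rank chevG2.nroots .id 0) = true :=
  cCG2_0

theorem cCtG2_0 : allIn 0 2 (certG2.chkCs chevG2.rank chevG2.nroots twG2 3) = true := by decide +kernel

theorem cCtG2 : allIn 0 2 (certG2.chkCs chevG2.rank chevG2.nroots twG2 3) = true :=
  cCtG2_0

theorem goodG2 : certG2.Good chevG2 where
  rep := Rep.of_chkP (of_allIn cPG2)
  add := of_allIn cAG2
  grade := of_allIn cGG2
  hN := by decide +kernel
  hN0 := mkCert_N _ _ _ _ _ _ _ _ _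
  hNe := by decide +kernel
  hH := by decide +kernel
  hH0 := by decide +kernel
  hHs := by decide +kernel
  wt0 := by decide +kernel
  simple := by decide +kernel
  inj := by decide +kernel
  sign := by decide +kernel
  red := by decide +kernel
  refl := by decide +kernel
  wd := by decide +kernel
  wit := by decide +kernel

theorem goodIG2 : certG2.GoodT chevG2 .id 0 :=
  ⟨by decide +kernel, by decide +kernel, of_allIn cNG2, of_allIn cCG2⟩

theorem goodTG2 : certG2.GoodT chevG2 twG2 3 :=
  ⟨by decide +kernel, by decide +kernel, of_allIn cNtG2, of_allIn cCtG2⟩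

end Cfsg.Lie.Chk
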