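import Cfsg.Agent.Lie.TwBase
import Cfsg.Agent.Lie.SzLie
import Cfsg.Agent.Lie.TabF4
import Cfsg.Agent.Lie.TabG2
import Cfsg.Prelude.Def_LieTwisted

/-! The Ree groups `²F₄(q)` and `²G₂(q)`. -/

set_option autoImplicit false

namespace Cfsg.Lie.Chk

open RGD

theorem orbF4_two : ∀ r ∈ [(f4p1, f4p4), (f4m1, f4m4)], rel 2 chevF4.nroots
    (chevF4.rank + chevF4.nroots) certF4.T ([(r.1, 0, 1, 2), (r.2, 0, 1, 3)].map twF4.tw)
    ([(r.1, 0, 1, [3]), (r.2, 0, 1, .replicate 2 2)].map encE) = true ∧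
    ∃ i < chevF4.rank, ∃ e, certF4.chkS chevF4.rank chevF4.nroots twF4 e i [r.1, r.2] = true := by
  decide +kernel

theorem orbF4_four : ∀ r ∈ [(f4a, f4b, f4ab, f4aab), (f4ma, f4mb, f4mab, f4maab)], rel 2
    chevF4.nroots (chevF4.rank + chevF4.nroots) certF4.T ([(r.1, 0, 1, 2), (r.2.1, 0, 1, 3),
      (r.2.2.1, 0, 1, 5), (r.2.2.2, 0, 1, 7)].map twF4.tw) ([(r.1, 0, 1, [3]), (r.2.1, 0, 1, [2, 2]),
      (r.2.2.1, 0, 1, [2, 2, 3]), (r.2.2.1, 0, 1, [7]), (r.2.2.2, 0, 1, [5, 5]),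
      (r.2.2.2, 0, 1, [2, 2, 3, 3])].map encE) = true ∧ ∃ i < chevF4.rank, ∃ e,
      certF4.chkS chevF4.rank chevF4.nroots twF4 e i [r.1, r.2.1, r.2.2.1, r.2.2.2] = true := by
  decide +kernel

theorem orbF4 : ∀ i < chevF4.rank,
    (certF4.chkS chevF4.rank chevF4.nroots twF4 false i [f4m1, f4m4] = true ∧
      certF4.chkJ chevF4.rank chevF4.nroots twF4 i [f4p1, f4p4] = true) ∨
    certF4.chkS chevF4.rank chevF4.nroots twF4 false i [f4ma, f4mb, f4mab, f4maab] = true ∧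
      certF4.chkS chevF4.rank chevF4.nroots twF4 true i [f4a, f4b, f4ab, f4aab] = true ∧
      certF4.chkJ chevF4.rank chevF4.nroots twF4 i [f4a, f4b, f4ab, f4aab] = true := by
  decide +kernel

theorem orbF4' : (certF4.chkU chevF4.rank chevF4.nroots 1 [f4p1, f4p4] = true ∧
    certF4.chkU chevF4.rank chevF4.nroots (-1) [f4m1, f4m4] = true ∧
    certF4.chkTow chevF4.rank chevF4.nroots twF4 2 [f4p1, f4p4] = true) ∧
    (certF4.chkU chevF4.rank chevF4.nroots 1 [f4a, f4b, f4ab, f4aab] = true ∧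
    certF4.chkU chevF4.rank chevF4.nroots (-1) [f4ma, f4mb, f4mab, f4maab] = true ∧
    certF4.chkTow chevF4.rank chevF4.nroots twF4 2 [f4a, f4b, f4ab, f4aab] = true) ∧
    rel 2 chevF4.nroots (chevF4.rank + chevF4.nroots) certF4.T ([(f4p1, 0, 1, [2]),
      (f4p4, 0, 1, [3]), (f4p4, 0, 1, [5]), (f4p1, 0, 1, [2]), (f4p4, 0, 1, [3]),
      (f4p4, 0, 1, [5])].map encE) ([].map encE) = true ∧
    rel 2 chevF4.nroots (chevF4.rank + chevF4.nroots) certF4.T ([(f4a, 0, 1, [2]),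
      (f4b, 0, 1, [3]), (f4ab, 0, 1, [5]), (f4aab, 0, 1, [7]), (f4a, 0, 1, [11]), (f4b, 0, 1, [13]),
      (f4ab, 0, 1, [17]), (f4aab, 0, 1, [19])].map encE) ([(f4a, 0, 1, [2]), (f4a, 0, 1, [11]),
      (f4b, 0, 1, [3]), (f4b, 0, 1, [13]), (f4ab, 0, 1, [5]), (f4ab, 0, 1, [17]),
      (f4ab, 0, 1, [3, 11]), (f4aab, 0, 1, [7]), (f4aab, 0, 1, [19]),
      (f4aab, 0, 1, [3, 11, 11])].map encE) = true := by decide +kernel

theorem orbG2 : ∀ r ∈ [(0, g2a, g2b, g2ab, g2aab, g2aaab, g2aaabb),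
    (1, g2ma, g2mb, g2mab, g2maab, g2maaab, g2maaabb)], rel 3 chevG2.nroots
    (chevG2.rank + chevG2.nroots) certG2.T ([(r.2.1, 0, 1, 2), (r.2.2.1, 0, 1, 3),
      (r.2.2.2.1, 0, 1, 5), (r.2.2.2.2.1, 0, 1, 7), (r.2.2.2.2.2.1, 0, 1, 11),
      (r.2.2.2.2.2.2, 0, 1, 13)].map twG2.tw) ([(r.2.1, 0, 1, [3]), (r.2.2.1, 0, 1, [2, 2, 2]),
      (r.2.2.2.1, r.1, 1, [2, 2, 2, 3]), (r.2.2.2.1, 0, 1, [11]),
      (r.2.2.2.2.1, 0, 1, [2, 2, 2, 3, 3]), (r.2.2.2.2.1, 0, 1, [13]),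
      (r.2.2.2.2.2.1, 0, 1, [5, 5, 5]), (r.2.2.2.2.2.1, r.1 + 1, 1, [2, 2, 2, 3, 3, 3]),
      (r.2.2.2.2.2.2, 0, 1, [7, 7, 7]),
      (r.2.2.2.2.2.2, 1, 1, [2, 2, 2, 2, 2, 2, 3, 3, 3])].map encE) = true := by decide +kernel

theorem orbG2' : (∀ i < chevG2.rank, certG2.chkS chevG2.rank chevG2.nroots twG2 false i
      [g2ma, g2mb, g2mab, g2maab, g2maaab, g2maaabb] = true ∧
    certG2.chkS chevG2.rank chevG2.nroots twG2 true i
      [g2a, g2b, g2ab, g2aab, g2aaab, g2aaabb] = true ∧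
    certG2.chkJ chevG2.rank chevG2.nroots twG2 i [g2a, g2b, g2ab, g2aab, g2aaab, g2aaabb] = true) ∧
    certG2.chkU chevG2.rank chevG2.nroots 1 [g2a, g2b, g2ab, g2aab, g2aaab, g2aaabb] = true ∧
    certG2.chkU chevG2.rank chevG2.nroots (-1) [g2ma, g2mb, g2mab, g2maab, g2maaab, g2maaabb] = true ∧
    certG2.chkTow chevG2.rank chevG2.nroots twG2 3 [g2a, g2b, g2ab, g2aab, g2aaab, g2aaabb] = true ∧
    [g2a, g2b, g2ab, g2aab, g2aaab, g2aaabb].map (chevG2.negIdx.getD · 0) =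
      [g2ma, g2mb, g2mab, g2maab, g2maaab, g2maaabb] := by decide +kernel

variable {K : Type*} [Field K] [Finite K] (φ : K →+* K) {q : ℕ} (hq : ∀ t, t ^ q = φ t)
include hq

theorem lie_2F4 [CharP K 2] (h2 : ∀ t, φ (φ t) ^ 2 = t) (h3 : ∃ a : K, a ^ 2 ≠ a) :
    LieRigid 2 (twistedF4 K q) ∧ ∀ P : Sylow 2 (twistedF4 K q), AbExp 2 P.toSubgroup := by
  let S : Sys certF4 chevF4 K := ⟨twF4, 2, φ, goodF4, goodTF4, .inr ⟨Nat.prime_two, ‹_›⟩⟩
  have hφ : S.φ = φ := rfl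
  have h0 := CharTwo.two_eq_zero (R := K)
  have h1 : ∀ r ∈ [(f4a, f4b, f4ab, f4aab), (f4ma, f4mb, f4mab, f4maab)], ∀ a b c d : K,
      S.zw [(r.1, a), (r.2.1, b), (r.2.2.1, c), (r.2.2.2, d)] = S.good.gw [(r.1, φ b),
      (r.2.1, φ a ^ 2), (r.2.2.1, φ a ^ 2 * φ b + φ d), (r.2.2.2, φ c ^ 2 + φ a ^ 2 * φ b ^ 2)] := by
    intro r hr a b c d
    obtain ⟨mon, rfl, rfl, rfl, rfl, -⟩ := exists_mon8 a b c d 1 1 1 1
    simpa [Sys.zw, Cert.Good.gw, val, Cert.Good.gx_add, sq, mul_assoc] using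
      S.collect (orbF4_four r hr).1 mon
  have h4 : ∀ r ∈ [(f4a, f4b, f4ab, f4aab), (f4ma, f4mb, f4mab, f4maab)], ∀ t u : K,
      S.zw (b2ClassWord q r.1 r.2.1 r.2.2.1 r.2.2.2 t u) =
      S.good.gw (b2ClassWord q r.1 r.2.1 r.2.2.1 r.2.2.2 t u) := fun r hr t u => by
    have := h2 t
    have := h2 u
    rw [b2ClassWord, h1 r hr, pow_succ t, mul_comm 2, pow_mul, hq, hq]
    simp only [map_add, map_mul, map_pow]
    congr 6 <;> grind
  have h5 : ∀ c : ℕ → K, S.zw ([f4a, f4b, f4ab, f4aab].map fun r => (r, c r)) =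
      S.good.gw ([f4a, f4b, f4ab, f4aab].map fun r => (r, c r)) →
      [f4a, f4b, f4ab, f4aab].map (fun r => (r, c r)) =
        b2ClassWord q f4a f4b f4ab f4aab (c f4b) (φ (c f4aab)) := fun c hc => by
    have := S.good.gw_inj orbF4'.2.1.1 (by rfl) (by rfl)
      ((h1 (f4a, f4b, f4ab, f4aab) (by simp) _ _ _ _).symm.trans hc)
    simp only [List.map_cons, List.cons.injEq, Prod.mk.injEq, true_and] at this
    simp only [b2ClassWord, pow_succ _ q, mul_comm 2, pow_mul, hq, h2, List.map_cons, List.map_nil]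
    congr 6 <;> grind
  refine (S.lie_words goodIF4 2 (f4Words K q) ?_ (fun i hi => ?_) fun i hi => ?_).imp_right
    fun h => h 2 fun i => ?_
  · rintro _ (⟨t, rfl | rfl⟩ | ⟨t, u, rfl | rfl⟩)
    · exact ⟨by rw [f4PairWord, S.zw_two (orbF4_two (f4p1, f4p4) (by simp)).1, hφ, hq, h2],
        (orbF4_two (f4p1, f4p4) (by simp)).2⟩
    · exact ⟨by rw [f4PairWord, S.zw_two (orbF4_two (f4m1, f4m4) (by simp)).1, hφ, hq, h2],
        (orbF4_two (f4m1, f4m4) (by simp)).2⟩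
    · exact ⟨h4 (f4a, f4b, f4ab, f4aab) (by simp) t u,
        (orbF4_four (f4a, f4b, f4ab, f4aab) (by simp)).2⟩
    · exact ⟨h4 (f4ma, f4mb, f4mab, f4maab) (by simp) t u,
        (orbF4_four (f4ma, f4mb, f4mab, f4maab) (by simp)).2⟩
  · rcases orbF4 i hi with h | h
    · exact ⟨_, .inl ⟨1, .inr rfl⟩, h.1, S.good.gw_ne_one orbF4'.1.2.1 rfl (by simp [f4PairWord])⟩
    · exact ⟨_, .inr ⟨1, 0, .inr rfl⟩, h.1, S.good.gw_ne_one orbF4'.2.1.2.1 rfl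
        (by simp [b2ClassWord])⟩
  · rcases orbF4 i hi with h | h
    · refine ⟨_, h.2, orbF4'.1.2.2, fun c hc => .inl ⟨c f4p4, .inl ?_⟩⟩
      have := S.good.gw_inj orbF4'.1.1 (by rfl) (by rfl)
        ((S.zw_two (orbF4_two (f4p1, f4p4) (by simp)).1 _ _).symm.trans hc)
      simp only [List.map_cons, List.cons.injEq, Prod.mk.injEq, true_and, hφ] at this
      simp [f4PairWord, hq, this.1]
    · exact ⟨_, h.2.2, orbF4'.2.1.2.2, fun c hc => .inr ⟨_, _, .inl (h5 c hc)⟩⟩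
  rcases orbF4 i i.2 with h | h
  · exact S.abExp_of_sq goodIF4 i h.2 orbF4'.1.2.2 fun c => by
      simpa [Cert.Good.gw] using S.good.gw_sq orbF4'.2.2.1 (c f4p1) (c f4p4) 0
  let θ := (frobenius K 2).comp φ
  have hθ : ∀ x, θ x = φ x ^ 2 := fun _ => rfl
  let ψ : SzU θ →* GL chevF4.Idx K := MonoidHom.mk' (fun u =>
    S.good.gw (b2ClassWord q f4a f4b f4ab f4aab (θ u.a) u.b)) fun u v => by
    obtain ⟨mon, e1, e2, e3, e4, e5, e6, e7, e8⟩ := exists_mon8 u.a (θ u.a) (u.a * θ u.a + u.b)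
      (θ u.b) v.a (θ v.a) (v.a * θ v.a + v.b) (θ v.b)
    have h6 : ∀ a b, b2ClassWord q f4a f4b f4ab f4aab (θ a) b =
        [(f4a, a), (f4b, θ a), (f4ab, a * θ a + b), (f4aab, θ b)] := fun a b => by
      simp [b2ClassWord, pow_succ _ q, mul_comm 2, pow_mul, hq, h2, hθ]
    have := S.good.gw_rel (CharP.cast_eq_zero K 2) orbF4'.2.2.2 mon
    rw [h6, h6, h6, show (u * v).a * θ (u * v).a + (u * v).b = u.a * θ u.a + u.b +
      (v.a * θ v.a + v.b + θ u.a * v.a) by simp; grind, show θ (u * v).b = θ u.b + (θ v.b +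
      θ u.a * (v.a * v.a)) by simp [hθ, h2]; grind]
    simpa only [Cert.Good.gw, Cert.Good.gx_add, mul_assoc, e1, e2, e3, e4, e5, e6, e7, e8,
      List.map_cons, List.map_nil, List.prod_cons, List.prod_nil, mul_one, pow_zero, Nat.cast_one,
      one_mul, SzU.mul_a, map_add θ u.a] using this.symm
  convert (SzU.abExp (θ := θ) (fun x => by simp [hθ, h2]) (by
    obtain ⟨a, ha⟩ := h3
    by_contra! h
    exact ha (by simpa [hθ, h2] using (h _).trans (h a)))).map (ψ.prod ψ)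
  refine le_antisymm (fun g hg => ?_) ?_
  · obtain ⟨c, rfl⟩ := S.exists_nf_res' goodIF4 i h.2.2 orbF4'.2.1.2.2 hg.1
    have h6 : (S.good.gw _) = S.zw _ := hg.2
    refine ⟨⟨φ (c f4b), φ (c f4aab)⟩, trivial, ?_⟩
    rw [← h6, h5 c h6.symm]
    simp [ψ, hθ, h2]
  · rintro _ ⟨u, -, rfl⟩
    have := S.mem_res goodIF4 i (w := b2ClassWord q f4a f4b f4ab f4aab (θ u.a) u.b) h.2.1
    rw [h4 (f4a, f4b, f4ab, f4aab) (by simp)] at this
    exact ⟨XS_mono (fun _ _ h => by simpa using h) this, rfl⟩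

theorem lie_2G2 [CharP K 3] (h2 : ∀ t, φ (φ t) ^ 3 = t) : LieRigid 3 (twistedG2 K q) := by
  let S : Sys certG2 chevG2 K := ⟨twG2, 3, φ, goodG2, goodTG2, .inr ⟨Nat.prime_three, ‹_›⟩⟩
  have h0 : (3 : K) = 0 := CharP.cast_eq_zero K 3
  have h1 : ∀ r ∈ [(0, g2a, g2b, g2ab, g2aab, g2aaab, g2aaabb),
      (1, g2ma, g2mb, g2mab, g2maab, g2maaab, g2maaabb)], ∀ a b c d e f : K,
      S.zw [(r.2.1, a), (r.2.2.1, b), (r.2.2.2.1, c), (r.2.2.2.2.1, d), (r.2.2.2.2.2.1, e),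
        (r.2.2.2.2.2.2, f)] = S.good.gw [(r.2.1, φ b), (r.2.2.1, φ a ^ 3),
        (r.2.2.2.1, (-1) ^ r.1 * (φ a ^ 3 * φ b) + φ e), (r.2.2.2.2.1, φ a ^ 3 * φ b ^ 2 + φ f),
        (r.2.2.2.2.2.1, φ c ^ 3 + (-1) ^ (r.1 + 1) * (φ a ^ 3 * φ b ^ 3)),
        (r.2.2.2.2.2.2, φ d ^ 3 + -(φ a ^ 6 * φ b ^ 3))] := by
    intro r hr a b c d e f
    obtain ⟨mon, rfl, rfl, rfl, rfl, rfl, rfl, -⟩ := exists_mon8 a b c d e f 1 1
    simpa [Sys.zw, Cert.Good.gw, val, Cert.Good.gx_add, pow_succ (φ _), mul_assoc] using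
      S.collect (orbG2 r hr) mon
  have h3 : ∀ t u v : K, reeWordV q t u v = [(g2ma, -φ t), (g2mb, -t), (g2mab, -(φ t * t + φ u)),
      (g2maab, -(φ t ^ 2 * t + φ v)), (g2maaab, -u), (g2maaabb, -v)] := fun t u v => by
    have := orbG2'.2.2.2.2
    simp only [List.map_cons, List.cons.injEq] at this
    simp only [reeWordV, reeWordU, ChevalleyDatum.negWord, List.map_cons, List.map_nil, this,
      pow_succ t, mul_comm 2, pow_mul, hq]
  have h4 : ∀ t u v : K, reeWordU q t u v = [(g2a, φ t), (g2b, t), (g2ab, φ t * t + φ u),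
      (g2aab, φ t ^ 2 * t + φ v), (g2aaab, u), (g2aaabb, v)] := fun t u v => by
    simp only [reeWordU, pow_succ t, mul_comm 2, pow_mul, hq]
  refine (S.lie_words goodIG2 3 (g2Words K q) ?_ (fun i hi => ?_) fun i hi => ?_).1
  · rintro _ ⟨t, u, v, h⟩
    have := h2 t
    have := h2 u
    have := h2 v
    rcases h with rfl | rfl
    · refine ⟨?_, 0, two_pos, _, (orbG2'.1 0 two_pos).2.1⟩
      rw [h4, h1 (0, g2a, g2b, g2ab, g2aab, g2aaab, g2aaabb) (by simp)]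
      simp only [map_add, map_mul, map_pow]
      congr 1
      simp only [List.cons.injEq, Prod.mk.injEq, true_and, and_true]
      refine ⟨?_, ?_, ?_, ?_, ?_⟩ <;> grind
    · rw [h3]
      refine ⟨?_, 0, two_pos, _, (orbG2'.1 0 two_pos).1⟩
      rw [h1 (1, g2ma, g2mb, g2mab, g2maab, g2maaab, g2maaabb) (by simp)]
      simp only [map_add, map_mul, map_pow, map_neg]
      congr 1
      simp only [List.cons.injEq, Prod.mk.injEq, true_and, and_true]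
      refine ⟨?_, ?_, ?_, ?_, ?_⟩ <;> grind
  · refine ⟨_, ⟨1, 0, 0, .inr rfl⟩, ?_⟩
    rw [h3]
    exact ⟨(orbG2'.1 i hi).1, S.good.gw_ne_one orbG2'.2.2.1 rfl (by simp)⟩
  · refine ⟨_, (orbG2'.1 i hi).2.2, orbG2'.2.2.2.1, fun c hc =>
      ⟨c g2b, c g2aaab, c g2aaabb, .inl ?_⟩⟩
    have := S.good.gw_inj orbG2'.2.1 (by rfl) (by rfl)
      ((h1 (0, g2a, g2b, g2ab, g2aab, g2aaab, g2aaabb) (by simp) _ _ _ _ _ _).symm.trans hc)
    simp only [List.map_cons, List.cons.injEq, Prod.mk.injEq, true_and] at this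
    rw [h4]
    simp only [List.map_cons, List.map_nil]
    congr 6 <;> grind

end Cfsg.Lie.Chk
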