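import Cfsg.Agent.Lie.TwE6D4
import Cfsg.Agent.Lie.TwF4G2
import Cfsg.Agent.Lie.TabE7
import Cfsg.Agent.Lie.TabE8
import Cfsg.Agent.Lie.Classical
import Cfsg.Prelude.Def_LieTypeChar

/-! Sylow subgroups of simple groups of Lie type in the defining characteristic. -/

set_option autoImplicit false

namespace Cfsg

open _root_.Cfsg.Lie Lie.Chk

theorem lie_type_sylow {G : Type*} [Group G] [Finite G] [IsSimpleGroup G] (p : ℕ) [Fact p.Prime]
    (hG : IsLieTypeChar p G) :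
    LieRigid p G ∧ (p = 2 → ∀ P : Sylow p G, AbExp 2 (P : Subgroup G)) := by
  have key : ∀ {H : Type} [Group H] [Finite H], Nonempty (G ≃* H) →
      LieRigid p H ∧ (p = 2 → ∀ P : Sylow p H, AbExp 2 (P : Subgroup H)) →
      LieRigid p G ∧ (p = 2 → ∀ P : Sylow p G, AbExp 2 (P : Subgroup G)) := fun ⟨e⟩ h =>
    ⟨h.1.of_mulEquiv e, fun hp => sylow_abExp_of_mulEquiv e (h.2 hp)⟩
  have hcl := fun h => And.intro (lieRigid_classical (G := G) p h)
    fun (hp : p = 2) (P : Sylow p G) => (by subst hp; exact abExp_classical h P : AbExp 2 P.toSubgroup)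
  have hq : ∀ (K : Type) [Field K] [Fintype K] [CharP K p] {q n : ℕ}, IsPrimePow q →
      Fintype.card K = q ^ n → ∃ φ : K →+* K, (∀ t, t ^ q = φ t) ∧ ∀ t : K, t ^ q ^ n = t := by
    intro K _ _ _ q n hq hK
    obtain ⟨p', k, hp', -, rfl⟩ := (isPrimePow_nat_iff _).1 hq
    obtain rfl := CharP.eq K ‹CharP K p› (charP_of_card hp' (hK.trans (pow_mul _ _ _).symm))
    exact ⟨iterateFrobenius K p k, fun _ => rfl, fun t => hK ▸ FiniteField.pow_card t⟩
  rcases hG with h | h | h | h | h | h | ⟨F, _, _, _, h⟩ | ⟨K, _, _, _, q, h1, ⟨h2, e⟩ | ⟨h2, e⟩⟩ |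
    ⟨rfl, h⟩ | ⟨rfl, K, _, _, m, hm, hK, e⟩ | ⟨rfl, K, _, _, m, hm, hK, e⟩
  iterate 6 exact hcl (by tauto)
  · rcases h with ⟨-, e⟩ | e | e | e | e
    · exact key e ((goodG2.chev goodIG2 p).imp_right fun h hp => hp ▸ h)
    · exact key e ((goodF4.chev goodIF4 p).imp_right fun h hp => hp ▸ h)
    · exact key e ((goodE6.chev goodIE6 p).imp_right fun h hp => hp ▸ h)
    · exact key e ((goodE7.chev goodIE7 p).imp_right fun h hp => hp ▸ h)
    · exact key e ((goodE8.chev goodIE8 p).imp_right fun h hp => hp ▸ h)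
  · obtain ⟨φ, h3, h4⟩ := hq K h1 h2
    exact key e (lie_2E6 p φ h3 fun t => by rw [← h3, ← h3, ← pow_mul, ← sq, h4])
  · obtain ⟨φ, h3, h4⟩ := hq K h1 h2
    exact key e (lie_3D4 p φ h3 fun t => by
      rw [← h3, ← h3, ← h3, ← pow_mul, ← pow_mul, ← sq, ← pow_succ', h4])
  · exact (lie_suzuki h).imp_right fun h _ => h
  · have := charP_of_card Nat.prime_two hK
    exact key e ((lie_2F4 (iterateFrobenius K 2 m) (fun _ => rfl) (exists_theta K 2 hK)
      (exists_sq_ne (hK ▸ lt_of_lt_of_le (by norm_num) (Nat.pow_le_pow_right two_pos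
      (by omega : 2 ≤ 2 * m + 1))))).imp_right fun h _ => h)
  · have := charP_of_card Nat.prime_three hK
    exact key e ⟨lie_2G2 (iterateFrobenius K 3 m) (fun _ => rfl) (exists_theta K 3 hK), by simp⟩

end Cfsg
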