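import Cfsg.Agent.Lie.ChkTab
import Cfsg.Agent.Grp.RGDTw

/-! Certificates for Chevalley data, and their first consequences. -/

set_option autoImplicit false

namespace Cfsg.Lie.Chk

open Matrix

/-- auxiliary tables: columns of `x_r - 1`, of `n_i`, weights, coroots, (negative) simple roots,
extra factors in the commutator formula, columns witnessing injectivity of `x_r` -/
structure Cert where
  T : ℕ → ℕ → VL
  N : ℕ → ℕ → VL
  R : ℕ → ℕ → ℕ
  H : ℕ → VL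
  sp : ℕ → ℕ
  ng : ℕ → ℕ
  ex : ℕ → ℕ → List (ℕ × ℕ × ℕ × ℕ × ℕ)
  wit : ℕ → ℕ

/-- twisting data `x_r(t) ↦ x_{β r}((-1)^(sg r) φ(t)^(lam r))` -/
structure Twist where
  β : ℕ → ℕ
  β0 : ℕ → ℕ
  sg : ℕ → ℕ
  lam : ℕ → ℕ

/-- the trivial twist -/
def Twist.id : Twist := ⟨fun r => r, fun i => i, fun _ => 0, fun _ => 1⟩

noncomputable section

def hd (L : VL) : ℕ := VL.rec 0 (fun i _ _ _ _ => i) L

def Twist.tw (τ : Twist) (f : Fc) : Fc :=
  (τ.β f.1, τ.sg f.1 + f.2.1 * τ.lam f.1, f.2.2.1 ^ τ.lam f.1, f.2.2.2 ^ τ.lam f.1)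

variable (C : Cert) (l n : ℕ)

def Cert.σ (i r : ℕ) : ℕ := hd (C.N i (l + r)) / 2 - l
def Cert.η (i r : ℕ) : ℕ := hd (C.N i (l + r)) % 2
def Cert.key (j : ℕ) : ℕ := Nat.rec 0 (fun a ih => 16 * ih + C.R j a) l
def Cert.A (i b : ℕ) : ℤ := C.R (l + C.sp b) i - C.R (l + C.σ l i (C.sp b)) i
def Cert.pos (r : ℕ) : Bool := allLt l fun a => Nat.ble 8 (C.R (l + r) a)

def Cert.wd (r s : ℕ) : List (ℕ × ℕ × ℕ × ℕ × ℕ) := (s, 0, 1, 0, 1) ::
  VL.rec (C.ex r s) (fun i k z _ ih => (i / 2 - l, i % 2, z, k, 1) :: ih) (C.T r (l + s))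

def Cert.chkG (r : ℕ) : Bool := allLt (l + n) fun j => allV (fun i k => Nat.ble 1 k &&
  allLt l fun a => Nat.beq (C.R (i / 2) a + 8 * k) (C.R j a + k * C.R (l + r) a)) (C.T r j)

def Cert.chkH (i : ℕ) : Bool := allLt n fun r =>
  isZ 0 (act (C.N i) 0 1 1 (C.H r) (act1 0 1 1 1 1 1 (C.H (C.σ l i r)) .nil))

def Cert.chkD (r s : ℕ) : Bool := (C.wd l r s).all fun f => 0 < f.2.2.2.2 && f.1 < n &&
  allLt l fun x => Nat.beq (C.R (l + f.1) x + 8 * (f.2.2.2.1 + f.2.2.2.2))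
    (8 + f.2.2.2.1 * C.R (l + r) x + f.2.2.2.2 * C.R (l + s) x)

def Cert.chkC (τ : Twist) (p r s : ℕ) : Bool :=
  rel p n (l + n) C.T ([(r, 0, 1, 2), (s, 0, 1, 3)].map τ.tw) ((((C.wd l r s).map
    fun f : ℕ × ℕ × ℕ × ℕ × ℕ => (f.1, f.2.1, f.2.2.1, 2 ^ f.2.2.2.1 * 3 ^ f.2.2.2.2)) ++ [(r, 0, 1, 2)]).map τ.tw)

def Cert.chkCs (τ : Twist) (p i : ℕ) : Bool := allLt n fun r =>
  !C.pos l r || Nat.beq r (C.sp i) || C.chkC l n τ p (C.sp i) r

def Cert.chkN (τ : Twist) (p i : ℕ) : Bool := allLt n fun r =>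
  relN p (l + n) (C.N (τ.β0 i)) (C.T (τ.β r)) (C.T (τ.β (C.σ l i r))) (τ.sg r) (2 ^ τ.lam r)
    (τ.sg (C.σ l i r) + C.η l i r * τ.lam (C.σ l i r)) (2 ^ τ.lam (C.σ l i r))

end

/-- the checks on a certificate -/
structure Cert.Good (C : Cert) (D : ChevalleyDatum) : Prop where
  rep : Rep D C.T
  add : ∀ r < D.nroots, chkA (D.rank + D.nroots) C.T r = true
  grade : ∀ r < D.nroots, C.chkG D.rank D.nroots r = true
  hN : ∀ i < D.rank, chkW (D.rank + D.nroots) C.T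
    [(C.sp i, 0, 1, 1), (C.ng i, 1, 1, 1), (C.sp i, 0, 1, 1)] (C.N i) = true
  hN0 : ∀ i j, D.rank + D.nroots ≤ j → C.N i j = .nil
  hNe : ∀ i < D.rank, ∀ r < D.nroots, C.σ D.rank i r < D.nroots ∧ (C.N i (D.rank + r)).beq
    (.cons (2 * (D.rank + C.σ D.rank i r) + C.η D.rank i r) 1 1 .nil) = true
  hH : ∀ i < D.rank, C.chkH D.rank D.nroots i = true
  hH0 : ∀ r < D.nroots, allV (fun i _ => i / 2 < D.rank) (C.H r) = true
  hHs : ∀ i < D.rank, (C.H (C.sp i)).beq (.cons (2 * i) 1 1 .nil) = true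
  wt0 : ∀ j < D.rank, ∀ a < D.rank, C.R j a = 8
  simple : ∀ i < D.rank, C.sp i < D.nroots ∧ C.ng i < D.nroots ∧ C.A D.rank i i = 2 ∧
    ∀ a < D.rank, C.R (D.rank + C.sp i) a = (if a = i then 9 else 8) ∧
      C.R (D.rank + C.ng i) a = if a = i then 7 else 8
  inj : ∀ r < D.nroots, ∀ s < r, C.key D.rank (D.rank + r) ≠ C.key D.rank (D.rank + s)
  sign : ∀ r < D.nroots, ((∀ a < D.rank, 8 ≤ C.R (D.rank + r) a) ∨
    ∀ a < D.rank, C.R (D.rank + r) a ≤ 8) ∧ ∃ a < D.rank, C.R (D.rank + r) a ≠ 8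
  red : ∀ r < D.nroots, ∀ i < D.rank, C.R (D.rank + r) i ≤ 9 ∨
    ∃ a < D.rank, a ≠ i ∧ C.R (D.rank + r) a ≠ 8
  refl : ∀ i < D.rank, ∀ r < D.nroots, ∀ a < D.rank, (C.R (D.rank + C.σ D.rank i r) a : ℤ) =
    C.R (D.rank + r) a - if a = i then ((List.range D.rank).map fun b =>
      ((C.R (D.rank + r) b : ℤ) - 8) * C.A D.rank i b).sum else 0
  wd : ∀ i < D.rank, ∀ r < D.nroots, C.pos D.rank r = true → C.chkD D.rank D.nroots (C.sp i) r = true
  wit : ∀ r < D.nroots, C.wit r < D.rank + D.nroots ∧ hd (C.T r (C.wit r)) / 2 < D.rank + D.nroots ∧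
    (C.T r (C.wit r)).beq (.cons (hd (C.T r (C.wit r))) 1 1 .nil) = true

/-- the checks on a twist -/
structure Cert.GoodT (C : Cert) (D : ChevalleyDatum) (τ : Twist) (p : ℕ) : Prop where
  lt : ∀ r < D.nroots, τ.β r < D.nroots ∧ C.pos D.rank (τ.β r) = C.pos D.rank r ∧
    (τ.lam r = 1 ∨ τ.lam r = p ∧ p ≠ 0) ∧ ∀ i < D.rank, τ.lam (C.sp i) *
      ((C.R (D.rank + τ.β r) (τ.β0 i) : ℤ) - 8) = τ.lam r * ((C.R (D.rank + r) i : ℤ) - 8)
  simple : ∀ i < D.rank, τ.β0 i < D.rank ∧ τ.β (C.sp i) = C.sp (τ.β0 i) ∧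
    τ.β (C.ng i) = C.ng (τ.β0 i) ∧ τ.sg (C.sp i) = 0 ∧ τ.sg (C.ng i) = 0 ∧
    τ.lam (C.ng i) = τ.lam (C.sp i) ∧ (τ.β0 (τ.β0 i) = i ∨ τ.β0 (τ.β0 (τ.β0 i)) = i)
  conj : ∀ i < D.rank, C.chkN D.rank D.nroots τ p i = true
  comm : ∀ i < D.rank, C.chkCs D.rank D.nroots τ p i = true

variable {D : ChevalleyDatum} {K : Type*} [Field K] {C : Cert}

/-- weight of a basis vector -/
def Cert.wt (C : Cert) (D : ChevalleyDatum) (j : ℕ) : Fin D.rank → ℤ := fun a => C.R j a - 8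

/-- coordinates of a root -/
abbrev Cert.ρ (C : Cert) (D : ChevalleyDatum) (r : ℕ) : Fin D.rank → ℤ := C.wt D (D.rank + r)

/-- matrices shifting weights by elements of `P` -/
def Cert.Sup (C : Cert) (P : (Fin D.rank → ℤ) → Prop) (M : Matrix D.Idx D.Idx K) : Prop :=
  ∀ a b, ¬ P (C.wt D (enc D a) - C.wt D (enc D b)) → M a b = 0

variable {P Q S : (Fin D.rank → ℤ) → Prop} {M M' : Matrix D.Idx D.Idx K}

theorem Cert.Sup.mul (h : C.Sup P M) (h' : C.Sup Q M') (hS : ∀ μ ν, P μ → Q ν → S (μ + ν)) :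
    C.Sup S (M * M') := fun a b hab => by
  rw [mul_apply]
  refine Finset.sum_eq_zero fun c _ => ?_
  by_cases h1 : P (C.wt D (enc D a) - C.wt D (enc D c))
  · rw [h' c b fun h2 => hab (by simpa using hS _ _ h1 h2), mul_zero]
  · rw [h a c h1, zero_mul]

theorem Cert.Sup.mul_sub_one (h : C.Sup P (M - 1)) (h' : C.Sup P (M' - 1))
    (hP : ∀ μ ν, P μ → P ν → P (μ + ν)) : C.Sup P (M * M' - 1) := fun a b hab => by
  rw [show M * M' - 1 = (M - 1) * (M' - 1) + (M - 1) + (M' - 1) by noncomm_ring, Matrix.add_apply,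
    Matrix.add_apply, h.mul h' hP a b hab, h a b hab, h' a b hab, add_zero, add_zero]

/-- the unipotent group attached to a closed set of weights -/
def Cert.pat (C : Cert) (K : Type*) [Field K] (P : (Fin D.rank → ℤ) → Prop)
    (hP : ∀ μ ν, P μ → P ν → P (μ + ν)) : Subgroup (GL D.Idx K) where
  carrier := {g | C.Sup P (g.1 - 1) ∧ C.Sup P ((g⁻¹).1 - 1)}
  one_mem' := ⟨fun _ _ _ => by simp, fun _ _ _ => by simp⟩
  mul_mem' h h' := ⟨h.1.mul_sub_one h'.1 hP, by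
    rw [_root_.mul_inv_rev]; exact h'.2.mul_sub_one h.2 hP⟩
  inv_mem' h := ⟨h.2, h.1⟩

theorem Cert.isPGroup_pat (p : ℕ) [Fact p.Prime] [CharP K p] (C : Cert) (hP) :
    IsPGroup p (C.pat (D := D) K (fun μ => 0 < ∑ a, μ a) hP) := fun g => by
  have h1 : ∀ k : ℕ, C.Sup (fun μ => (k : ℤ) < ∑ a, μ a) ((g.1.1 - 1) ^ (k + 1)) := fun k => by
    induction k with
    | zero => simpa using g.2.1
    | succ k ih =>
      rw [pow_succ]
      exact ih.mul g.2.1 fun μ ν h h' => by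
        simp only [Pi.add_apply, Finset.sum_add_distrib]; push_cast; omega
  obtain ⟨k, hk⟩ := (Set.finite_range fun ab : D.Idx × D.Idx =>
    (∑ a, (C.wt D (enc D ab.1) - C.wt D (enc D ab.2)) a).toNat).bddAbove
  have h2 : (g.1.1 - 1) ^ (k + 1) = 0 := Matrix.ext fun a b => h1 k a b fun h => by
    have := hk ⟨(a, b), rfl⟩
    dsimp only at this
    omega
  refine ⟨k + 1, Subtype.ext (Units.ext ?_)⟩
  rcases isEmpty_or_nonempty D.Idx with h | h
  · exact Subsingleton.elim _ _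
  have h3 := pow_eq_zero_of_le (Nat.lt_pow_self (Fact.out : p.Prime).one_lt).le h2
  rwa [sub_pow_char_pow_of_commute _ _ (Commute.one_right _), one_pow, sub_eq_zero] at h3

namespace Cert.Good

variable (h : C.Good D) {r : ℕ}
include h

theorem of_grade (hr : r < D.nroots) (j : ℕ) {X : VL → Prop} (h0 : X .nil)
    (h1 : ∀ i k z tl, 1 ≤ k → C.wt D (i / 2) = C.wt D j + k • C.ρ D r → X tl → X (.cons i k z tl)) :
    X (C.T r j) := by
  by_cases hj : j < D.rank + D.nroots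
  swap
  · rwa [h.rep r hr, if_neg hj]
  have := of_allLt (h.grade r hr) j hj
  generalize C.T r j = L at this
  induction L with
  | nil => exact h0
  | cons i k z tl ih =>
    rw [allV_cons, Bool.and_eq_true] at this
    refine h1 i k z tl (Nat.le_of_ble_eq_true this.1.1) (funext fun a => ?_) (ih this.2)
    have := Nat.eq_of_beq_eq_true (of_allLt this.1.2 a a.2)
    rw [Pi.add_apply, Pi.smul_apply, nsmul_eq_mul]
    simp only [Cert.wt]
    zify at this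
    linear_combination this

theorem x_zero (r : ℕ) : D.x K r 0 = 1 := by
  by_cases hr : r < D.nroots
  swap
  · exact dif_neg hr
  refine ext_bv fun j _ => ?_
  rw [h.rep.x_bv hr, one_mulVec, add_eq_left]
  exact h.of_grade hr j (X := fun L => ev (bv D K) ((0 : K) ^ ·) L = 0) rfl
    fun i k z tl hk _ ih => by simp [ev, ih, show k ≠ 0 by omega]

theorem x_add (r : ℕ) (s t : K) : D.x K r (s + t) = D.x K r s * D.x K r t := by
  by_cases hr : r < D.nroots
  · exact h.rep.of_chkA hr (h.add r hr) s t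
  · simp [ChevalleyDatum.x, hr]

/-- root elements -/
def gx (r : ℕ) (t : K) : GL D.Idx K :=
  ⟨D.x K r t, D.x K r (-t), by rw [← h.x_add, add_neg_cancel, h.x_zero],
    by rw [← h.x_add, neg_add_cancel, h.x_zero]⟩

theorem gx_add (r : ℕ) (s t : K) : h.gx r (s + t) = h.gx r s * h.gx r t :=
  Units.ext (h.x_add r s t)

@[simp] theorem gx_zero (r : ℕ) : h.gx r (0 : K) = 1 := Units.ext (h.x_zero r)

theorem gx_neg (r : ℕ) (t : K) : h.gx r (-t) = (h.gx r t)⁻¹ :=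
  eq_inv_of_mul_eq_one_left (by rw [← gx_add, neg_add_cancel, gx_zero])

theorem gx_mem_pat (hr : r < D.nroots) {hP} (hρ : P (C.ρ D r)) (t : K) : h.gx r t ∈ C.pat K P hP := by
  have h1 : ∀ k : ℕ, P ((k + 1) • C.ρ D r) := fun k => by
    induction k with
    | zero => simpa using hρ
    | succ k ih => rw [succ_nsmul]; exact hP _ _ ih hρ
  have (t : K) : C.Sup P (D.x K r t - 1) := fun a b hab => by
    have := congrFun (h.rep.x_bv hr t (enc D b)) a
    rw [Pi.add_apply, ← sub_eq_iff_eq_add', bv_enc] at this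
    refine (by simpa [one_apply, Pi.single_apply] using this :
      _ = ev (bv D K) (t ^ ·) (C.T r (enc D b)) a).trans ?_
    refine h.of_grade hr _ (X := fun L => ev (bv D K) (t ^ ·) L a = 0) rfl fun i k z tl hk h2 ih => ?_
    obtain ⟨k, rfl⟩ := Nat.exists_eq_add_of_le' hk
    have : enc D a ≠ i / 2 := fun h3 => hab (by rw [h3, h2]; simpa using h1 k)
    simp [ev, ih, bv, this]
  exact ⟨this t, this (-t)⟩

theorem ρ_ne_zero (hr : r < D.nroots) : C.ρ D r ≠ 0 := fun h0 => by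
  obtain ⟨a, ha, h1⟩ := (h.sign r hr).2
  have := congrFun h0 ⟨a, ha⟩
  simp only [Cert.wt, Pi.zero_apply] at this
  omega

theorem ρ_sign (hr : r < D.nroots) : 0 ≤ C.ρ D r ∨ C.ρ D r ≤ 0 :=
  (h.sign r hr).1.imp (fun h a => by have := h a a.2; simp only [Cert.wt, Pi.zero_apply]; omega)
    fun h a => by have := h a a.2; simp only [Cert.wt, Pi.zero_apply]; omega

omit h in
theorem pos_iff : C.pos D.rank r = true ↔ 0 ≤ C.ρ D r := by
  refine ⟨fun h a => ?_, fun h => ?_⟩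
  · have := Nat.le_of_ble_eq_true (of_allLt h a a.2)
    simp only [Cert.wt, Pi.zero_apply]
    omega
  · have : ∀ k ≤ D.rank, allLt k (fun a => Nat.ble 8 (C.R (D.rank + r) a)) = true := fun k hk => by
      induction k with
      | zero => rfl
      | succ k ih =>
        have := h ⟨k, hk⟩
        simp only [Cert.wt, Pi.zero_apply] at this
        change Bool.rec false (allLt k _) (Nat.ble 8 (C.R (D.rank + r) k)) = true
        rw [Nat.ble_eq_true_of_le (by omega)]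
        exact ih (by omega)
    exact this _ le_rfl

theorem ρ_inj {s : ℕ} (hr : r < D.nroots) (hs : s < D.nroots) (h1 : C.ρ D r = C.ρ D s) : r = s := by
  have : ∀ k ≤ D.rank, C.key k (D.rank + r) = C.key k (D.rank + s) := fun k hk => by
    induction k with
    | zero => rfl
    | succ k ih =>
      have := congrFun h1 ⟨k, hk⟩
      simp only [Cert.wt] at this
      change 16 * C.key k _ + _ = 16 * C.key k _ + _
      rw [ih (by omega)]
      omega
  rcases lt_trichotomy r s with h2 | h2 | h2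
  exacts [(h.inj s hs r h2 (this _ le_rfl).symm).elim, h2, (h.inj r hr s h2 (this _ le_rfl)).elim]

theorem ρ_sp (i : Fin D.rank) : C.ρ D (C.sp i) = sr i := funext fun a => by
  simp only [Cert.wt, ((h.simple i i.2).2.2.2 a a.2).1, Pi.single_apply, Fin.ext_iff]
  split_ifs <;> rfl

theorem ρ_ng (i : Fin D.rank) : C.ρ D (C.ng i) = -sr i := funext fun a => by
  simp only [Cert.wt, ((h.simple i i.2).2.2.2 a a.2).2, Pi.single_apply, Fin.ext_iff, Pi.neg_apply]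
  split_ifs <;> rfl

theorem eq_zero_of_mem_pat (hr : r < D.nroots) {hP} (hρ : ¬ P (C.ρ D r)) {t : K}
    (ht : h.gx r t ∈ C.pat K P hP) : t = 0 := by
  obtain ⟨h1, h2, h3⟩ := h.wit r hr
  obtain ⟨b, hb⟩ := exists_enc h1
  obtain ⟨a, ha⟩ := exists_enc h2
  replace h3 := VL.eq_of_beq h3
  have h4 := h.of_grade hr (C.wit r) (X := fun L => ∀ i, L = .cons i 1 1 .nil →
    C.wt D (i / 2) = C.wt D (C.wit r) + C.ρ D r) (fun _ h => by cases h)
    (fun _ _ _ _ _ h _ _ h' => by cases h'; simpa using h) _ h3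
  have h5 := congrFun (h.rep.x_bv hr t (C.wit r)) a
  rw [h3, ← hb, bv_enc, mulVec_single_one, Pi.add_apply, ← sub_eq_iff_eq_add'] at h5
  have h6 := ht.1 a b (by rw [ha, hb, h4]; simpa using hρ)
  rw [Matrix.sub_apply, one_apply] at h6
  have h7 := h5.symm.trans (by simpa [Pi.single_apply, gx] using h6 : _ = (0 : K))
  simpa [ev, bv, ha, hb] using h7

/-- torus elements -/
def _root_.Cfsg.Lie.Chk.Cert.dg (C : Cert) (a : Fin D.rank) (c : Kˣ) : GL D.Idx K :=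
  ⟨diagonal fun x => (c ^ C.wt D (enc D x) a : Kˣ), diagonal fun x => (c ^ C.wt D (enc D x) a)⁻¹.1,
    by simp [-Units.val_zpow_eq_zpow_val], by simp [-Units.val_zpow_eq_zpow_val]⟩

omit h in
theorem dg_bv (a : Fin D.rank) (c : Kˣ) (j : ℕ) :
    (C.dg a c).1 *ᵥ bv D K j = (c ^ C.wt D j a : Kˣ).1 • bv D K j := by
  ext x
  by_cases h : enc D x = j <;> simp [Cert.dg, mulVec_diagonal, bv, h]

theorem dg_gx (hr : r < D.nroots) (a : Fin D.rank) (c : Kˣ) (t : K) :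
    C.dg a c * h.gx r t * (C.dg a c)⁻¹ = h.gx r ((c ^ C.ρ D r a : Kˣ) * t) := by
  rw [mul_inv_eq_iff_eq_mul]
  refine Units.ext (ext_bv fun j _ => ?_)
  change ((C.dg a c).1 * D.x K r t) *ᵥ _ = (D.x K r _ * (C.dg a c).1) *ᵥ _
  rw [← mulVec_mulVec, ← mulVec_mulVec, dg_bv, mulVec_smul, h.rep.x_bv hr, h.rep.x_bv hr,
    mulVec_add, dg_bv, smul_add, add_right_inj]
  refine h.of_grade hr j (X := fun L => (C.dg a c).1 *ᵥ ev (bv D K) (t ^ ·) L =
    (c ^ C.wt D j a : Kˣ).1 • ev (bv D K) (((c ^ C.ρ D r a : Kˣ) * t) ^ ·) L) (by simp [ev])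
    fun i k z tl _ h1 ih => ?_
  rw [ev, ev, mulVec_add, ih, mulVec_smul, dg_bv, h1, smul_add, smul_smul, smul_smul]
  congr 2
  rw [Pi.add_apply, Pi.smul_apply, nsmul_eq_mul, _root_.zpow_add, mul_comm (k : ℤ), _root_.zpow_mul,
    zpow_natCast]
  push_cast
  ring

end Cert.Good

end Cfsg.Lie.Chk
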