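import Cfsg.Prelude.Def_ChevWords

/-! A verified evaluator for identities between words in sparse matrices. -/

set_option autoImplicit false

namespace Cfsg.Lie.Chk

/-- sparse vectors: an entry `(i, M, a)` stands for `(-1)^i * a * (monomial M) * (basis vector i/2)` -/
inductive VL | nil | cons (i M a : ℕ) (tl : VL)

noncomputable section

def allLt (n : ℕ) (f : ℕ → Bool) : Bool := Nat.rec true (fun k ih => Bool.rec false ih (f k)) n

def allV (f : ℕ → ℕ → Bool) (L : VL) : Bool :=
  VL.rec true (fun i E _ _ ih => Bool.rec false ih (f i E)) L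

def act1 (s c M i E a : ℕ) (F acc : VL) : VL :=
  VL.rec acc (fun j k z _ ih => .cons (Nat.xor j (Nat.mod (Nat.add i (Nat.mul s k)) 2))
    (Nat.mul E (Nat.pow M k)) (Nat.mul a (Nat.mul z (Nat.pow c k))) ih) F

def act (f : ℕ → VL) (s c M : ℕ) (L acc : VL) : VL :=
  VL.rec acc (fun i E a _ ih => act1 s c M i E a (f (Nat.div i 2)) ih) L

def actX (f : ℕ → VL) (s c M : ℕ) (L acc : VL) : VL :=
  VL.rec acc (fun i E a _ ih => .cons i E a (act1 s c M i E a (f (Nat.div i 2)) ih)) L

/-- a factor `(r, s, c, M)` stands for `x_r((-1)^s * c * (monomial M))` -/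
abbrev Fc := ℕ × ℕ × ℕ × ℕ

/-- `(w - 1) (± e_j)` -/
def actW (T : ℕ → ℕ → VL) (w : List Fc) (j e : ℕ) : VL :=
  List.rec .nil (fun x _ ih => actX (T x.1) x.2.1 x.2.2.1 x.2.2.2 ih
    (act1 x.2.1 x.2.2.1 x.2.2.2 e 1 1 (T x.1 j) .nil)) w

def coef (L : VL) (i E : ℕ) : ℕ := VL.rec 0 (fun j M a _ ih =>
  Bool.rec ih (Bool.rec ih (Nat.add a ih) (Nat.beq M E)) (Nat.beq j i)) L

def isZ (p : ℕ) (L : VL) : Bool := allV (fun i E =>
  Nat.beq (Nat.mod (coef L i E) p) (Nat.mod (coef L (Nat.xor i 1) E) p)) L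

def app (L L' : VL) : VL := VL.rec L' (fun i E a _ ih => .cons i E a ih) L

def rel (p n m : ℕ) (T : ℕ → ℕ → VL) (w w' : List Fc) : Bool :=
  (w ++ w').all (·.1 < n) && allLt m fun j => isZ p (app (actW T w j 0) (actW T w' j 1))

def relN (p m : ℕ) (N f f' : ℕ → VL) (s M s' M' : ℕ) : Bool :=
  allLt m fun j => isZ p (act N 0 1 1 (act1 s 1 M 1 1 1 (f j) .nil)
    (act f' s' 1 M' (act1 0 1 1 0 1 1 (N j) .nil) .nil))

/-- binomial expansion -/
def binV (F acc : VL) : VL := VL.rec acc (fun i k z _ ih => Nat.rec ih (fun a ih' =>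
  .cons (Nat.xor i 1) (2 ^ a * 3 ^ (k - a)) (z * k.choose a) ih') (k + 1)) F

def mkV (i k : ℕ) (z : ℤ) (tl : VL) : VL :=
  Int.rec (fun a => Nat.rec tl (fun _ _ => .cons (Nat.mul 2 i) k a tl) a)
    (fun a => .cons (Nat.succ (Nat.mul 2 i)) k (Nat.succ a) tl) z

def corV (f : ℕ → ℤ) (l : ℕ) (tl : VL) : VL := Nat.rec tl (fun i ih => mkV i 1 (f i) ih) l

def VL.beq (L : VL) : VL → Bool := VL.rec (fun L' => VL.rec true (fun _ _ _ _ _ => false) L')
  (fun i E a _ ih L' => VL.rec false (fun i' E' a' tl _ =>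
    Nat.beq i i' && Nat.beq E E' && Nat.beq a a' && ih tl) L') L

end

theorem of_allLt {n : ℕ} {f : ℕ → Bool} (h : allLt n f = true) : ∀ k < n, f k = true := by
  induction n with
  | zero => simp
  | succ n ih =>
    change Bool.rec false (allLt n f) (f n) = true at h
    cases hf : f n <;> rw [hf] at h
    · cases h
    · exact fun k hk => (Nat.lt_succ_iff_lt_or_eq.1 hk).elim (ih h k) (· ▸ hf)

theorem allV_cons {f : ℕ → ℕ → Bool} {i E a : ℕ} {tl : VL} :
    allV f (.cons i E a tl) = true ↔ f i E = true ∧ allV f tl = true := by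
  change Bool.rec false (allV f tl) (f i E) = true ↔ _
  cases f i E <;> simp

theorem VL.eq_of_beq {L L' : VL} (h : L.beq L' = true) : L = L' := by
  induction L generalizing L' with
  | nil => cases L' <;> [rfl; cases h]
  | cons i E a tl ih =>
    cases L' with
    | nil => cases h
    | cons i' E' a' tl' =>
      change (Nat.beq i i' && Nat.beq E E' && Nat.beq a a' && tl.beq tl') = true at h
      simp only [Bool.and_eq_true, Nat.beq_eq] at h
      rw [h.1.1.1, h.1.1.2, h.1.2, ih h.2]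

variable {K V : Type*} [CommRing K] [AddCommGroup V] [Module K V] (B : ℕ → V)

/-- value of a sparse vector -/
def ev (mon : ℕ → K) : VL → V
  | .nil => 0
  | .cons i E a tl => ((-1) ^ i * a * mon E) • B (i / 2) + ev mon tl

/-- value of the argument of a factor -/
def val (mon : ℕ → K) (f : Fc) : K := (-1) ^ f.2.1 * f.2.2.1 * mon f.2.2.2

variable {B}

theorem neg_one_pow_xor (j b : ℕ) : (-1 : K) ^ Nat.xor j b = (-1) ^ j * (-1) ^ b := by
  rw [← pow_add, neg_one_pow_eq_pow_mod_two, neg_one_pow_eq_pow_mod_two (j + b)]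
  exact congrArg _ Nat.xor_mod_two_eq

theorem xor_div_two (j : ℕ) {b : ℕ} (h : b < 2) : Nat.xor j b / 2 = j / 2 := by
  have := @Nat.xor_div_two_pow j b 1
  rwa [pow_one, Nat.div_eq_of_lt h, Nat.xor_zero] at this

theorem ev_act1 (mon : ℕ →* K) (s c M i E a : ℕ) (F acc : VL) :
    ev B mon (act1 s c M i E a F acc) =
      ((-1) ^ i * a * mon E) • ev B (((-1) ^ s * c * mon M) ^ ·) F + ev B mon acc := by
  induction F with
  | nil => simp [ev, act1]
  | cons j k z tl ih =>
    change ((-1) ^ Nat.xor j ((i + s * k) % 2) * (a * (z * c ^ k) : ℕ) * mon (E * M ^ k)) •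
      B (Nat.xor j ((i + s * k) % 2) / 2) + ev B mon (act1 s c M i E a tl acc) = _
    rw [ih, ev, xor_div_two _ (Nat.mod_lt _ two_pos), neg_one_pow_xor,
      ← neg_one_pow_eq_pow_mod_two, smul_add, smul_smul, add_assoc, map_mul, map_pow]
    congr 2
    push_cast
    ring

theorem ev_act (mon : ℕ →* K) {f : ℕ → VL} {s c M : ℕ} {A : V →ₗ[K] V}
    (h : ∀ j, A (B j) = ev B (((-1) ^ s * c * mon M) ^ ·) (f j)) (L acc : VL) :
    ev B mon (act f s c M L acc) = A (ev B mon L) + ev B mon acc := by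
  induction L with
  | nil => simp [ev, act]
  | cons i E a tl ih =>
    change ev B mon (act1 s c M i E a (f (i / 2)) (act f s c M tl acc)) = _
    rw [ev_act1, ih, ev, map_add, map_smul, h, add_assoc]

theorem ev_actX (mon : ℕ →* K) {f : ℕ → VL} {s c M : ℕ} {A : V →ₗ[K] V}
    (h : ∀ j, A (B j) = B j + ev B (((-1) ^ s * c * mon M) ^ ·) (f j)) (L acc : VL) :
    ev B mon (actX f s c M L acc) = A (ev B mon L) + ev B mon acc := by
  induction L with
  | nil => simp [ev, actX]
  | cons i E a tl ih =>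
    change _ + ev B mon (act1 s c M i E a (f (i / 2)) (actX f s c M tl acc)) = _
    rw [ev_act1, ih, ev, map_add, map_smul, h, smul_add]
    abel

theorem ev_app (mon : ℕ → K) (L L' : VL) : ev B mon (app L L') = ev B mon L + ev B mon L' := by
  induction L with
  | nil => simp [ev, app]
  | cons i E a tl ih => exact (congrArg _ ih).trans (add_assoc _ _ _).symm

theorem ev_binV (mon : ℕ →* K) (F acc : VL) :
    ev B mon (binV F acc) = -ev B ((mon 2 + mon 3) ^ ·) F + ev B mon acc := by
  induction F with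
  | nil => simp [ev, binV]
  | cons i k z tl ih =>
    have (N : ℕ) : ev B mon (Nat.rec (binV tl acc) (fun a ih' => .cons (Nat.xor i 1)
        (2 ^ a * 3 ^ (k - a)) (z * k.choose a) ih') N) = -((-1) ^ i * z * ∑ a ∈ Finset.range N,
        mon 2 ^ a * mon 3 ^ (k - a) * k.choose a) • B (i / 2) + ev B mon (binV tl acc) := by
      induction N with
      | zero => simp
      | succ N ih =>
        rw [ev, ih, xor_div_two _ one_lt_two, neg_one_pow_xor, Finset.sum_range_succ, ← add_assoc,
          ← add_smul, map_mul, map_pow, map_pow]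
        congr 2
        push_cast
        ring
    refine (this (k + 1)).trans ?_
    rw [← add_pow, ih, ev, neg_add, neg_smul, add_assoc]

theorem ev_mkV (mon : ℕ → K) (i k : ℕ) (z : ℤ) (tl : VL) :
    ev B mon (mkV i k z tl) = (z * mon k) • B i + ev B mon tl := by
  rcases z with (_ | a) | a
  · simp [mkV]
  · change ev B mon (.cons (2 * i) k (a + 1) tl) = _
    simp [ev]
  · change ev B mon (.cons (2 * i + 1) k (a + 1) tl) = _
    rw [ev, show (2 * i + 1) / 2 = i by omega]
    simp [pow_succ]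

theorem ev_corV (mon : ℕ → K) (f : ℕ → ℤ) (l : ℕ) (tl : VL) :
    ev B mon (corV f l tl) = ∑ i ∈ Finset.range l, (f i * mon 1) • B i + ev B mon tl := by
  induction l with
  | zero => simp [corV]
  | succ l ih =>
    change ev B mon (mkV l 1 (f l) (corV f l tl)) = _
    rw [ev_mkV, ih, Finset.sum_range_succ_comm, add_assoc]

theorem coef_cons (j M a : ℕ) (tl : VL) (i E : ℕ) :
    coef (.cons j M a tl) i E = (if j = i ∧ M = E then a else 0) + coef tl i E := by
  change (Bool.rec (coef tl i E) (Bool.rec (coef tl i E) (a + coef tl i E) (Nat.beq M E))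
    (Nat.beq j i) : ℕ) = _
  cases h : Nat.beq j i <;> cases h' : Nat.beq M E <;> simp_all [Nat.ne_of_beq_eq_false]

theorem ev_eq_zero {p : ℕ} (hp : (p : K) = 0) (mon : ℕ → K) {L : VL} (h : isZ p L = true) :
    ev B mon L = 0 := by
  classical
  have h1 : ∀ (f : ℕ → ℕ → Bool) (L : VL), allV f L = true → ∀ i E, coef L i E ≠ 0 → f i E := by
    intro f L h i E hc
    induction L with
    | nil => exact (hc rfl).elim
    | cons j M a tl ih =>
      rw [allV_cons] at h
      by_cases h' : j = i ∧ M = E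
      · exact h'.1 ▸ h'.2 ▸ h.1
      · exact ih h.2 (by simpa [coef_cons, h'] using hc)
  have h2 : ∀ i E, coef L i E ≠ 0 → (coef L i E : K) = coef L (Nat.xor i 1) E := fun i E hc => by
    have h3 : coef L i E % p = coef L (Nat.xor i 1) E % p := Nat.eq_of_beq_eq_true (h1 _ L h i E hc)
    rw [← Nat.mod_add_div (coef L i E) p, h3, ← Nat.mod_add_div (coef L (Nat.xor i 1) E) p]
    simp [hp]
  have h3 : ∀ i, Nat.xor (2 * i) 1 = 2 * i + 1 ∧ Nat.xor (2 * i + 1) 1 = 2 * i := fun i => by
    have := xor_div_two (2 * i) one_lt_two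
    have := xor_div_two (2 * i + 1) one_lt_two
    have : Nat.xor (2 * i) 1 % 2 = _ := Nat.xor_mod_two_eq
    have : Nat.xor (2 * i + 1) 1 % 2 = _ := Nat.xor_mod_two_eq
    omega
  have h4 : ∀ L : VL, ∃ g : ℕ × ℕ →₀ K, (∀ i E, g (i, E) = coef L (2 * i) E - coef L (2 * i + 1) E) ∧
      ev B mon L = Finsupp.linearCombination K (fun k => mon k.2 • B k.1) g := fun L => by
    induction L with
    | nil => exact ⟨0, by simp [coef], by simp [ev]⟩
    | cons j M a tl ih =>
      obtain ⟨g, h4, h5⟩ := ih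
      refine ⟨Finsupp.single (j / 2, M) ((-1) ^ j * a : K) + g, fun i E => ?_, by
        rw [map_add, Finsupp.linearCombination_single, ← h5, smul_smul, ev]⟩
      obtain ⟨k, rfl | rfl⟩ := Nat.even_or_odd' j
      · simp [coef_cons, h4, Finsupp.single_apply, show 2 * k ≠ 2 * i + 1 by omega, add_sub_assoc]
      · simp [coef_cons, h4, Finsupp.single_apply, show 2 * k + 1 ≠ 2 * i by omega, pow_succ,
          show (2 * k + 1) / 2 = k by omega]
        split_ifs <;> ring
  obtain ⟨g, h4, h5⟩ := h4 L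
  rw [h5, show g = 0 from Finsupp.ext fun ⟨i, E⟩ => ?_, map_zero]
  rw [h4, Finsupp.zero_apply, sub_eq_zero]
  by_cases h6 : coef L (2 * i) E = 0
  · by_cases h7 : coef L (2 * i + 1) E = 0
    · rw [h6, h7]
    · rw [h2 _ _ h7, (h3 i).2]
  · rw [h2 _ _ h6, (h3 i).1]

theorem exists_mon (f : ℕ → K) : ∃ mon : ℕ →* K, ∀ q, q.Prime → mon q = f q :=
  ⟨⟨⟨fun n => if n = 0 then 0 else (n.primeFactorsList.map f).prod, by simp⟩, fun a b => by
    by_cases ha : a = 0
    · simp [ha]
    by_cases hb : b = 0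
    · simp [hb]
    simp [ha, hb, ((Nat.perm_primeFactorsList_mul ha hb).map f).prod_eq]⟩, fun q hq => by
    simp [hq.ne_zero, Nat.primeFactorsList_prime hq]⟩

theorem exists_mon8 (a b c d e f g h : K) : ∃ mon : ℕ →* K, mon 2 = a ∧ mon 3 = b ∧ mon 5 = c ∧
    mon 7 = d ∧ mon 11 = e ∧ mon 13 = f ∧ mon 17 = g ∧ mon 19 = h := by
  obtain ⟨mon, hm⟩ := exists_mon fun q => if q = 2 then a else if q = 3 then b else if q = 5 then c
    else if q = 7 then d else if q = 11 then e else if q = 13 then f else if q = 17 then g else h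
  refine ⟨mon, ?_, ?_, ?_, ?_, ?_, ?_, ?_, ?_⟩ <;> exact hm _ (by norm_num)

end Cfsg.Lie.Chk
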