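import Cfsg.Agent.Lie.Chk

/-! Linking the sparse evaluator with the matrices `x_r(t)` of a Chevalley datum. -/

set_option autoImplicit false

namespace Cfsg.Lie.Chk

open Matrix

noncomputable section

def fld (U w b : ℕ) : ℕ := Nat.mod (Nat.shiftRight U (Nat.mul w b)) (Nat.shiftLeft 1 w)

def dec (v : ℕ) : VL := .cons (Nat.div (Nat.mod v 4096) 8) 1 (Nat.mod v 8) (Bool.rec
  (.cons (Nat.mod (Nat.div v 32768) 512) 2 (Nat.mod (Nat.div v 4096) 8) (Bool.rec
  (.cons (Nat.div v 134217728) 3 (Nat.mod (Nat.div v 16777216) 8) .nil) .nil (Nat.ble v 16777215)))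
  .nil (Nat.ble v 4095))

/-- a table of sparse columns, packed into the number `U` -/
def tabT (sp : ℕ → VL) (w m U r j : ℕ) : VL :=
  Nat.rec .nil (fun v _ => Bool.rec (dec (Nat.succ v)) (sp r) (Nat.beq v 0))
    (fld (fld U (Nat.mul w m) r) w j)

/-- concatenation of rows -/
def pack (w : ℕ) (L : List ℕ) : ℕ := List.rec 0 (fun r _ acc => Nat.lor (Nat.shiftLeft acc w) r) L

def chV (l : ℕ) (L : List (ℕ × ℤ)) : ℕ → VL → VL :=
  List.rec (fun _ tl => tl) (fun x _ ih k tl => mkV (l + x.1) (k + 1) x.2 (ih (k + 1) tl)) L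

def fnd (l : ℕ) (L : List (ℕ × Array (ℕ × ℤ))) (s : ℕ) : VL :=
  List.rec .nil (fun e _ ih => Bool.rec ih (chV l e.2.toList 0 ih) (Nat.beq e.1 s)) L

/-- the column `j` of `x_r(t) - 1` -/
def PP (D : ChevalleyDatum) (r j : ℕ) : VL :=
  bif Nat.blt j D.rank then mkV (D.rank + r) 1 (-(D.cartanSR.getD j #[]).getD r 0) .nil
  else bif Nat.beq (j - D.rank) r then .nil
  else bif Nat.beq (j - D.rank) (D.negIdx.getD r 0) then
    corV (fun i => (D.coroot.getD r #[]).getD i 0) D.rank (mkV (D.rank + r) 2 (-1) .nil)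
  else fnd D.rank (D.chain.getD r #[]).toList (j - D.rank)

def chkP (D : ChevalleyDatum) (T : ℕ → ℕ → VL) (r : ℕ) : Bool :=
  allLt (D.rank + D.nroots) fun j => (T r j).beq (PP D r j)

def chkA (m : ℕ) (T : ℕ → ℕ → VL) (r : ℕ) : Bool :=
  allLt m fun j => isZ 0 (binV (T r j) (actW T [(r, 0, 1, 2), (r, 0, 1, 3)] j 0))

/-- the table `N` describes the word `w` -/
def chkW (m : ℕ) (T : ℕ → ℕ → VL) (w : List Fc) (N : ℕ → VL) : Bool :=
  allLt m fun j => isZ 0 (.cons (2 * j) 1 1 (act1 0 1 1 1 1 1 (N j) (actW T w j 0)))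

end

theorem tabT_of_le (sp : ℕ → VL) (w U r : ℕ) {m j : ℕ} (h : m ≤ j) : tabT sp w m U r j = .nil := by
  have : fld (fld U (Nat.mul w m) r) w j = 0 := by
    change ((_ % (1 <<< (w * m))) >>> (w * j)) % _ = 0
    rw [Nat.shiftRight_eq_div_pow, Nat.div_eq_of_lt, Nat.zero_mod]
    rw [Nat.shiftLeft_eq, one_mul]
    exact (Nat.mod_lt _ (by positivity)).trans_le
      (Nat.pow_le_pow_right two_pos (Nat.mul_le_mul_left _ h))
  rw [tabT, this]
  rfl

variable (D : ChevalleyDatum) (K : Type*) [Field K]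

/-- numbering of the basis -/
def enc : D.Idx → ℕ := Sum.elim (·.val) (D.rank + ·.val)

/-- basis vectors -/
def bv (j : ℕ) : D.Idx → K := fun c => if enc D c = j then 1 else 0

variable {D K}

theorem enc_lt (c : D.Idx) : enc D c < D.rank + D.nroots := by
  rcases c with c | c <;> simp [enc]; omega

theorem enc_injective : Function.Injective (enc D) := by
  rintro (c | c) (c' | c') h <;> simp [enc] at h <;> first | omega | simp [Fin.ext h]

theorem bv_enc (c : D.Idx) : bv D K (enc D c) = Pi.single c 1 := by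
  ext c'; simp [bv, enc_injective.eq_iff, Pi.single_apply]

theorem bv_of_le {j : ℕ} (h : D.rank + D.nroots ≤ j) : bv D K j = 0 := by
  ext c; simp [bv, ((enc_lt c).trans_le h).ne]

theorem exists_enc {j : ℕ} (h : j < D.rank + D.nroots) : ∃ c, enc D c = j := by
  by_cases h' : j < D.rank
  · exact ⟨.inl ⟨j, h'⟩, rfl⟩
  · exact ⟨.inr ⟨j - D.rank, by omega⟩, by simp [enc]; omega⟩

theorem ext_bv {A A' : Matrix D.Idx D.Idx K}
    (h : ∀ j < D.rank + D.nroots, A *ᵥ bv D K j = A' *ᵥ bv D K j) : A = A' := by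
  ext a b
  simpa [bv_enc] using congrFun (h _ (enc_lt b)) a

theorem ev_fnd (s : K) (L : List (ℕ × Array (ℕ × ℤ))) (j : ℕ) (c : D.Idx) :
    ev (bv D K) (s ^ ·) (fnd D.rank L j) c = (((L.filter (fun e => e.1 = j)).flatMap fun e =>
      (e.2.toList.zipIdx.filter (fun q => enc D c = D.rank + q.1.1)).map
        fun q => (q.2 + 1, q.1.2)).map fun km => ((km.2 : ℤ) : K) * s ^ km.1).sum := by
  have (L : List (ℕ × ℤ)) (k : ℕ) (tl : VL) : ev (bv D K) (s ^ ·) (chV D.rank L k tl) c =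
      ((((L.zipIdx k).filter (fun q => enc D c = D.rank + q.1.1)).map fun q => (q.2 + 1, q.1.2)).map
        fun km => ((km.2 : ℤ) : K) * s ^ km.1).sum + ev (bv D K) (s ^ ·) tl c := by
    induction L generalizing k with
    | nil => simp [chV]
    | cons x L ih =>
      change ev (bv D K) (s ^ ·) (mkV (D.rank + x.1) (k + 1) x.2 (chV D.rank L (k + 1) tl)) c = _
      rw [ev_mkV, Pi.add_apply, ih, List.zipIdx_cons, List.filter_cons]
      by_cases h : enc D c = D.rank + x.1 <;> simp [bv, h, add_assoc]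
  induction L with
  | nil => simp [fnd, ev]
  | cons e L ih =>
    change ev (bv D K) (s ^ ·) (Bool.rec (fnd D.rank L j) (chV D.rank e.2.toList 0 (fnd D.rank L j))
      (Nat.beq e.1 j)) c = _
    cases h : Nat.beq e.1 j
    · simp [Nat.ne_of_beq_eq_false h, ih]
    · simp only [this, ih, List.filter_cons, Nat.eq_of_beq_eq_true h, decide_true, if_true,
        List.flatMap_cons, List.map_append, List.sum_append]

theorem x_bv {r j : ℕ} (hr : r < D.nroots) (hj : j < D.rank + D.nroots) (s : K) :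
    D.x K r s *ᵥ bv D K j = bv D K j + ev (bv D K) (s ^ ·) (PP D r j) := by
  obtain ⟨c, rfl⟩ := exists_enc hj
  ext a
  rw [bv_enc, mulVec_single_one, ChevalleyDatum.x, dif_pos hr, col_apply, ChevalleyDatum.xMat,
    of_apply, PP]
  rcases c with c | c
  · have : Nat.blt (enc D (.inl c)) D.rank = true := Nat.blt_eq ▸ c.2
    rw [this, cond_true, ev_mkV]
    rcases a with a | a <;> simp [bv, enc, ev, Pi.single_apply, Fin.ext_iff,
      show ∀ a : Fin D.rank, (a : ℕ) ≠ D.rank + r by omega, neg_ite]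
  have h1 : Nat.blt (enc D (.inr c)) D.rank = false := by
    rw [← Bool.not_eq_true, Nat.blt_eq]; simp [enc]
  have h2 : enc D (.inr c) - D.rank = c := by simp [enc]
  rw [h1, cond_false, h2]
  generalize D.negIdx.getD r 0 = r'
  cases h3 : Nat.beq c r
  swap
  · have h3 := Nat.eq_of_beq_eq_true h3
    rcases a with a | a <;> simp [ev, Pi.single_apply, Fin.ext_iff, h3]
  replace h3 := Nat.ne_of_beq_eq_false h3
  cases h4 : Nat.beq c r'
  swap
  · have h4 := Nat.eq_of_beq_eq_true h4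
    rw [cond_false, cond_true, ev_corV, ev_mkV]
    simp only [Pi.add_apply, Finset.sum_apply, Pi.smul_apply, bv, smul_eq_mul, mul_ite]
    rcases a with a | a
    · simp [enc, ev, Fin.ext_iff, h3, ← h4, show (a : ℕ) ≠ D.rank + r by omega]
    · simp [enc, ev, Pi.single_apply, Fin.ext_iff, h3, ← h4]
      split_ifs with h5 h6 <;> first | omega | simp
  replace h4 := Nat.ne_of_beq_eq_false h4
  rw [cond_false, cond_false, Pi.add_apply, ev_fnd]
  rcases a with a | a
  · simp [enc, Fin.ext_iff, h3, h4, show ∀ k, (a : ℕ) ≠ D.rank + k by omega, List.flatMap_def]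
  · simp [enc, Pi.single_apply, Fin.ext_iff, h3, h4, ChevalleyDatum.chainCoeff, eq_comm (a := (a : ℕ))]

/-- the table `T` describes the matrices `x_r(t)` -/
def Rep (D : ChevalleyDatum) (T : ℕ → ℕ → VL) : Prop :=
  ∀ r < D.nroots, ∀ j, T r j = if j < D.rank + D.nroots then PP D r j else .nil

variable {T : ℕ → ℕ → VL}

theorem Rep.of_chkP {sp : ℕ → VL} {w U : ℕ}
    (h : ∀ r < D.nroots, chkP D (tabT sp w (D.rank + D.nroots) U) r = true) :
    Rep D (tabT sp w (D.rank + D.nroots) U) := fun r hr j => by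
  split_ifs with hj
  exacts [VL.eq_of_beq (of_allLt (h r hr) j hj), tabT_of_le _ _ _ _ (not_lt.1 hj)]

theorem Rep.x_bv (h : Rep D T) {r : ℕ} (hr : r < D.nroots) (s : K) (j : ℕ) :
    D.x K r s *ᵥ bv D K j = bv D K j + ev (bv D K) (s ^ ·) (T r j) := by
  rw [h r hr]
  split_ifs with hj
  exacts [Chk.x_bv hr hj s, by simp [bv_of_le (not_lt.1 hj), ev]]

/-- value of a word -/
def wv (D : ChevalleyDatum) (mon : ℕ → K) (w : List Fc) : Matrix D.Idx D.Idx K :=
  (w.map fun f => D.x K f.1 (val mon f)).prod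

theorem Rep.ev_actW (h : Rep D T) (mon : ℕ →* K) {w : List Fc} (hw : ∀ f ∈ w, f.1 < D.nroots)
    (j e : ℕ) : ev (bv D K) mon (actW T w j e) =
      (-1 : K) ^ e • (wv D mon w *ᵥ bv D K j - bv D K j) := by
  induction w with
  | nil => simp [wv, actW, ev]
  | cons f w ih =>
    have h1 := h.x_bv (hw f (by simp)) (val mon f)
    refine (ev_actX mon (A := (D.x K f.1 (val mon f)).mulVecLin) h1 _ _).trans ?_
    change D.x K f.1 (val mon f) *ᵥ ev (bv D K) mon (actW T w j e) + _ = _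
    rw [ih fun g hg => hw g (by simp [hg]), ev_act1, mulVec_smul, mulVec_sub, h1, mulVec_mulVec]
    simp [wv, ev, val, smul_sub]
    abel

theorem Rep.of_rel (h : Rep D T) {p : ℕ} (hp : (p : K) = 0) (mon : ℕ →* K) {w w' : List Fc}
    (hw : rel p D.nroots (D.rank + D.nroots) T w w' = true) : wv D mon w = wv D mon w' := by
  simp only [rel, Bool.and_eq_true, List.all_eq_true, decide_eq_true_eq, List.mem_append] at hw
  refine ext_bv fun j hj => ?_
  have := ev_eq_zero (B := bv D K) hp mon (of_allLt hw.2 j hj)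
  rw [ev_app, h.ev_actW mon fun f hf => hw.1 f (.inl hf),
    h.ev_actW mon fun f hf => hw.1 f (.inr hf)] at this
  simpa [← sub_eq_add_neg, sub_eq_zero] using this

theorem Rep.of_relN (h : Rep D T) {p : ℕ} (hp : (p : K) = 0) (mon : ℕ →* K) {N : ℕ → VL}
    {A : Matrix D.Idx D.Idx K} (hN : ∀ j, A *ᵥ bv D K j = ev (bv D K) (fun _ => (1 : K)) (N j))
    {r r' s M s' M' : ℕ} (hr : r < D.nroots) (hr' : r' < D.nroots)
    (hw : relN p (D.rank + D.nroots) N (T r) (T r') s M s' M' = true) :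
    A * D.x K r ((-1) ^ s * mon M) = D.x K r' ((-1) ^ s' * mon M') * A := by
  refine ext_bv fun j hj => ?_
  have := ev_eq_zero (B := bv D K) hp mon (of_allLt hw j hj)
  rw [ev_act mon (A := A.mulVecLin) (by simpa using hN), ev_act mon
    (A := (D.x K r' ((-1) ^ s' * mon M') - 1).mulVecLin) (by simp [h.x_bv hr']),
    ev_act1, ev_act1] at this
  rw [← mulVec_mulVec, ← mulVec_mulVec, h.x_bv hr, mulVec_add, ← sub_eq_zero, ← neg_eq_zero]
  convert this using 1
  simp [ev, ← hN, mulVec_neg]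
  abel

theorem Rep.of_chkA (h : Rep D T) {r : ℕ} (hr : r < D.nroots)
    (hA : chkA (D.rank + D.nroots) T r = true) (s t : K) :
    D.x K r (s + t) = D.x K r s * D.x K r t := by
  obtain ⟨mon, rfl, rfl, -⟩ := exists_mon8 s t 1 1 1 1 1 1
  refine ext_bv fun j hj => ?_
  have := ev_eq_zero (B := bv D K) Nat.cast_zero mon (of_allLt hA j hj)
  rw [ev_binV, h.ev_actW mon (by simpa using hr)] at this
  rw [h.x_bv hr, neg_add_eq_zero.1 this]
  simp [wv, val]

theorem Rep.of_chkW (h : Rep D T) {w : List Fc} (hw : ∀ f ∈ w, f.1 < D.nroots) {N : ℕ → VL}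
    (hN : ∀ j, D.rank + D.nroots ≤ j → N j = .nil) (hW : chkW (D.rank + D.nroots) T w N = true)
    (j : ℕ) : wv D (1 : ℕ →* K) w *ᵥ bv D K j = ev (bv D K) (fun _ => (1 : K)) (N j) := by
  by_cases hj : j < D.rank + D.nroots
  · have := ev_eq_zero (B := bv D K) Nat.cast_zero (1 : ℕ →* K) (of_allLt hW j hj)
    rw [ev, ev_act1, h.ev_actW _ hw] at this
    rw [← sub_eq_zero, ← this]
    simp
    abel
  · simp [hN j (not_lt.1 hj), bv_of_le (not_lt.1 hj), ev]

end Cfsg.Lie.Chk
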