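import Cfsg.Agent.Grp.Opp

/-! Rigidity from an opposition geometry. -/

set_option autoImplicit false

namespace Cfsg

universe u v w

/-- an abstract opposition relation with "unipotent radicals" `Q x` -/
structure OppGeom (p : ℕ) (H : Type u) [Group H] (X : Type v) [MulAction H X] where
  opp : X → X → Prop
  Q : X → Subgroup H
  symm : ∀ {x y}, opp x y → opp y x
  irrefl : ∀ x, ¬ opp x x
  smul : ∀ (h : H) {x y}, opp x y → opp (h • x) (h • y)
  conj : ∀ (h : H) {x q}, q ∈ Q x → h * q * h⁻¹ ∈ Q (h • x)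
  congr : ∀ {x y}, (∀ z, opp x z ↔ opp y z) → Q x ≤ Q y
  free : ∀ {x y q}, opp x y → q ∈ Q x → (∀ z, opp (q • y) z ↔ opp y z) → q = 1
  nonfree : ∀ {x y}, ¬ opp x y → ∃ q ∈ Q x, q ≠ 1 ∧ ∀ z, opp (q • y) z ↔ opp y z
  trans : ∀ {x y y'}, opp x y → opp x y' → ∃ q ∈ Q x, ∀ z, opp (q • y) z ↔ opp y' z
  both : ∀ x y, ∃ z, opp x z ∧ opp y z
  pgrp : ∀ x, IsPGroup p (Q x)

namespace OppGeom

variable {p : ℕ} {H : Type u} [Group H] {X : Type v} [MulAction H X] (D : OppGeom p H X)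

theorem opp_smul_iff (h : H) {x y : X} : D.opp (h • x) (h • y) ↔ D.opp x y :=
  ⟨fun h1 => by simpa using D.smul h⁻¹ h1, D.smul h⟩

theorem opp_smul_left (h : H) {x y : X} : D.opp (h • x) y ↔ D.opp x (h⁻¹ • y) := by
  rw [← D.opp_smul_iff h⁻¹, inv_smul_smul]

/-- the stabiliser of the class of `x` -/
def stab (x : X) : Subgroup H where
  carrier := {h | ∀ z, D.opp (h • x) z ↔ D.opp x z}
  one_mem' := by simp
  mul_mem' := fun {a b} ha hb z => by
    rw [mul_smul, D.opp_smul_left, hb, ← D.opp_smul_left, ha]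
  inv_mem' := fun {a} ha z => by rw [D.opp_smul_left, inv_inv, ← ha, D.opp_smul_iff]

theorem mem_stab {x : X} {h : H} : h ∈ D.stab x ↔ ∀ z, D.opp (h • x) z ↔ D.opp x z := Iff.rfl

theorem mem_stab_smul {x : X} {g h : H} : h ∈ D.stab (g • x) ↔ g⁻¹ * h * g ∈ D.stab x := by
  simp only [mem_stab, mul_smul]
  rw [(MulAction.surjective g).forall]
  simp only [D.opp_smul_iff, D.opp_smul_left g⁻¹, inv_inv]

theorem opp_of_le {x y : X} {K : Subgroup H} (hK : ∀ k ∈ K, ∀ z, k ∈ D.stab z)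
    (h : ∀ q ∈ D.Q y, ∃ k ∈ K, q * k ∈ D.Q x) {z : X} (hz : D.opp x z) : D.opp y z := by
  by_contra hy
  obtain ⟨q, hq, hq1, h1⟩ := D.nonfree hy
  obtain ⟨k, hk, h2⟩ := h q hq
  have h3 := D.free hz h2 ((D.stab z).mul_mem h1 (hK k hk z))
  obtain ⟨z', hz', -⟩ := D.both y y
  refine hq1 (D.free hz' hq ?_)
  rw [eq_inv_of_mul_eq_one_left h3]
  exact (D.stab z').inv_mem (hK k hk z')

theorem center_le_stab (x : X) : Subgroup.center H ≤ D.stab x := by
  have key : ∀ k ∈ Subgroup.center H, ∀ x z, D.opp x z → D.opp (k • x) z := fun k hk x z hz =>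
    D.opp_of_le (K := ⊥) (fun k hk z => by rw [Subgroup.mem_bot.1 hk]; exact one_mem _)
      (fun q hq => ⟨1, one_mem _, by
        have := D.conj k⁻¹ hq
        rw [inv_smul_smul, inv_inv, mul_assoc, Subgroup.mem_center_iff.1 hk] at this
        simpa using this⟩) hz
  intro k hk z
  exact ⟨fun h => by simpa using key _ (inv_mem hk) _ _ h, key k hk x z⟩

variable {G : Type w} [Group G] (π : H →* G) (hπ : Function.Surjective π)
  (hk : π.ker ≤ Subgroup.center H)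
include hπ hk

theorem map_mem_normalizer_iff [Finite G] {x : X} {h : H} :
    π h ∈ Subgroup.normalizer (((D.Q x).map π : Subgroup G) : Set G) ↔ h ∈ D.stab x := by
  have h1 : ∀ h, π h ∈ Subgroup.normalizer (((D.Q x).map π : Subgroup G) : Set G) →
      ∀ z, D.opp x z → D.opp (h • x) z := fun h hh z hz => by
    refine D.opp_of_le (K := π.ker) (fun k h1 z => D.center_le_stab z (hk h1)) (fun q hq => ?_) hz
    have h2 := D.conj h⁻¹ hq
    rw [inv_smul_smul] at h2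
    obtain ⟨q', hq', e⟩ := (Subgroup.mem_normalizer_iff.1 hh _).1 ⟨_, h2, rfl⟩
    refine ⟨q⁻¹ * q', ?_, by simpa using hq'⟩
    rw [MonoidHom.mem_ker, map_mul, e]
    simp [mul_assoc]
  refine ⟨fun hh z => ⟨fun hz => ?_, h1 h hh z⟩, fun hh => Subgroup.mem_normalizer_fintype ?_⟩
  · by_contra hx
    obtain ⟨q, hq, hq1, h2⟩ := D.nonfree hx
    obtain ⟨q', hq', e⟩ := (Subgroup.mem_normalizer_iff.1 (inv_mem hh) _).1 ⟨_, hq, rfl⟩
    have h3 : (h * q' * h⁻¹)⁻¹ * q ∈ π.ker := by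
      rw [MonoidHom.mem_ker]
      simp [e, mul_assoc]
    have h4 := D.free hz (D.conj h hq') (D.mem_stab.1 <| by
      simpa using (D.stab z).mul_mem h2 ((D.stab z).inv_mem (D.center_le_stab z (hk h3))))
    rw [h4, inv_one, one_mul] at h3
    obtain ⟨z', hz', -⟩ := D.both x x
    exact hq1 (D.free hz' hq (D.center_le_stab z' (hk h3)))
  · rintro _ ⟨q, hq, rfl⟩
    exact ⟨_, D.congr hh (D.conj h hq), by simp⟩

theorem oppR_iff [Finite G] {x : X} {h : H} : OppR ((D.Q x).map π) (π h) ↔ D.opp x (h • x) := by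
  have key : ∀ q, (π h)⁻¹ * π q * π h ∈
      Subgroup.normalizer (((D.Q x).map π : Subgroup G) : Set G) ↔ q ∈ D.stab (h • x) := fun q => by
    rw [← map_inv, ← map_mul, ← map_mul, D.map_mem_normalizer_iff π hπ hk, mem_stab_smul]
  constructor
  · intro h1
    by_contra h2
    obtain ⟨q, hq, hq1, h3⟩ := D.nonfree h2
    obtain ⟨z', hz', -⟩ := D.both x x
    exact hq1 (D.free hz' hq (D.center_le_stab z' (hk (h1 _ ⟨q, hq, rfl⟩ ((key q).2 h3)))))
  · rintro h1 _ ⟨q, hq, rfl⟩ h2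
    rw [D.free h1 hq ((key q).1 h2), map_one]

theorem opp_iff [Finite G] {x : X} {h : H} : Opp ((D.Q x).map π) (π h) ↔ D.opp x (h • x) := by
  refine ⟨fun h1 => (D.oppR_iff π hπ hk).1 h1.1, fun h1 => ⟨(D.oppR_iff π hπ hk).2 h1, ?_⟩⟩
  rw [← map_inv, D.oppR_iff π hπ hk, ← D.opp_smul_left]
  exact D.symm h1

omit hπ hk in
theorem exists_smul (x y : X) : ∃ h : H, ∀ z, D.opp (h • x) z ↔ D.opp y z := by
  obtain ⟨z, h1, h2⟩ := D.both x y
  obtain ⟨q, -, hq⟩ := D.trans (D.symm h1) (D.symm h2)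
  exact ⟨q, hq⟩

omit hπ hk in
theorem exists_both (x : X) (g : H) : ∃ h : H, D.opp x (h • x) ∧ D.opp x ((h⁻¹ * g) • x) := by
  obtain ⟨z, h1, h2⟩ := D.both x (g • x)
  obtain ⟨h, hh⟩ := D.exists_smul x z
  refine ⟨h, D.symm ((hh _).2 (D.symm h1)), ?_⟩
  rw [mul_smul, ← D.opp_smul_left]
  exact (hh _).2 (D.symm h2)

include D in
theorem lieRigid [Finite G] [Fact p.Prime] [IsSimpleGroup G] (x : X) : LieRigid p G := by
  have h1 : OppData p ((D.Q x).map π) := by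
    refine ⟨(D.pgrp x).map π, fun g g' hg hg' => ?_, ?_⟩
    · obtain ⟨g, rfl⟩ := hπ g
      obtain ⟨g', rfl⟩ := hπ g'
      obtain ⟨q, hq, h1⟩ := D.trans ((D.opp_iff π hπ hk).1 hg) ((D.opp_iff π hπ hk).1 hg')
      refine ⟨_, ⟨q, hq, rfl⟩, π ((q * g)⁻¹ * g'), (D.map_mem_normalizer_iff π hπ hk).2 fun z => ?_,
        by simp [mul_assoc]⟩
      rw [mul_smul, D.opp_smul_left, inv_inv, ← h1, ← mul_smul, D.opp_smul_iff]
    · obtain ⟨g, hg, -⟩ := D.exists_both x 1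
      obtain ⟨h, h1, h2⟩ := D.exists_both x g
      exact ⟨π h, π g, (D.opp_iff π hπ hk).2 h1, (D.opp_iff π hπ hk).2 hg,
        by rw [← map_inv, ← map_mul]; exact (D.opp_iff π hπ hk).2 h2⟩
  refine ⟨_, h1.pgrp, h1.pRigid_of_simple (fun h => ?_) fun g => ?_⟩
  · obtain ⟨q, hq, hq1, -⟩ := D.nonfree (D.irrefl x)
    obtain ⟨z', hz', -⟩ := D.both x x
    exact hq1 (D.free hz' hq (D.center_le_stab z' (hk ((Subgroup.map_eq_bot_iff _).1 h hq))))
  · obtain ⟨g, rfl⟩ := hπ g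
    obtain ⟨h, h1, h2⟩ := D.exists_both x g
    exact ⟨π h, (D.opp_iff π hπ hk).2 h1,
      by rw [← map_inv, ← map_mul]; exact (D.opp_iff π hπ hk).2 h2⟩

include D in
omit hπ hk in
theorem lieRigid_of_equiv [Finite G] [Fact p.Prime] [IsSimpleGroup G] (x : X)
    (e : G ≃* H ⧸ Subgroup.center H) : LieRigid p G :=
  D.lieRigid (e.symm.toMonoidHom.comp (QuotientGroup.mk' _))
    (e.symm.surjective.comp (QuotientGroup.mk'_surjective _)) (fun h hh => by
      simpa [MonoidHom.mem_ker] using hh) x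

end OppGeom

theorem sylow_abExp_of_equiv_quotient {H : Type u} [Group H] [Finite H] {G : Type v} [Group G]
    [Finite G] {p n : ℕ} [Fact p.Prime] {N : Subgroup H} [N.Normal] (e : G ≃* H ⧸ N)
    (h : ∀ S : Sylow p H, AbExp n (S : Subgroup H)) (P : Sylow p G) :
    AbExp n (P : Subgroup G) :=
  sylow_abExp_of_mulEquiv e (sylow_abExp
    ((default : Sylow p H).mapSurjective (QuotientGroup.mk'_surjective N)) ((h default).map _)) P

end Cfsg
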