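import Cfsg.Agent.Lie.ClassicalSylow

/-! Linear groups containing all transvections. -/

set_option autoImplicit false
set_option linter.unusedSectionVars false

namespace Cfsg

universe u v w

variable {F : Type u} [Field F] {V : Type v} [AddCommGroup V] [Module F V]
  {H : Type w} [Group H] [DistribMulAction H V] [SMulCommClass H F V]

/-- incident point-hyperplane pairs -/
@[ext] structure LinFlag (F : Type u) [Field F] (V : Type v) [AddCommGroup V] [Module F V] where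
  v : V
  f : Module.Dual F V
  v_ne : v ≠ 0
  f_ne : ∃ x, f x ≠ 0
  inc : f v = 0

instance LinFlag.mulAction : MulAction H (LinFlag F V) where
  smul g x := ⟨g • x.v, x.f ∘ₗ DistribSMul.toLinearMap F V g⁻¹, (smul_ne_zero_iff_ne g).2 x.v_ne,
    let ⟨y, hy⟩ := x.f_ne; ⟨g • y, by simpa using hy⟩, by simpa using x.inc⟩
  one_smul x := LinFlag.ext (one_smul H x.v) (LinearMap.ext fun y => by
    change x.f ((1 : H)⁻¹ • y) = _
    simp)
  mul_smul a b x := LinFlag.ext (mul_smul a b x.v) (LinearMap.ext fun y => by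
    change x.f ((a * b)⁻¹ • y) = x.f (b⁻¹ • a⁻¹ • y)
    simp [mul_smul])

theorem LinFlag.smul_v (g : H) (x : LinFlag F V) : (g • x).v = g • x.v := rfl

theorem LinFlag.smul_f (g : H) (x : LinFlag F V) (y : V) : (g • x).f y = x.f (g⁻¹ • y) := rfl

theorem exists_dual_two {u v w : V} (h : ∀ a b : F, w ≠ a • u + b • v) :
    ∃ f : Module.Dual F V, f u = 0 ∧ f v = 0 ∧ f w ≠ 0 := by
  obtain ⟨f, h1, h2⟩ := Submodule.exists_dual_map_eq_bot_of_notMem
    (p := Submodule.span F {u, v}) (x := w) (fun h1 => by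
      obtain ⟨a, b, h2⟩ := Submodule.mem_span_pair.1 h1
      exact h a b h2.symm) inferInstance
  exact ⟨f, h2.le ⟨u, Submodule.subset_span (by simp), rfl⟩,
    h2.le ⟨v, Submodule.subset_span (by simp), rfl⟩, h1⟩

theorem exists_dual_one {u w : V} {g : Module.Dual F V} (hw : w ≠ 0) (h1 : g w = 0)
    (h2 : g u ≠ 0) : ∃ f : Module.Dual F V, f u = 0 ∧ f w ≠ 0 := by
  obtain ⟨f, h3, -, h4⟩ := exists_dual_two (F := F) (u := u) (v := 0) (w := w) fun a b h => by
    rw [h, smul_zero, add_zero, map_smul, smul_eq_mul, mul_eq_zero, or_iff_left h2] at h1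
    exact hw (by simp [h, h1])
  exact ⟨f, h3, h4⟩

theorem LinFlag.eq_smul_of_forall {x y : LinFlag F V}
    (h : ∀ z : LinFlag F V, y.f z.v ≠ 0 ∧ z.f y.v ≠ 0 → x.f z.v ≠ 0 ∧ z.f x.v ≠ 0) :
    (∃ c : F, c ≠ 0 ∧ y.v = c • x.v) ∧ ∃ d : F, d ≠ 0 ∧ ∀ u, y.f u = d * x.f u := by
  constructor
  · by_contra h1
    obtain ⟨u, hu, hu'⟩ : ∃ u, y.f u ≠ 0 ∧ ∀ a b : F, y.v ≠ a • u + b • x.v := by
      have h2 : ∀ c : F, y.v ≠ c • x.v := fun c hc =>
        h1 ⟨c, fun h0 => y.v_ne (by rw [hc, h0, zero_smul]), hc⟩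
      by_cases h3 : y.f x.v = 0
      · obtain ⟨u, hu⟩ := y.f_ne
        refine ⟨u, hu, fun a b hab => h2 b ?_⟩
        have h4 := y.inc
        rw [hab, map_add, map_smul, map_smul, h3, smul_zero, add_zero, smul_eq_mul, mul_eq_zero,
          or_iff_left hu] at h4
        rw [hab, h4, zero_smul, zero_add]
      · exact ⟨x.v, h3, fun a b hab => h2 (a + b) (by rw [hab, add_smul])⟩
    obtain ⟨f, h3, h4, h5⟩ := exists_dual_two hu'
    exact (h ⟨u, f, fun h0 => hu (by rw [h0, map_zero]), ⟨_, h5⟩, h3⟩ ⟨hu, h5⟩).2 h4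
  · have h1 : ∀ u, x.f u = 0 → y.f u = 0 := fun u hu => by
      by_contra h1
      obtain ⟨f, h2, h3⟩ := exists_dual_one y.v_ne y.inc h1
      exact (h ⟨u, f, fun h0 => h1 (by rw [h0, map_zero]), ⟨_, h3⟩, h2⟩ ⟨h1, h3⟩).1 hu
    obtain ⟨a, ha⟩ := x.f_ne
    have h2 : ∀ u, y.f u = y.f a / x.f a * x.f u := fun u => by
      have := h1 (u - (x.f u / x.f a) • a) (by simp [div_mul_cancel₀ _ ha])
      rw [map_sub, map_smul, smul_eq_mul, sub_eq_zero] at this
      rw [this]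
      ring
    obtain ⟨b, hb⟩ := y.f_ne
    exact ⟨_, fun h0 => hb (by rw [h2, h0, zero_mul]), h2⟩

variable (H) in
/-- the unipotent radical of the stabiliser of a flag -/
def LinFlag.rad (x : LinFlag F V) : Subgroup H where
  carrier := {h | h • x.v = x.v ∧ (∀ y, x.f (h • y) = x.f y) ∧
    ∀ y, x.f y = 0 → ∃ c : F, h • y = y + c • x.v}
  one_mem' := ⟨one_smul _ _, by simp, fun y _ => ⟨0, by simp⟩⟩
  mul_mem' := fun {a b} ha hb => ⟨by rw [mul_smul, hb.1, ha.1],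
    fun y => by rw [mul_smul, ha.2.1, hb.2.1], fun y hy => by
    obtain ⟨c, hc⟩ := ha.2.2 y hy
    obtain ⟨d, hd⟩ := hb.2.2 y hy
    exact ⟨c + d, by rw [mul_smul, hd, smul_add, hc, smul_comm, ha.1, add_smul, add_assoc]⟩⟩
  inv_mem' := fun {a} ha => ⟨by rw [inv_smul_eq_iff, ha.1],
    fun y => by rw [← ha.2.1, smul_inv_smul], fun y hy => by
    obtain ⟨c, hc⟩ := ha.2.2 y hy
    exact ⟨-c, by rw [inv_smul_eq_iff, smul_add, hc, smul_comm, ha.1]; simp⟩⟩

variable (F V H) in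
/-- a faithful linear group containing all transvections -/
structure HasTransv : Prop where
  faithful : ∀ h : H, (∀ x : V, h • x = x) → h = 1
  transv : ∀ (f : Module.Dual F V) (w : V), f w = 0 → ∃ g : H, ∀ x, g • x = x + f x • w

namespace HasTransv

variable (hG : HasTransv F V H)
include hG

/-- the opposition geometry of flags -/
noncomputable def oppGeom (p : ℕ) [CharP F p] : OppGeom p H (LinFlag F V) where
  opp x y := x.f y.v ≠ 0 ∧ y.f x.v ≠ 0
  Q x := x.rad H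
  symm h := h.symm
  irrefl x h := h.1 x.inc
  smul g x y h := by simpa [LinFlag.smul_f, LinFlag.smul_v] using h
  conj g x e he := ⟨by simp [LinFlag.smul_v, mul_smul, he.1],
    fun y => by simp [LinFlag.smul_f, mul_smul, he.2.1], fun y hy => by
      obtain ⟨c, hc⟩ := he.2.2 (g⁻¹ • y) hy
      exact ⟨c, by rw [mul_smul, mul_smul, hc, smul_add, smul_inv_smul, smul_comm]; rfl⟩⟩
  congr {x y} h e he := by
    obtain ⟨⟨c, hc, h1⟩, d, hd, h2⟩ := LinFlag.eq_smul_of_forall fun z => (h z).2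
    refine ⟨by rw [h1, smul_comm, he.1], fun u => by rw [h2, h2, he.2.1], fun u hu => ?_⟩
    obtain ⟨a, ha⟩ := he.2.2 u (by simpa [h2, hd] using hu)
    exact ⟨a / c, by rw [ha, h1, smul_smul, div_mul_cancel₀ _ hc]⟩
  free {x y e} hxy he h := by
    obtain ⟨⟨c, -, h1⟩, d, -, h2⟩ := LinFlag.eq_smul_of_forall fun z => (h z).1
    simp only [LinFlag.smul_f, LinFlag.smul_v] at h1 h2
    have h3 := he.2.1 y.v
    rw [h1, map_smul, smul_eq_mul, mul_left_eq_self₀, or_iff_left hxy.1] at h3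
    have h4 := h2 (e • x.v)
    rw [inv_smul_smul, he.1, eq_comm, mul_left_eq_self₀, or_iff_left hxy.2] at h4
    refine hG.faithful e fun u => ?_
    obtain ⟨a, ha⟩ := he.2.2 (u - (x.f u / x.f y.v) • y.v) (by simp [div_mul_cancel₀ _ hxy.1])
    have h5 := h2 (e • (u - (x.f u / x.f y.v) • y.v))
    rw [inv_smul_smul, h4, one_mul, ha, map_add, left_eq_add, map_smul, smul_eq_mul, mul_eq_zero,
      or_iff_left hxy.2] at h5
    simpa [h5, smul_sub, smul_comm e, h1, h3] using ha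
  nonfree {x y} h := by
    have key : ∀ (f : Module.Dual F V) (w : V), (∃ u, f u ≠ 0) → w ≠ 0 → f x.v = 0 → f y.v = 0 →
        x.f w = 0 → y.f w = 0 → (f = x.f ∨ w = x.v) → f w = 0 →
        ∃ q ∈ x.rad H, q ≠ 1 ∧ q • y = y := by
      rintro f w ⟨u, hu⟩ hw h1 h2 h3 h4 h5 h6
      obtain ⟨g, hg⟩ := hG.transv f w h6
      refine ⟨g, ⟨by simp [hg, h1], fun u => by simp [hg, h3], fun u hu' => ?_⟩, fun h0 => ?_,
        LinFlag.ext (by simp [LinFlag.smul_v, hg, h2]) (LinearMap.ext fun u => ?_)⟩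
      · rcases h5 with rfl | rfl
        · exact ⟨0, by simp [hg, hu']⟩
        · exact ⟨_, hg u⟩
      · simpa [h0, hu, hw] using hg u
      · obtain ⟨u, rfl⟩ := MulAction.surjective g u
        rw [LinFlag.smul_f, inv_smul_smul]
        simp [hg, h4]
    obtain ⟨q, hq, h1, h2⟩ : ∃ q ∈ x.rad H, q ≠ 1 ∧ q • y = y := by
      by_cases h1 : x.f y.v = 0
      · exact key x.f y.v x.f_ne y.v_ne x.inc h1 h1 y.inc (Or.inl rfl) h1
      · have h2 : y.f x.v = 0 := not_not.1 fun h2 => h ⟨h1, h2⟩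
        exact key y.f x.v y.f_ne x.v_ne h2 y.inc x.inc h2 (Or.inr rfl) h2
    exact ⟨q, hq, h1, fun z => by rw [h2]⟩
  trans {x y y'} h h' := by
    obtain ⟨a, ha⟩ := hG.transv x.f ((x.f y'.v)⁻¹ • y'.v - (x.f y.v)⁻¹ • y.v)
      (by simp [inv_mul_cancel₀ h.1, inv_mul_cancel₀ h'.1])
    have ha1 : a ∈ x.rad H := ⟨by simp [ha, x.inc],
      fun u => by simp [ha, inv_mul_cancel₀ h.1, inv_mul_cancel₀ h'.1],
      fun u hu => ⟨0, by simp [ha, hu]⟩⟩
    have ha2 : (a • y).v = (x.f y.v * (x.f y'.v)⁻¹) • y'.v := by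
      rw [LinFlag.smul_v, ha, smul_sub, smul_inv_smul₀ h.1, smul_smul, add_sub_cancel]
    have ha3 : (a • y).f x.v = y.f x.v := by
      rw [LinFlag.smul_f, ((x.rad H).inv_mem ha1).1]
    have ha4 : (a • y).f y'.v = 0 := by simpa [ha2, h.1, h'.1] using (a • y).inc
    obtain ⟨b, hb⟩ := hG.transv ((y.f x.v)⁻¹ • (a • y).f - (y'.f x.v)⁻¹ • y'.f) x.v
      (by simp [ha3, inv_mul_cancel₀ h.2, inv_mul_cancel₀ h'.2])
    refine ⟨b * a, mul_mem ⟨by simp [hb, ha3, inv_mul_cancel₀ h.2, inv_mul_cancel₀ h'.2],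
      fun u => by simp [hb, x.inc], fun u _ => ⟨_, hb u⟩⟩ ha1, fun z => ?_⟩
    have h1 : ∀ u, (b • a • y).f u = y.f x.v * (y'.f x.v)⁻¹ * y'.f u := fun u => by
      obtain ⟨u, rfl⟩ := MulAction.surjective b u
      rw [LinFlag.smul_f, inv_smul_smul]
      have := h.2
      have := h'.2
      simp only [hb, map_add, map_smul, LinearMap.sub_apply, LinearMap.smul_apply, smul_eq_mul]
      field_simp
      ring
    rw [mul_smul, h1, LinFlag.smul_v b, ha2, hb]
    simp [ha4, y'.inc, h.1, h.2, h'.1, h'.2]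
  both x y := by
    obtain ⟨u, h1, h2⟩ : ∃ u, x.f u ≠ 0 ∧ y.f u ≠ 0 := by
      obtain ⟨a, ha⟩ := x.f_ne
      obtain ⟨b, hb⟩ := y.f_ne
      by_cases h1 : y.f a = 0
      · by_cases h2 : x.f b = 0
        · exact ⟨a + b, by simpa [h2] using ha, by simpa [h1] using hb⟩
        · exact ⟨b, h2, hb⟩
      · exact ⟨a, ha, h1⟩
    obtain ⟨f, h3, h4, h5⟩ : ∃ f : Module.Dual F V, f u = 0 ∧ f x.v ≠ 0 ∧ f y.v ≠ 0 := by
      obtain ⟨a, ha, ha'⟩ := exists_dual_one x.v_ne x.inc h1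
      obtain ⟨b, hb, hb'⟩ := exists_dual_one y.v_ne y.inc h2
      by_cases h1 : a y.v = 0
      · by_cases h2 : b x.v = 0
        · exact ⟨a + b, by simp [ha, hb], by simpa [h2] using ha', by simpa [h1] using hb'⟩
        · exact ⟨b, hb, h2, hb'⟩
      · exact ⟨a, ha, ha', h1⟩
    exact ⟨⟨u, f, fun h0 => h1 (by rw [h0, map_zero]), ⟨_, h4⟩, h3⟩, ⟨h1, h4⟩, h2, h5⟩
  pgrp x e := by
    refine ⟨2, Subtype.ext (hG.faithful _ fun u => ?_)⟩
    have h1 : ∀ y, x.f y = 0 → (e : H) ^ p • y = y := fun y hy => by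
      obtain ⟨c, hc⟩ := e.2.2.2 y hy
      exact pow_char_smul_eq F p hc (by rw [smul_comm, e.2.1])
    rw [Subgroup.coe_pow, sq, pow_mul]
    exact pow_char_smul_eq F p (add_sub_cancel u _).symm
      (h1 _ (by simp [((x.rad H).pow_mem e.2 p).2.1]))

end HasTransv

variable (H) in
/-- the pointwise stabiliser of a set of vectors and a set of functionals -/
def linFix (T : Set V) (Φ : Set (Module.Dual F V)) : Subgroup H where
  carrier := {g | (∀ t ∈ T, g • t = t) ∧ ∀ f ∈ Φ, ∀ x, f (g • x) = f x}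
  one_mem' := by simp
  mul_mem' := fun {a b} ha hb => ⟨fun t ht => by rw [mul_smul, hb.1 t ht, ha.1 t ht],
    fun f hf x => by rw [mul_smul, ha.2 f hf, hb.2 f hf]⟩
  inv_mem' := fun {a} ha => ⟨fun t ht => by rw [inv_smul_eq_iff, ha.1 t ht],
    fun f hf x => by rw [← ha.2 f hf, smul_inv_smul]⟩

theorem mem_linFix_insert {T : Set V} {Φ : Set (Module.Dual F V)} {v : V} {f : Module.Dual F V}
    {g : H} : g ∈ linFix H (insert v T) (insert f Φ) ↔
      g ∈ linFix H T Φ ∧ g • v = v ∧ ∀ x, f (g • x) = f x := by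
  change _ ∧ _ ↔ (_ ∧ _) ∧ _
  simp only [Set.forall_mem_insert]
  tauto

variable (H) in
/-- transvections with a given centre -/
def linTrans (F : Type u) [Field F] [Module F V] [SMulCommClass H F V] (v : V) : Subgroup H where
  carrier := {h | h • v = v ∧ ∀ y, ∃ c : F, h • y = y + c • v}
  one_mem' := ⟨one_smul _ _, fun y => ⟨0, by simp⟩⟩
  mul_mem' := fun {a b} ha hb => ⟨by rw [mul_smul, hb.1, ha.1], fun y => by
    obtain ⟨c, hc⟩ := ha.2 y
    obtain ⟨d, hd⟩ := hb.2 y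
    exact ⟨c + d, by rw [mul_smul, hd, smul_add, hc, smul_comm, ha.1, add_smul, add_assoc]⟩⟩
  inv_mem' := fun {a} ha => ⟨by rw [inv_smul_eq_iff, ha.1], fun y => by
    obtain ⟨c, hc⟩ := ha.2 y
    exact ⟨-c, by rw [inv_smul_eq_iff, smul_add, hc, smul_comm, ha.1]; simp⟩⟩

theorem HasTransv.abExp_of_max (hG : HasTransv F V H) [Finite V] [Finite H] (p : ℕ) [Fact p.Prime]
    [CharP F p] (U : Submodule F V) : ∀ (T : Set V) (Φ : Set (Module.Dual F V)),
      (∀ x, x ∈ U ↔ ∀ f ∈ Φ, f x = 0) → (∀ x, ∃ t ∈ Submodule.span F T, x - t ∈ U) →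
      (∀ v ∈ U, v ≠ 0 → ∃ f : Module.Dual F V, f v = 1 ∧ ∀ t ∈ T, f t = 0) →
      ∀ S : Subgroup H, IsPGroup p S → S ≤ linFix H T Φ →
      (∀ R : Subgroup H, IsPGroup p R → R ≤ linFix H T Φ → S ≤ R → R ≤ S) → AbExp p S := by
  induction U using WellFoundedLT.induction with
  | ind U ih =>
  intro T Φ hU hT hT' S hS hST hmax
  by_cases h0 : U ≤ ⊥
  · refine (genByOrd_of_forall fun g hg => ?_).abExp
    rw [hG.faithful g fun x => by
      obtain ⟨t, ht, hx⟩ := hT x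
      rw [sub_eq_zero.1 (h0 hx)]
      exact Polar.smul_eq_of_mem_span ((mem_fixingSubgroup_iff H).2 (hST hg).1) ht, one_pow]
  obtain ⟨v, hv, hv0, hfix⟩ := exists_fixed_mod p hS h0 (by simp) fun g hg x hx =>
    (hU _).2 fun f hf => ((hST hg).2 f hf x).trans ((hU x).1 hx f hf)
  simp only [Submodule.mem_bot, sub_eq_zero] at hv0 hfix
  obtain ⟨f, hf, hfT⟩ := hT' v hv hv0
  set Q := linTrans H F v ⊓ linFix H T Φ with hQ
  have hQ1 : ∀ e ∈ Q, e ^ p = 1 := fun e he => hG.faithful _ fun x => by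
    obtain ⟨c, hc⟩ := he.1.2 x
    exact pow_char_smul_eq F p hc (by rw [smul_comm, he.1.1])
  have hQp : IsPGroup p Q := fun e => ⟨1, Subtype.ext (by simpa using hQ1 e e.2)⟩
  have hn : ∀ g, g • v = v → g ∈ linFix H T Φ → g ∈ Subgroup.normalizer (Q : Set H) :=
    fun g h2 h3 => Subgroup.mem_normalizer_fintype fun e he => by
      refine ⟨⟨?_, fun y => ?_⟩, Subgroup.mul_mem _ (Subgroup.mul_mem _ h3 he.2) (Subgroup.inv_mem _ h3)⟩
      · rw [mul_smul, mul_smul, inv_smul_eq_iff.2 h2.symm, he.1.1, h2]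
      · obtain ⟨c, hc⟩ := he.1.2 (g⁻¹ • y)
        exact ⟨c, by rw [mul_smul, mul_smul, hc, smul_add, smul_inv_smul, smul_comm, h2]⟩
  have hQS : Q ≤ S := le_sup_left.trans (hmax (Q ⊔ S) (hQp.to_sup_of_normal_left' hS
    fun g hg => hn g (hfix g hg) (hST hg)) (sup_le inf_le_right hST) le_sup_right)
  have hdec : S ≤ Q ⊔ S ⊓ linFix H (insert v T) (insert f Φ) := fun g hg => by
    have h1 : g⁻¹ • v = v := hfix _ (inv_mem hg)
    obtain ⟨e, he⟩ := hG.transv (f ∘ₗ DistribSMul.toLinearMap F V g⁻¹ - f) v (by simp [h1])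
    have h3 : e ∈ Q := ⟨⟨by simp [he, h1], fun y => ⟨_, he y⟩⟩,
      fun t ht => by simp [he, (hST (inv_mem hg)).1 t ht],
      fun φ hφ x => by simp [he, (hU v).1 hv φ hφ]⟩
    have h4 := mul_mem (hQS h3) hg
    rw [← inv_mul_cancel_left e g]
    exact Subgroup.mul_mem_sup (inv_mem h3) (Subgroup.mem_inf.2 ⟨h4, mem_linFix_insert.2
      ⟨hST h4, hfix _ h4, fun x => by simp [mul_smul, he, hf]⟩⟩)
  have h2 : AbExp p (S ⊓ linFix H (insert v T) (insert f Φ)) := by
    refine ih (U ⊓ LinearMap.ker f) (lt_of_le_of_ne inf_le_left fun h2 => ?_) _ _ (fun x => ?_)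
      (fun x => ?_) (fun u hu hu0 => ?_) _ (hS.to_le inf_le_left) inf_le_right
      fun R hR hRT hle => ?_
    · exact one_ne_zero (hf.symm.trans (h2.ge hv).2)
    · simp [hU, and_comm]
    · obtain ⟨t, ht, hx⟩ := hT x
      refine ⟨t + f (x - t) • v, add_mem (Submodule.span_mono (Set.subset_insert _ _) ht)
        (Submodule.smul_mem _ _ (Submodule.subset_span (Set.mem_insert _ _))), ?_⟩
      rw [← sub_sub]
      generalize x - t = y at hx
      exact ⟨sub_mem hx (Submodule.smul_mem _ _ hv), by simp [hf]⟩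
    · obtain ⟨f', h3, h4⟩ := hT' u hu.1 hu0
      refine ⟨f' - f' v • f, by simp [h3, show f u = 0 from hu.2], ?_⟩
      rintro t (rfl | ht)
      · simp [hf]
      · simp [h4 t ht, hfT t ht]
    · have h3 := fun g (hg : g ∈ R) => mem_linFix_insert.1 (hRT hg)
      exact le_inf (le_sup_right.trans (hmax (Q ⊔ R) (hQp.to_sup_of_normal_left' hR
        fun g hg => hn g (h3 g hg).2.1 (h3 g hg).1) (sup_le inf_le_right fun g hg => (h3 g hg).1)
        (hdec.trans (sup_le_sup_left hle _)))) hRT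
  exact abExp_iff_le.2 (hdec.trans (sup_le (fun e he => mem_abExpSub_of_pow_eq_one (hQS he)
    (hQ1 e he)) (h2.le_abExpSub inf_le_left)))

theorem HasTransv.sylow_abExp (hG : HasTransv F V H) [Finite V] [Finite H] (p : ℕ) [Fact p.Prime]
    [CharP F p] (S : Sylow p H) : AbExp p (S : Subgroup H) :=
  hG.abExp_of_max p ⊤ ∅ ∅ (by simp) (fun x => ⟨0, zero_mem _, trivial⟩) (fun v _ hv => by
      obtain ⟨f, -, -, hf⟩ := exists_dual_two (F := F) (u := 0) (v := 0) (w := v) (by simpa using hv)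
      exact ⟨(f v)⁻¹ • f, by simp [inv_mul_cancel₀ hf], by simp⟩) _ S.isPGroup'
    (fun g _ => ⟨by simp, by simp⟩) fun _ hR _ h => (S.is_maximal' hR h).le

end Cfsg
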