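import Cfsg.Agent.Lie.ClassicalGeom

/-! Polar spaces: a uniform treatment of symplectic, unitary and orthogonal geometry. -/

set_option autoImplicit false
set_option linter.unusedSectionVars false

namespace Cfsg

open scoped commutatorElement

universe u v w

/-- a non-degenerate pseudo-quadratic form -/
structure Polar (F : Type u) [Field F] (V : Type v) [AddCommGroup V] [Module F V] where
  σ : F →+* F
  B : V →ₗ[F] V →ₛₗ[σ] F
  ε : F
  q : V → F
  τ : F →+ F
  σσ : ∀ a, σ (σ a) = a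
  ε_ne : ε ≠ 0
  symm : ∀ x y, B y x = ε * σ (B x y)
  nondeg : ∀ x, (∀ y, B y x = 0) → x = 0
  q_add : ∀ x y, q (x + y) = q x + q y + τ (B x y)
  q_smul : ∀ c x, q (c • x) = c * σ c * q x
  q_mem : ∀ x, ∃ c, τ c = q x
  B_self : ∀ x, q x = 0 → B x x = 0

section fixed

variable {F : Type u} [Field F] {V : Type v} [AddCommGroup V] [Module F V]
  {H : Type w} [Group H] [DistribMulAction H V] [SMulCommClass H F V]

theorem pow_smul_eq_add_nsmul {g : H} {x d : V} (h1 : g • x = x + d) (h2 : g • d = d) (n : ℕ) :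
    g ^ n • x = x + n • d := by
  induction n with
  | zero => simp
  | succ n ih => rw [pow_succ', mul_smul, ih, smul_add, h1, smul_comm, h2, succ_nsmul']; abel

theorem pow_char_smul_eq (F : Type u) [Field F] [Module F V] (p : ℕ) [CharP F p] {g : H} {x d : V}
    (h1 : g • x = x + d) (h2 : g • d = d) : g ^ p • x = x := by
  rw [pow_smul_eq_add_nsmul h1 h2, ← Nat.cast_smul_eq_nsmul F, CharP.cast_eq_zero, zero_smul,
    add_zero]

theorem exists_fixed_mod [Finite V] (p : ℕ) [Fact p.Prime] [CharP F p] {S : Subgroup H}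
    (hS : IsPGroup p S) {W₁ W₂ : Submodule F V} (h : ¬ W₂ ≤ W₁)
    (h1 : ∀ g ∈ S, ∀ x ∈ W₁, g • x ∈ W₁) (h2 : ∀ g ∈ S, ∀ x ∈ W₂, g • x ∈ W₂) :
    ∃ y ∈ W₂, y ∉ W₁ ∧ ∀ g ∈ S, g • y - y ∈ W₁ := by
  let f : S → W₂ →ₗ[F] W₂ := fun g =>
    (DistribSMul.toLinearMap F V (g : H)).restrict fun x hx => h2 g g.2 x hx
  have hf : ∀ g, W₁.submoduleOf W₂ ≤ (W₁.submoduleOf W₂).comap (f g) := fun g x hx => h1 g g.2 x hx
  have : Finite (W₂ ⧸ W₁.submoduleOf W₂) :=
    Finite.of_surjective _ (Submodule.Quotient.mk_surjective _)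
  letI : MulAction S (W₂ ⧸ W₁.submoduleOf W₂) :=
    { smul := fun g => Submodule.mapQ _ _ (f g) (hf g)
      one_smul := fun x => by
        induction x using Submodule.Quotient.induction_on with
        | H x => exact congrArg Submodule.Quotient.mk (Subtype.ext (one_smul H (x : V)))
      mul_smul := fun a b x => by
        induction x using Submodule.Quotient.induction_on with
        | H x => exact congrArg Submodule.Quotient.mk (Subtype.ext (mul_smul (a : H) b (x : V))) }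
  obtain ⟨x, hx, hx'⟩ := SetLike.not_le_iff_exists.1 h
  have h3 : p ∣ Nat.card (W₂ ⧸ W₁.submoduleOf W₂) := by
    rw [← addOrderOf_eq_prime (x := (Submodule.Quotient.mk ⟨x, hx⟩ : W₂ ⧸ W₁.submoduleOf W₂))
      (p := p) (by rw [← Nat.cast_smul_eq_nsmul F, CharP.cast_eq_zero, zero_smul])
      fun h0 => hx' ((Submodule.Quotient.mk_eq_zero (W₁.submoduleOf W₂)).1 h0)]
    exact addOrderOf_dvd_natCard _
  obtain ⟨b, hb, hb'⟩ := hS.exists_fixed_point_of_prime_dvd_card_of_fixed_point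
    (W₂ ⧸ W₁.submoduleOf W₂) h3 (a := 0) fun g => map_zero (Submodule.mapQ _ _ (f g) (hf g))
  induction b using Submodule.Quotient.induction_on with
  | H y =>
    exact ⟨y, y.2, fun hy => hb' ((Submodule.Quotient.mk_eq_zero (W₁.submoduleOf W₂)).2 hy).symm,
      fun g hg => (Submodule.Quotient.eq (W₁.submoduleOf W₂)).1 (hb ⟨g, hg⟩)⟩

end fixed

namespace Polar

variable {F : Type u} [Field F] {V : Type v} [AddCommGroup V] [Module F V] (P : Polar F V)

theorem eq_zero_symm {x y : V} (h : P.B x y = 0) : P.B y x = 0 := by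
  rw [P.symm, h, map_zero, mul_zero]

theorem eq_eps {x y : V} (h : P.B x y = 1) : P.B y x = P.ε := by
  rw [P.symm, h, map_one, mul_one]

theorem σ_ne {c : F} (h : c ≠ 0) : P.σ c ≠ 0 := (map_ne_zero P.σ).2 h

theorem q_zero : P.q 0 = 0 := by simpa using P.q_smul 0 0

theorem q_smul_zero {x : V} (h : P.q x = 0) (c : F) : P.q (c • x) = 0 := by
  rw [P.q_smul, h, mul_zero]

theorem q_add_smul {x v : V} (hv : P.q v = 0) (h : P.B x v = 0) (c : F) :
    P.q (x + c • v) = P.q x := by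
  rw [P.q_add, P.q_smul_zero hv, map_smulₛₗ, h]
  simp

theorem exists_sing {x v : V} (hv : P.q v = 0) (h : P.B x v ≠ 0) : ∃ c : F, P.q (x + c • v) = 0 := by
  obtain ⟨d, hd⟩ := P.q_mem x
  refine ⟨P.σ (-d / P.B x v), ?_⟩
  rw [P.q_add, P.q_smul_zero hv, map_smulₛₗ, P.σσ, smul_eq_mul, div_mul_cancel₀ _ h, map_neg, hd]
  simp

theorem exists_one {v : V} (hv : v ≠ 0) : ∃ x, P.B x v = 1 := by
  obtain ⟨x, hx⟩ : ∃ x, P.B x v ≠ 0 := by
    by_contra h
    push Not at h
    exact hv (P.nondeg v h)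
  exact ⟨(P.B x v)⁻¹ • x, by rw [map_smul, LinearMap.smul_apply, smul_eq_mul, inv_mul_cancel₀ hx]⟩

theorem exists_zero_one {v w : V} (h : ∀ c : F, w ≠ c • v) : ∃ x, P.B x v = 0 ∧ P.B x w = 1 := by
  obtain ⟨x, hx, hx'⟩ : ∃ x, P.B x v = 0 ∧ P.B x w ≠ 0 := by
    by_contra h1
    push Not at h1
    by_cases hv : v = 0
    · exact h 0 (by rw [zero_smul]; exact P.nondeg w fun y => h1 y (by rw [hv, map_zero]))
    obtain ⟨x, hx⟩ := P.exists_one hv
    refine h (P.σ (P.B x w)) (sub_eq_zero.1 (P.nondeg _ fun y => ?_))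
    have := h1 (y - P.B y v • x) (by simp [hx])
    simp only [map_sub, map_smul, LinearMap.sub_apply, LinearMap.smul_apply, smul_eq_mul] at this
    rw [map_sub, map_smulₛₗ, P.σσ, smul_eq_mul, mul_comm, this]
  exact ⟨(P.B x w)⁻¹ • x, by simp [hx], by simp [inv_mul_cancel₀ hx']⟩

theorem exists_perp [FiniteDimensional F V] {k : ℕ} (y : Fin k → V) (h : k < Module.finrank F V) :
    ∃ u, u ≠ 0 ∧ ∀ i, P.B u (y i) = 0 := by
  have h1 := LinearMap.ker_ne_bot_of_finrank_lt (f := LinearMap.pi fun i => P.B.flip (y i))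
    (by simpa using h)
  obtain ⟨u, hu, hu'⟩ := (Submodule.ne_bot_iff _).1 h1
  exact ⟨u, hu', fun i => congrFun hu i⟩

theorem exists_perp_two [FiniteDimensional F V] (h : 3 ≤ Module.finrank F V) (v w : V) :
    ∃ u, u ≠ 0 ∧ P.B u v = 0 ∧ P.B u w = 0 :=
  let ⟨u, h1, h2⟩ := P.exists_perp ![v, w] h
  ⟨u, h1, h2 0, h2 1⟩

theorem exists_sing_one {v : V} (hv : v ≠ 0) (hq : P.q v = 0) :
    ∃ w, P.q w = 0 ∧ P.B w v = 1 := by
  obtain ⟨x, hx⟩ := P.exists_one hv
  obtain ⟨c, hc⟩ := P.exists_sing hq (x := x) (by rw [hx]; exact one_ne_zero)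
  exact ⟨_, hc, by simp [hx, P.B_self v hq]⟩

/-- decomposition along a hyperbolic pair -/
theorem perp_hyp {v w : V} (hv : P.B v v = 0) (hw : P.B w w = 0) (h : P.B w v = 1) (x : V) :
    P.B (x - (P.B x v • w + (P.ε⁻¹ * P.B x w) • v)) v = 0 ∧
      P.B (x - (P.B x v • w + (P.ε⁻¹ * P.B x w) • v)) w = 0 := by
  simp only [map_sub, map_add, map_smul, LinearMap.sub_apply, LinearMap.add_apply,
    LinearMap.smul_apply, smul_eq_mul, hv, hw, h, P.eq_eps h]
  have := P.ε_ne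
  constructor
  · ring
  · field_simp
    ring

theorem exists_sing_both [FiniteDimensional F V] (h3 : 3 ≤ Module.finrank F V) {v w : V}
    (hv : v ≠ 0) (hv' : P.q v = 0) (hw : w ≠ 0) (hw' : P.q w = 0) :
    ∃ z, P.q z = 0 ∧ P.B z v ≠ 0 ∧ P.B z w ≠ 0 := by
  by_cases h : P.B w v = 0
  · obtain ⟨x, hx, hx'⟩ : ∃ x, P.B x v ≠ 0 ∧ P.B x w ≠ 0 := by
      obtain ⟨x, hx⟩ := P.exists_one hv
      obtain ⟨y, hy⟩ := P.exists_one hw
      by_cases h1 : P.B x w = 0
      · by_cases h2 : P.B y v = 0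
        · exact ⟨x + y, by simp [hx, h2], by simp [hy, h1]⟩
        · exact ⟨y, h2, by simp [hy]⟩
      · exact ⟨x, by simp [hx], h1⟩
    obtain ⟨c, hc⟩ := P.exists_sing hv' hx
    exact ⟨_, hc, by simpa [P.B_self v hv'] using hx, by simpa [P.eq_zero_symm h] using hx'⟩
  have h1 : P.B v w ≠ 0 := fun h1 => h (P.eq_zero_symm h1)
  obtain ⟨u, a, hu, hu', ha, hq⟩ : ∃ u a, P.B u v = 0 ∧ P.B u w = 0 ∧ a ≠ 0 ∧
      P.q u + P.τ a = 0 := by
    by_cases hτ : ∀ a, P.τ a = 0 → a = 0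
    · by_contra h2
      have h4 : ∀ u, P.B u v = 0 → P.B u w = 0 → P.q u = 0 := fun u hu hu' => by
        obtain ⟨c, hc⟩ := P.q_mem u
        by_contra h4
        exact h2 ⟨u, -c, hu, hu', fun h5 => h4 (by rw [← hc, neg_eq_zero.1 h5, map_zero]),
          by simp [hc]⟩
      obtain ⟨u, hu, h5, h6⟩ := P.exists_perp_two h3 v w
      refine hu (P.nondeg u fun y => ?_)
      have h7 : P.B ((P.B w v)⁻¹ • w) v = 1 := by simp [inv_mul_cancel₀ h]
      obtain ⟨h8, h9⟩ := P.perp_hyp (P.B_self v hv') (P.B_self _ (P.q_smul_zero hw' _)) h7 y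
      rw [map_smulₛₗ, smul_eq_mul, mul_eq_zero, or_iff_right (P.σ_ne (inv_ne_zero h))] at h9
      generalize hy' : P.B y v • (P.B w v)⁻¹ • w + (P.ε⁻¹ * P.B y ((P.B w v)⁻¹ • w)) • v = y' at h8 h9
      have h10 := P.q_add (y - y') u
      rw [h4 _ h8 h9, h4 u h5 h6, h4 _ (by rw [map_add, LinearMap.add_apply, h8, h5, add_zero])
        (by rw [map_add, LinearMap.add_apply, h9, h6, add_zero]), add_zero, zero_add] at h10
      simpa [← hy', P.eq_zero_symm h5, P.eq_zero_symm h6] using hτ _ h10.symm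
    · push Not at hτ
      obtain ⟨a, ha, ha'⟩ := hτ
      exact ⟨0, a, by simp, by simp, ha', by simp [P.q_zero, ha]⟩
  refine ⟨u + ((a / P.B v w) • v + w), ?_, by simpa [hu, P.B_self v hv'] using h,
    by simpa [hu', P.B_self w hw', h1] using ha⟩
  rw [P.q_add, P.q_add, P.q_smul_zero hv', hw', map_smul, LinearMap.smul_apply, smul_eq_mul,
    div_mul_cancel₀ _ h1, map_add, map_smulₛₗ, hu, hu']
  simpa using hq

theorem exists_eichler_map {v w w' : V} (hv : P.q v = 0) (hw : P.q w = 0) (hw' : P.q w' = 0)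
    (h : P.B w v = 1) (h' : P.B w' v = 1) :
    ∃ e : V →ₗ[F] V, (∀ x y, P.B (e x) (e y) = P.B x y) ∧ (∀ x, P.q (e x) = P.q x) ∧
      e w = w' ∧ e v = v ∧ ∀ y, P.B y v = 0 → ∃ c : F, e y = y + c • v := by
  let φ : V →ₗ[F] F := P.ε⁻¹ • P.B.flip (w - w')
  let e : V →ₗ[F] V := LinearMap.id + (P.B.flip v).smulRight (w' - w) +
    (φ ∘ₗ (LinearMap.id - (P.B.flip v).smulRight w)).smulRight v
  have hv0 := P.B_self v hv
  have h1 : ∀ (a : F) x, P.B x v = 0 → e (a • w + x) = a • w' + (x + φ x • v) := fun a x hx => by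
    simp only [e, LinearMap.add_apply, LinearMap.id_apply, LinearMap.smulRight_apply,
      LinearMap.flip_apply, LinearMap.comp_apply, LinearMap.sub_apply, map_add P.B, map_smul P.B,
      LinearMap.smul_apply, h, hx, smul_eq_mul, mul_one, add_zero, add_sub_cancel_left]
    module
  have h2 : ∀ x, ∃ (a : F) (y : V), P.B y v = 0 ∧ x = a • w + y := fun x =>
    ⟨P.B x v, x - P.B x v • w, by simp [h], by simp⟩
  have h3 : ∀ x, P.B (x + φ x • v) w' = P.B x w := fun x => by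
    have := P.ε_ne
    simp only [φ, map_add, map_smul, LinearMap.add_apply, LinearMap.smul_apply, smul_eq_mul,
      LinearMap.flip_apply, map_sub, P.eq_eps h', LinearMap.sub_apply]
    field_simp
    ring
  have h4 : ∀ x, P.B w' (x + φ x • v) = P.B w x := fun x => by rw [P.symm, h3, ← P.symm]
  have h5 : ∀ y, P.B y v = 0 → e y = y + φ y • v := fun y hy => by simpa using h1 0 y hy
  refine ⟨e, fun x y => ?_, fun x => ?_, by simpa using h1 1 0 (by simp), ?_, fun y hy => ⟨_, h5 y hy⟩⟩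
  · obtain ⟨a, x, hx, rfl⟩ := h2 x
    obtain ⟨b, y, hy, rfl⟩ := h2 y
    rw [h1 a x hx, h1 b y hy]
    have h6 : P.B (x + φ x • v) (y + φ y • v) = P.B x y := by
      generalize φ x = c
      generalize φ y = d
      simp [hx, hv0, P.eq_zero_symm hy]
    simp only [map_add P.B (a • _), map_smul P.B a, LinearMap.add_apply, LinearMap.smul_apply,
      map_add (P.B _) (b • _), map_smulₛₗ (P.B _) b, h3, h4, h6, P.B_self w hw, P.B_self w' hw']
  · obtain ⟨a, x, hx, rfl⟩ := h2 x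
    rw [h1 a x hx, P.q_add, P.q_add_smul hv hx, P.q_add, P.q_smul_zero hw, P.q_smul_zero hw',
      map_smul P.B, map_smul P.B, LinearMap.smul_apply _ (P.B w'), LinearMap.smul_apply _ (P.B w),
      h4]
  · rw [h5 v hv0]
    simp [φ, P.eq_eps h, P.eq_eps h']

variable (H : Type w) [Group H] [DistribMulAction H V] [SMulCommClass H F V]

/-- the unipotent radical of the stabiliser of a singular point -/
def rad (v : V) : Subgroup H where
  carrier := {h | h • v = v ∧ ∀ y, P.B y v = 0 → ∃ c : F, h • y = y + c • v}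
  one_mem' := ⟨one_smul _ _, fun y _ => ⟨0, by simp⟩⟩
  mul_mem' := fun {a b} ha hb => ⟨by rw [mul_smul, hb.1, ha.1], fun y hy => by
    obtain ⟨c, hc⟩ := ha.2 y hy
    obtain ⟨d, hd⟩ := hb.2 y hy
    exact ⟨c + d, by rw [mul_smul, hd, smul_add, hc, smul_comm, ha.1, add_smul, add_assoc]⟩⟩
  inv_mem' := fun {a} ha => ⟨by rw [inv_smul_eq_iff, ha.1], fun y hy => by
    obtain ⟨c, hc⟩ := ha.2 y hy
    exact ⟨-c, by rw [inv_smul_eq_iff, smul_add, hc, smul_comm, ha.1]; simp⟩⟩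

/-- a faithful group of isometries containing all unipotent radicals -/
structure IsGrp : Prop where
  faithful : ∀ h : H, (∀ x : V, h • x = x) → h = 1
  B_smul : ∀ (h : H) x y, P.B (h • x) (h • y) = P.B x y
  q_smul : ∀ (h : H) x, P.q (h • x) = P.q x
  eichler : ∀ v w w', P.q v = 0 → P.q w = 0 → P.q w' = 0 → P.B w v = 1 → P.B w' v = 1 →
    ∃ h ∈ P.rad H v, h • w = w'

/-- the non-zero singular vectors -/
def IsGrp.pts (h : P.IsGrp H) : SubMulAction H V where
  carrier := {v | v ≠ 0 ∧ P.q v = 0}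
  smul_mem' g v hv := ⟨(smul_ne_zero_iff_ne g).2 hv.1, by rw [h.q_smul, hv.2]⟩

variable {P H}

theorem rad_le_smul {v : V} {c : F} (hc : c ≠ 0) : P.rad H v ≤ P.rad H (c • v) := fun g hg =>
  ⟨by rw [smul_comm, hg.1], fun y hy => by
    rw [map_smulₛₗ, smul_eq_mul, mul_eq_zero, or_iff_right (P.σ_ne hc)] at hy
    obtain ⟨d, hd⟩ := hg.2 y hy
    exact ⟨d / c, by rw [hd, smul_smul, div_mul_cancel₀ _ hc]⟩⟩

theorem eq_smul_of_forall {v w : V} (hv : P.q v = 0) (hw : P.q w = 0) (hv0 : v ≠ 0) (hw0 : w ≠ 0)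
    (h : ∀ z, z ≠ 0 → P.q z = 0 → P.B v z = 0 → P.B w z = 0) : ∃ c : F, c ≠ 0 ∧ w = c • v := by
  by_contra h1
  obtain ⟨x, hx, hx'⟩ := P.exists_zero_one (v := v) (w := w) fun c hc =>
    h1 ⟨c, fun h0 => hw0 (by rw [hc, h0, zero_smul]), hc⟩
  obtain ⟨c, hc⟩ := P.exists_sing hw (x := x) (by rw [hx']; exact one_ne_zero)
  have h2 : P.B (x + c • w) w = 1 := by simp [hx', P.B_self w hw]
  have h3 := P.eq_zero_symm (h _ (fun h0 => by simp [h0] at h2) hc (P.eq_zero_symm (by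
    simp [hx, h v hv0 hv (P.B_self v hv)])))
  exact one_ne_zero (h2.symm.trans h3)

namespace IsGrp

variable (hG : P.IsGrp H)
include hG

theorem B_smul_left {g : H} {v : V} (h : g • v = v) (x : V) : P.B (g • x) v = P.B x v := by
  rw [← hG.B_smul g x v, h]

theorem conj_mem_rad (g : H) {v : V} {e : H} (he : e ∈ P.rad H v) :
    g * e * g⁻¹ ∈ P.rad H (g • v) := ⟨by simp [mul_smul, he.1], fun y hy => by
  obtain ⟨c, hc⟩ := he.2 (g⁻¹ • y) (by rw [← hG.B_smul g, smul_inv_smul, hy])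
  exact ⟨c, by rw [mul_smul, mul_smul, hc, smul_add, smul_inv_smul, smul_comm]⟩⟩

theorem rad_smul {v w y : V} {e : H} (he : e ∈ P.rad H v) (h : P.B w v = 1) (hy : P.B y v = 0) :
    e • y = y + (P.ε⁻¹ * P.B y (w - e • w)) • v := by
  obtain ⟨c, hc⟩ := he.2 y hy
  have h1 := hG.B_smul e y w
  rw [hc, map_add, map_smul P.B, LinearMap.add_apply, LinearMap.smul_apply,
    P.eq_eps ((hG.B_smul_left he.1 w).trans h)] at h1
  rw [hc, map_sub, ← h1, add_sub_cancel_left, smul_eq_mul, mul_comm c, inv_mul_cancel_left₀ P.ε_ne]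

theorem rad_eq_one {v w : V} {e : H} (he : e ∈ P.rad H v) (h : P.B w v = 1) (hw : e • w = w) :
    e = 1 := hG.faithful e fun x => by
  have h1 := hG.rad_smul he h (y := x - P.B x v • w) (by simp [h])
  simpa [hw, smul_sub, smul_comm e] using h1

theorem rad_ext {v w : V} {e e' : H} (he : e ∈ P.rad H v) (he' : e' ∈ P.rad H v)
    (h : P.B w v = 1) (hw : e • w = e' • w) : e = e' :=
  (inv_mul_eq_one.1 (hG.rad_eq_one (mul_mem (inv_mem he') he) h
    (by rw [mul_smul, hw, inv_smul_smul]))).symm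

theorem isPGroup_rad (p : ℕ) [CharP F p] (v : V) : IsPGroup p (P.rad H v) := fun e => by
  refine ⟨2, Subtype.ext (hG.faithful _ fun x => ?_)⟩
  have h1 : ∀ y, P.B y v = 0 → (e : H) ^ p • y = y := fun y hy => by
    obtain ⟨c, hc⟩ := e.2.2 y hy
    exact pow_char_smul_eq F p hc (by rw [smul_comm, e.2.1])
  rw [Subgroup.coe_pow, sq, pow_mul]
  exact pow_char_smul_eq F p (add_sub_cancel x _).symm
    (h1 _ (by simp [hG.B_smul_left ((P.rad H v).pow_mem e.2 p).1]))

/-- the opposition geometry of singular points -/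
noncomputable def oppGeom [FiniteDimensional F V] (h3 : 3 ≤ Module.finrank F V) (p : ℕ)
    [CharP F p] : OppGeom p H hG.pts where
  opp x y := P.B x y ≠ 0
  Q x := P.rad H x
  symm h h1 := h (P.eq_zero_symm h1)
  irrefl x h := h (P.B_self _ x.2.2)
  smul g x y h := (hG.B_smul g x y).symm ▸ h
  conj g x q hq := hG.conj_mem_rad g hq
  congr {x y} h := by
    obtain ⟨c, hc, h1⟩ := eq_smul_of_forall x.2.2 y.2.2 x.2.1 y.2.1 fun z h1 h2 =>
      (not_iff_not.1 (h ⟨z, h1, h2⟩)).1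
    exact h1 ▸ rad_le_smul hc
  free {x y e} hxy he h := by
    obtain ⟨c, -, h1⟩ := eq_smul_of_forall y.2.2 (e • y).2.2 y.2.1 (e • y).2.1 fun z h1 h2 =>
      (not_iff_not.1 (h ⟨z, h1, h2⟩)).2
    replace h1 : e • (y : V) = c • (y : V) := h1
    have h2 : P.B y x ≠ 0 := fun h2 => hxy (P.eq_zero_symm h2)
    have h3 := hG.B_smul_left he.1 y
    rw [h1, map_smul, LinearMap.smul_apply, smul_eq_mul, mul_left_eq_self₀, or_iff_left h2] at h3
    exact hG.rad_eq_one he (w := (P.B y x)⁻¹ • (y : V)) (by simp [inv_mul_cancel₀ h2])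
      (by rw [smul_comm, h1, h3, one_smul])
  nonfree {x y} h := by
    replace h : P.B y x = 0 := P.eq_zero_symm (not_not.1 h)
    obtain ⟨w, hw, hw'⟩ := P.exists_sing_one x.2.1 x.2.2
    obtain ⟨u, h1, h2, h4⟩ : ∃ u, P.B u x = 0 ∧ P.B y u = 0 ∧ ∀ c : F, u ≠ c • (x : V) := by
      by_cases h1 : ∀ c : F, (y : V) ≠ c • (x : V)
      · exact ⟨y, h, P.B_self _ y.2.2, h1⟩
      push Not at h1
      obtain ⟨c, hc⟩ := h1
      obtain ⟨u, hu, h1, h2⟩ := P.exists_perp_two h3 x w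
      refine ⟨u, h1, by simp [hc, P.eq_zero_symm h1], fun d hd => hu ?_⟩
      rw [hd, map_smul, LinearMap.smul_apply, P.eq_eps hw', smul_eq_mul,
        mul_eq_zero, or_iff_left P.ε_ne] at h2
      rw [hd, h2, zero_smul]
    have h5 : P.B (w + u) x = 1 := by simp [hw', h1]
    obtain ⟨c, hc⟩ := P.exists_sing x.2.2 (x := w + u) (by rw [h5]; exact one_ne_zero)
    obtain ⟨e, he, h6⟩ := hG.eichler x w _ x.2.2 hw hc hw'
      (by rw [map_add, LinearMap.add_apply, h5]; simp [P.B_self _ x.2.2])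
    refine ⟨e, he, fun h0 => h4 (-c) ?_, fun z => ?_⟩
    · rw [h0, one_smul, add_assoc, left_eq_add] at h6
      rw [neg_smul, eq_neg_iff_add_eq_zero, h6]
    · have h7 := hG.rad_smul he hw' h
      rw [h6] at h7
      simp only [map_sub, map_add, map_smulₛₗ, h, h2, smul_zero, add_zero, sub_self, mul_zero,
        zero_smul] at h7
      change P.B (e • (y : V)) z ≠ 0 ↔ _
      rw [h7]
  trans {x y y'} h h' := by
    replace h : P.B y x ≠ 0 := fun h2 => h (P.eq_zero_symm h2)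
    replace h' : P.B y' x ≠ 0 := fun h2 => h' (P.eq_zero_symm h2)
    obtain ⟨e, he, h1⟩ := hG.eichler x ((P.B y x)⁻¹ • (y : V)) ((P.B y' x)⁻¹ • (y' : V)) x.2.2
      (P.q_smul_zero y.2.2 _) (P.q_smul_zero y'.2.2 _) (by simp [inv_mul_cancel₀ h])
      (by simp [inv_mul_cancel₀ h'])
    refine ⟨e, he, fun z => ?_⟩
    rw [smul_comm, inv_smul_eq_iff₀ h] at h1
    change P.B (e • (y : V)) z ≠ 0 ↔ _
    simp [h1, h, h']
  both x y := by
    obtain ⟨z, h1, h2, h4⟩ := P.exists_sing_both h3 x.2.1 x.2.2 y.2.1 y.2.2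
    exact ⟨⟨z, fun h => by simp [h] at h2, h1⟩, fun h => h2 (P.eq_zero_symm h),
      fun h => h4 (P.eq_zero_symm h)⟩
  pgrp x := hG.isPGroup_rad p x

theorem lieRigid [FiniteDimensional F V] (h3 : 3 ≤ Module.finrank F V) (p : ℕ) [CharP F p]
    [Fact p.Prime] {v : V} (hv : v ≠ 0) (hq : P.q v = 0) {G : Type*} [Group G] [Finite G]
    [IsSimpleGroup G] (e : G ≃* H ⧸ Subgroup.center H) : LieRigid p G :=
  (hG.oppGeom h3 p).lieRigid_of_equiv ⟨v, hv, hq⟩ e

end IsGrp

end Polar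

end Cfsg
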