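import Cfsg.Agent.Lie.ClassicalPolar

/-! Sylow `2`-subgroups of isometry groups of polar spaces in characteristic two; the commutator
subgroup of an orthogonal group. -/

set_option autoImplicit false
set_option linter.unusedSectionVars false

namespace Cfsg

open scoped commutatorElement

universe u v w

namespace Polar

variable {F : Type u} [Field F] {V : Type v} [AddCommGroup V] [Module F V] (P : Polar F V)

/-- the orthogonal complement of a set -/
def perp (T : Set V) : Submodule F V where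
  carrier := {x | ∀ t ∈ T, P.B x t = 0}
  add_mem' ha hb t ht := by simp [ha t ht, hb t ht]
  zero_mem' t _ := by simp
  smul_mem' c x hx t ht := by simp [hx t ht]

theorem mem_perp {T : Set V} {x : V} : x ∈ P.perp T ↔ ∀ t ∈ T, P.B x t = 0 := Iff.rfl

theorem mem_perp_insert {T : Set V} {x u : V} :
    x ∈ P.perp (insert u T) ↔ P.B x u = 0 ∧ x ∈ P.perp T := by simp [mem_perp]

theorem perp_span {T : Set V} {x t : V} (hx : x ∈ P.perp T) (ht : t ∈ Submodule.span F T) :
    P.B x t = 0 :=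
  (Submodule.span_le.2 (show T ⊆ LinearMap.ker (P.B x) from hx) ht :)

/-- `V` is the sum of the span of `T` and its orthogonal complement -/
def Split (T : Set V) : Prop := ∀ x, ∃ t ∈ Submodule.span F T, x - t ∈ P.perp T

variable {P}

theorem Split.insert_one {T : Set V} (h : P.Split T) {u : V} (hu : u ∈ P.perp T)
    (h0 : P.B u u ≠ 0) : P.Split (insert u T) := fun x => by
  obtain ⟨t, ht, hx⟩ := h x
  refine ⟨t + (P.B (x - t) u / P.B u u) • u, add_mem (Submodule.span_mono (Set.subset_insert _ _) ht)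
    (Submodule.smul_mem _ _ (Submodule.subset_span (Set.mem_insert _ _))), ?_⟩
  rw [← sub_sub, mem_perp_insert]
  generalize x - t = y at hx
  exact ⟨by simp [div_mul_cancel₀ _ h0], sub_mem hx (Submodule.smul_mem _ _ hu)⟩

theorem Split.insert_two {T : Set V} (h : P.Split T) {v w : V} (hv : v ∈ P.perp T)
    (hw : w ∈ P.perp T) (hv0 : P.B v v = 0) (hw0 : P.B w w = 0) (h1 : P.B w v = 1) :
    P.Split (insert v (insert w T)) := fun x => by
  obtain ⟨t, ht, hx⟩ := h x
  refine ⟨t + (P.B (x - t) v • w + (P.ε⁻¹ * P.B (x - t) w) • v), add_mem (Submodule.span_mono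
    ((Set.subset_insert _ _).trans (Set.subset_insert _ _)) ht) (add_mem
    (Submodule.smul_mem _ _ (Submodule.subset_span (by simp)))
    (Submodule.smul_mem _ _ (Submodule.subset_span (by simp)))), ?_⟩
  rw [← sub_sub, mem_perp_insert, mem_perp_insert]
  exact ⟨(P.perp_hyp hv0 hw0 h1 _).1, (P.perp_hyp hv0 hw0 h1 _).2,
    sub_mem hx (add_mem (Submodule.smul_mem _ _ hw) (Submodule.smul_mem _ _ hv))⟩

theorem Split.exists_sing_one {T : Set V} (h : P.Split T) {v : V} (hv : v ∈ P.perp T)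
    (hv0 : v ≠ 0) (hq : P.q v = 0) : ∃ w ∈ P.perp T, P.q w = 0 ∧ P.B w v = 1 := by
  obtain ⟨x, hx⟩ := P.exists_one hv0
  obtain ⟨t, ht, h1⟩ := h x
  have h2 : P.B (x - t) v = 1 := by simp [hx, P.eq_zero_symm (P.perp_span hv ht)]
  obtain ⟨c, hc⟩ := P.exists_sing hq (x := x - t) (by rw [h2]; exact one_ne_zero)
  exact ⟨_, add_mem h1 (Submodule.smul_mem _ _ hv), hc,
    by rw [map_add, LinearMap.add_apply, h2]; simp [P.B_self v hq]⟩

variable {H : Type w} [Group H] [DistribMulAction H V] [SMulCommClass H F V]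

theorem smul_eq_of_mem_span {T : Set V} {g : H} (hg : g ∈ fixingSubgroup H T) {t : V}
    (ht : t ∈ Submodule.span F T) : g • t = t := by
  induction ht using Submodule.span_induction with
  | mem x hx => exact (mem_fixingSubgroup_iff H).1 hg x hx
  | zero => simp
  | add x y _ _ hx hy => rw [smul_add, hx, hy]
  | smul c x _ hx => rw [smul_comm, hx]

theorem mem_fixingSubgroup_insert {T : Set V} {g : H} {u : V} :
    g ∈ fixingSubgroup H (insert u T) ↔ g • u = u ∧ g ∈ fixingSubgroup H T := by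
  simp [mem_fixingSubgroup_iff]

namespace IsGrp

variable (hG : P.IsGrp H)
include hG

theorem smul_mem_perp {T : Set V} {g : H} (hg : g ∈ fixingSubgroup H T) {x : V}
    (hx : x ∈ P.perp T) : g • x ∈ P.perp T := fun t ht => by
  rw [hG.B_smul_left ((mem_fixingSubgroup_iff H).1 hg t ht), hx t ht]

theorem smul_sub_mem_perp {T : Set V} {g : H} (hg : g ∈ fixingSubgroup H T) (x : V) :
    g • x - x ∈ P.perp T := fun t ht => by
  simp [hG.B_smul_left ((mem_fixingSubgroup_iff H).1 hg t ht)]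

theorem mem_fixing_of_rad {T : Set V} {v w : V} {e : H} (he : e ∈ P.rad H v) (hv : v ∈ P.perp T)
    (hw : w ∈ P.perp T) (h : P.B w v = 1) (hw' : e • w ∈ P.perp T) : e ∈ fixingSubgroup H T :=
  (mem_fixingSubgroup_iff H).2 fun t ht => by
    rw [hG.rad_smul he h (P.eq_zero_symm (hv t ht)), P.eq_zero_symm (sub_mem hw hw' t ht)]
    simp

theorem rad_smul_mod {v w u : V} {e : H} (he : e ∈ P.rad H v) (h : P.B w v = 1) {c : F}
    (hu : e • w = w + u + c • v) (x : V) : ∃ d : F, e • x = x + P.B x v • u + d • v := by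
  obtain ⟨d, hd⟩ := he.2 (x - P.B x v • w) (by simp [h])
  rw [smul_sub, smul_comm, hu, sub_eq_iff_eq_add] at hd
  exact ⟨d + P.B x v * c, by rw [hd]; module⟩

theorem exists_rad {v w u : V} (hv : P.q v = 0) (hw : P.q w = 0) (h : P.B w v = 1)
    (hu : P.B u v = 0) : ∃ e ∈ P.rad H v, ∃ c : F, e • w = w + u + c • v := by
  have h3 : P.B (w + u) v = 1 := by simp [h, hu]
  obtain ⟨c, hc⟩ := P.exists_sing hv (x := w + u) (by rw [h3]; exact one_ne_zero)
  obtain ⟨e, he, h4⟩ := hG.eichler v w _ hv hw hc h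
    (by rw [map_add, LinearMap.add_apply, h3]; simp [P.B_self v hv])
  exact ⟨e, he, c, h4⟩

theorem commutator [FiniteDimensional F V] (hτ : ∀ a, P.τ a = 0 → a = 0)
    (h5 : 5 ≤ Module.finrank F V)
    (hr : ∀ a, P.q a ≠ 0 → ∃ r : H, ∀ x, r • x = x - (P.B x a / P.q a) • a) :
    P.IsGrp (commutator H) := by
  refine ⟨fun h hh => Subtype.ext (hG.faithful h hh), fun h => hG.B_smul h, fun h => hG.q_smul h,
    fun v w w' hv hw hw' h h' => ?_⟩
  have hv0 := P.B_self v hv
  let S : V → Prop := fun u => ∃ e ∈ P.rad H v, e ∈ _root_.commutator H ∧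
    ∃ c : F, e • w = w + u + c • v
  have h1 : ∀ u u', P.B u' v = 0 → S u → S u' → S (u + u') := by
    rintro u u' hu' ⟨e, he, he1, c, hc⟩ ⟨e', he', he1', c', hc'⟩
    obtain ⟨d, hd⟩ := he.2 u' hu'
    exact ⟨e * e', mul_mem he he', mul_mem he1 he1', c + c' + d, by
      rw [mul_smul, hc', smul_add, smul_add, hc, hd, smul_comm, he.1]; module⟩
  have h2 : ∀ a, P.B a v = 0 → P.q a ≠ 0 → ∀ t : F, S (t • a) := fun a ha hq t => by
    obtain ⟨x, hx, hx'⟩ := P.exists_zero_one (v := v) (w := a) fun c hc =>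
      hq (hc ▸ P.q_smul_zero hv c)
    obtain ⟨e, he, c, hc⟩ := hG.exists_rad hv hw h (u := (t * P.q a) • x) (by simp [hx])
    obtain ⟨r, hr⟩ := hr a hq
    have hrv : r • v = v := by simp [hr, P.eq_zero_symm ha]
    have hs : ⁅e, r⁆ ∈ P.rad H v := by
      have := mul_mem he (hrv ▸ hG.conj_mem_rad r (inv_mem he) : r * e⁻¹ * r⁻¹ ∈ P.rad H v)
      simpa [commutatorElement_def, mul_assoc] using this
    obtain ⟨d, hd⟩ := hG.rad_smul_mod hs h (u := ⁅e, r⁆ • w - w) (c := 0) (by simp) (r • e • w)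
    obtain ⟨d', hd'⟩ := hG.rad_smul_mod he h hc (r • w)
    rw [hG.B_smul_left hrv, hG.B_smul_left he.1, h, ← mul_smul, ← mul_smul,
      show ⁅e, r⁆ * r * e = e * r by simp [commutatorElement_def], mul_smul, hd',
      hG.B_smul_left hrv, h, hc, smul_add, smul_add, smul_comm r c, hrv,
      smul_comm r _ x, hr x, hx'] at hd
    refine ⟨_, hs, Subgroup.commutator_mem_commutator (Subgroup.mem_top _) (Subgroup.mem_top _),
      d' - c - d, ?_⟩
    have h3 : t • a = (t * P.q a) • (1 / P.q a) • a := by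
      rw [smul_smul, mul_assoc, mul_one_div_cancel hq, mul_one]
    rw [h3]
    generalize ⁅e, r⁆ • w = z at hd ⊢
    generalize r • w = z' at hd
    linear_combination (norm := module) -hd
  have h3 : ∀ u, P.B u v = 0 → S u := fun u hu => by
    by_cases hq : P.q u = 0
    swap
    · simpa using h2 u hu hq 1
    by_cases h3 : ∀ c : F, u ≠ c • v
    swap
    · push Not at h3
      obtain ⟨c, rfl⟩ := h3
      exact ⟨1, one_mem _, one_mem _, -c, by simp⟩
    obtain ⟨a, ha, ha', hqa⟩ : ∃ a, P.B a v = 0 ∧ P.B a u = 0 ∧ P.q a ≠ 0 := by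
      by_contra h4
      push Not at h4
      obtain ⟨y, hy, hy'⟩ := P.exists_zero_one h3
      obtain ⟨a, ha, h6⟩ := P.exists_perp ![v, u, w, y] h5
      refine ha (P.nondeg a fun x => ?_)
      obtain ⟨z, hz⟩ : ∃ z, z = x - P.B x v • w - P.B (x - P.B x v • w) u • y := ⟨_, rfl⟩
      have h7 : P.B z v = 0 := by simp [hz, h, hy]
      have h8 : P.B z u = 0 := by
        rw [hz]
        generalize x - P.B x v • w = x'
        simp [hy']
      have h9 := P.q_add z a
      rw [h4 z h7 h8, h4 a (h6 0) (h6 1), h4 _ (by simpa [h7] using h6 0) (by simpa [h8] using h6 1),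
        add_zero, zero_add] at h9
      simpa [hz, P.eq_zero_symm (show P.B a w = 0 from h6 2),
        P.eq_zero_symm (show P.B a y = 0 from h6 3)] using hτ _ h9.symm
    simpa using h1 _ _ (by simp [ha]) (h2 (a + u) (by simp [ha, hu])
      (by rw [P.q_add, hq, ha']; simpa using hqa) 1) (h2 a ha hqa (-1))
  obtain ⟨e, he, he', c, hc⟩ := h3 (w' - w) (by simp [h, h'])
  have h4 := hG.q_smul e w
  rw [hc, add_sub_cancel, P.q_add, hw', P.q_smul_zero hv, hw, map_smulₛₗ, h'] at h4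
  have h6 : c = 0 := by simpa using hτ (P.σ c) (by simpa using h4)
  exact ⟨⟨e, he'⟩, he, by simpa [h6] using hc⟩

variable [Finite V] [CharP F 2]

theorem sq_eq_one_of_no_fixed
    (hN : ∀ u y, P.q u ≠ 0 → P.B u u = 0 → ∃ a, a * P.σ a * P.q u + P.q y = 0)
    {S : Subgroup H} (hS : IsPGroup 2 S) (U : Submodule F V) : ∀ T : Set V, P.perp T = U →
      P.Split T → S ≤ fixingSubgroup H T →
      (∀ v ∈ P.perp T, P.q v = 0 → (∀ g ∈ S, g • v = v) → v = 0) → ∀ g ∈ S, g ^ 2 = 1 := by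
  induction U using WellFoundedLT.induction with
  | ind U ih =>
  rintro T rfl hT hST h g hg
  by_cases h0 : P.perp T ≤ ⊥
  · rw [hG.faithful g fun x => by
      obtain ⟨t, ht, hx⟩ := hT x
      rw [sub_eq_zero.1 (h0 hx)]
      exact smul_eq_of_mem_span (hST hg) ht, one_pow]
  obtain ⟨u, hu, hu0, hu'⟩ := exists_fixed_mod 2 hS h0 (by simp)
    fun g hg x hx => hG.smul_mem_perp (hST hg) hx
  simp only [Submodule.mem_bot, sub_eq_zero] at hu0 hu'
  have hS' : S ≤ fixingSubgroup H (insert u T) := fun g hg =>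
    mem_fixingSubgroup_insert.2 ⟨hu' g hg, hST hg⟩
  by_cases h1 : P.B u u = 0
  swap
  · refine ih _ (lt_of_le_of_ne (fun x hx => (P.mem_perp_insert.1 hx).2) fun h2 => ?_) _ rfl
      (hT.insert_one hu h1) hS' (fun v hv => h v (P.mem_perp_insert.1 hv).2) g hg
    exact h1 (P.mem_perp_insert.1 (h2 ▸ hu)).1
  have hq : P.q u ≠ 0 := fun h2 => hu0 (h u hu h2 hu')
  have h2 : P.perp (insert u T) ≤ Submodule.span F {u} := by
    by_contra h2
    obtain ⟨y, hy, hy0, hy'⟩ := exists_fixed_mod 2 hS h2 (fun g hg x hx => by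
      obtain ⟨c, rfl⟩ := Submodule.mem_span_singleton.1 hx
      rwa [smul_comm, hu' g hg]) fun g hg x hx => hG.smul_mem_perp (hS' hg) hx
    obtain ⟨a, ha⟩ := hN u y hq h1
    obtain ⟨h3, h4⟩ := P.mem_perp_insert.1 hy
    have h5 := h (a • u + y) (add_mem (Submodule.smul_mem _ _ hu) h4)
      (by rw [P.q_add, P.q_smul, ha]; simp [P.eq_zero_symm h3]) fun g hg => by
        obtain ⟨c, hc⟩ := Submodule.mem_span_singleton.1 (hy' g hg)
        have h6 := hG.q_smul g y
        rw [eq_sub_iff_add_eq'] at hc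
        rw [← hc, P.q_add, P.q_smul, map_smulₛₗ, h3, smul_zero, map_zero, add_zero, add_eq_left,
          mul_eq_zero, or_iff_left hq, mul_eq_zero, map_eq_zero, or_self] at h6
        rw [smul_add, smul_comm, hu' g hg, ← hc, h6, zero_smul, add_zero]
    exact hy0 (Submodule.mem_span_singleton.2 ⟨-a, by rw [neg_smul, neg_eq_iff_add_eq_zero, h5]⟩)
  refine hG.faithful _ fun x => pow_char_smul_eq F 2 (add_sub_cancel x _).symm ?_
  obtain ⟨c, hc⟩ := Submodule.mem_span_singleton.1 (h2 (hG.smul_sub_mem_perp (hS' hg) x))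
  rw [← hc, smul_comm, hu' g hg]

theorem sq_eq_commutator (hT : ∀ u, ∃ l, (l + P.σ l + 1) * P.B u u = 0) {T : Set V} {v w : V}
    (hv : v ∈ P.perp T) (hw : w ∈ P.perp T) (hv0 : P.q v = 0) (hw0 : P.q w = 0) (h : P.B w v = 1)
    {e : H} (he : e ∈ P.rad H v ⊓ fixingSubgroup H T) :
    ∃ e' ∈ P.rad H v ⊓ fixingSubgroup H T, e ^ 2 = ⁅e, e'⁆ := by
  obtain ⟨u, hu⟩ : ∃ u, e • w = w + u := ⟨_, (add_sub_cancel w _).symm⟩
  have h1 : P.B u v = 0 := by simpa [hu, h] using hG.B_smul_left he.1.1 w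
  have h2 : u ∈ P.perp T := by simpa [hu] using hG.smul_sub_mem_perp he.2 w
  obtain ⟨l, hl⟩ := hT u
  obtain ⟨e', he', c, h4⟩ := hG.exists_rad hv0 hw0 h (u := l • u) (by simp [h1])
  refine ⟨e', ⟨he', hG.mem_fixing_of_rad he' hv hw h (h4 ▸ add_mem (add_mem hw
    (Submodule.smul_mem _ _ h2)) (Submodule.smul_mem _ _ hv))⟩, ?_⟩
  have h5 : e ^ 2 * e' * e = e * e' := by
    refine hG.rad_ext (mul_mem (mul_mem (pow_mem he.1 2) he') he.1) (mul_mem he.1 he') h ?_
    have h6 := hG.rad_smul he.1 h h1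
    have h7 := hG.rad_smul he' h h1
    rw [hu] at h6
    rw [h4] at h7
    simp only [sq, mul_smul, hu, h4, smul_add, smul_comm e, smul_comm e', h6, h7, he.1.1, he'.1,
      map_sub, map_add, map_smulₛₗ, h1, smul_eq_mul]
    have h8 := CharTwo.two_eq_zero (R := F)
    match_scalars <;> grind
  rw [commutatorElement_def, ← h5]
  group

theorem abExp_of_max [Finite H]
    (hN : ∀ u y, P.q u ≠ 0 → P.B u u = 0 → ∃ a, a * P.σ a * P.q u + P.q y = 0)
    (hT : ∀ u, ∃ l, (l + P.σ l + 1) * P.B u u = 0) (U : Submodule F V) :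
    ∀ T : Set V, P.perp T = U → P.Split T → ∀ S : Subgroup H, IsPGroup 2 S →
      S ≤ fixingSubgroup H T →
      (∀ R : Subgroup H, IsPGroup 2 R → R ≤ fixingSubgroup H T → S ≤ R → R ≤ S) → AbExp 2 S := by
  induction U using WellFoundedLT.induction with
  | ind U ih =>
  rintro T rfl hTs S hS hST hmax
  by_cases h : ∀ v ∈ P.perp T, P.q v = 0 → (∀ g ∈ S, g • v = v) → v = 0
  · exact (genByOrd_of_forall (hG.sq_eq_one_of_no_fixed hN hS _ T rfl hTs hST h)).abExp
  push Not at h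
  obtain ⟨v, hv, hq, hfix, hv0⟩ := h
  obtain ⟨w, hw, hqw, h1⟩ := hTs.exists_sing_one hv hv0 hq
  set Q := P.rad H v ⊓ fixingSubgroup H T with hQ
  have hQp : IsPGroup 2 Q := (hG.isPGroup_rad 2 v).to_le inf_le_left
  have hn : ∀ g, g • v = v → g ∈ fixingSubgroup H T → g ∈ Subgroup.normalizer (Q : Set H) :=
    fun g h2 h3 => Subgroup.mem_normalizer_fintype fun e he =>
      ⟨h2 ▸ hG.conj_mem_rad g he.1, Subgroup.mul_mem _ (Subgroup.mul_mem _ h3 he.2) (Subgroup.inv_mem _ h3)⟩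
  have hQS : Q ≤ S := le_sup_left.trans (hmax (Q ⊔ S) (hQp.to_sup_of_normal_left' hS
    fun g hg => hn g (hfix g hg) (hST hg)) (sup_le inf_le_right hST) le_sup_right)
  have hdec : S ≤ Q ⊔ S ⊓ MulAction.stabilizer H w := fun g hg => by
    obtain ⟨e, he, h2⟩ := hG.eichler v w (g • w) hq hqw ((hG.q_smul g w).trans hqw) h1
      ((hG.B_smul_left (hfix g hg) w).trans h1)
    have h3 : e ∈ Q := ⟨he, hG.mem_fixing_of_rad he hv hw h1 (h2 ▸ hG.smul_mem_perp (hST hg) hw)⟩
    rw [← mul_inv_cancel_left e g]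
    exact Subgroup.mul_mem_sup h3 (Subgroup.mem_inf.2 ⟨mul_mem (inv_mem (hQS h3)) hg, by
      rw [MulAction.mem_stabilizer_iff, mul_smul, ← h2, inv_smul_smul]⟩)
  have h2 : AbExp 2 (S ⊓ MulAction.stabilizer H w) := by
    refine ih _ (lt_of_le_of_ne (fun x hx => (P.mem_perp_insert.1 (P.mem_perp_insert.1 hx).2).2)
      fun h2 => ?_) _ rfl (hTs.insert_two hv hw (P.B_self v hq) (P.B_self w hqw) h1) _
      (hS.to_le inf_le_left) (fun g hg => mem_fixingSubgroup_insert.2 ⟨hfix g hg.1,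
        mem_fixingSubgroup_insert.2 ⟨hg.2, hST hg.1⟩⟩) fun R hR hRT hle => ?_
    · exact one_ne_zero (h1.symm.trans (P.mem_perp_insert.1 (h2 ▸ hw)).1)
    · have h3 := fun g (hg : g ∈ R) => mem_fixingSubgroup_insert.1 (hRT hg)
      have h4 := fun g (hg : g ∈ R) => mem_fixingSubgroup_insert.1 (h3 g hg).2
      exact le_inf (le_sup_right.trans (hmax (Q ⊔ R) (hQp.to_sup_of_normal_left' hR
        fun g hg => hn g (h3 g hg).1 (h4 g hg).2) (sup_le inf_le_right fun g hg => (h4 g hg).2)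
        (hdec.trans (sup_le_sup_left hle _)))) fun g hg => (h4 g hg).1
  refine abExp_iff_le.2 (hdec.trans (sup_le (fun e he => ?_) (h2.le_abExpSub inf_le_left)))
  obtain ⟨e', he', h3⟩ := hG.sq_eq_commutator hT hv hw hq hqw h1 he
  exact mem_abExpSub.2 ⟨hQS he, h3 ▸ Subgroup.commutator_mem_commutator (hQS he) (hQS he')⟩

theorem sylow_abExp [Finite H]
    (hN : ∀ u y, P.q u ≠ 0 → P.B u u = 0 → ∃ a, a * P.σ a * P.q u + P.q y = 0)
    (hT : ∀ u, ∃ l, (l + P.σ l + 1) * P.B u u = 0) (S : Sylow 2 H) : AbExp 2 (S : Subgroup H) :=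
  hG.abExp_of_max hN hT _ ∅ rfl (fun x => ⟨0, zero_mem _, fun _ h => h.elim⟩) _ S.isPGroup'
    (fun g _ => (mem_fixingSubgroup_iff H).2 fun _ h => h.elim)
    fun _ hR _ h => (S.is_maximal' hR h).le

end IsGrp

end Polar

end Cfsg
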