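import Cfsg.Agent.Lie.StTw

/-! Normal forms in unipotent subgroups, and the final criterion for groups of Lie type. -/

set_option autoImplicit false

namespace Cfsg.Lie.Chk

open Matrix RGD

/-- height of a root -/
def Cert.ht (C : Cert) (l r : ℕ) : ℤ := ((List.range l).map fun a => (C.R (l + r) a : ℤ) - 8).sum

/-- the roots are ordered by height -/
def Cert.chkU (C : Cert) (l n : ℕ) (e : ℤ) : List ℕ → Bool
  | [] => true
  | r :: tl => r < n && 0 < e * C.ht l r && (tl.all fun s => r ≠ s && e * C.ht l r ≤ e * C.ht l s) &&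
    C.chkU l n e tl

/-- each root subgroup normalises the subgroup generated by the later ones -/
noncomputable def Cert.chkTow (C : Cert) (l n : ℕ) (τ : Twist) (p : ℕ) : List ℕ → Bool
  | [] => true
  | r :: tl => r < n && r ∉ tl && (tl.all fun s => C.chkC l n .id 0 r s && C.chkC l n τ p r s &&
    (C.wd l r s).all (·.1 ∈ tl)) && C.chkTow l n τ p tl

/-- the positive roots supported on the orbit of `i` are listed in `rs` -/
noncomputable def Cert.chkJ (C : Cert) (l n : ℕ) (τ : Twist) (i : ℕ) (rs : List ℕ) : Bool :=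
  allLt n fun r => !C.pos l r || r ∈ rs || !allLt l fun a =>
    a = i || a = τ.β0 i || a = τ.β0 (τ.β0 i) || C.R (l + r) a = 8

/-- the roots in `rs` are negative and supported on the orbit of `i` -/
noncomputable def Cert.chkJ' (C : Cert) (l n : ℕ) (τ : Twist) (i : ℕ) (rs : List ℕ) : Bool :=
  rs.all fun r => r < n && !C.pos l r && allLt l fun a =>
    a = i || a = τ.β0 i || a = τ.β0 (τ.β0 i) || C.R (l + r) a = 8

/-- factors with monomials given as lists of primes -/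
def encE (f : ℕ × ℕ × ℕ × List ℕ) : Fc := (f.1, f.2.1, f.2.2.1, f.2.2.2.prod)

variable {D : ChevalleyDatum} {K : Type*} [Field K] {C : Cert}

theorem allLt_iff {n : ℕ} {f : ℕ → Bool} : allLt n f = true ↔ ∀ k < n, f k = true := by
  refine ⟨of_allLt, fun h => ?_⟩
  induction n with
  | zero => rfl
  | succ n ih =>
    change Bool.rec false (allLt n f) (f n) = true
    rw [h n n.lt_succ_self]
    exact ih fun k hk => h k (by omega)

theorem Cert.ht_eq (r : ℕ) : C.ht D.rank r = ∑ a, C.ρ D r a :=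
  Finset.sum_range (n := D.rank) fun a => (C.R (D.rank + r) a : ℤ) - 8

theorem Cert.Good.nf_uniq (h : C.Good D) {e : ℤ} {rs : List ℕ} {c c' : ℕ → K}
    (hU : C.chkU D.rank D.nroots e rs = true) (hc : (rs.map fun r => h.gx r (c r)).prod =
    (rs.map fun r => h.gx r (c' r)).prod) : ∀ r ∈ rs, c r = c' r := by
  have h0 : ∀ rs, C.chkU D.rank D.nroots e rs = true → ∀ r ∈ rs, r < D.nroots := fun rs hU => by
    induction rs with
    | nil => simp
    | cons r tl ih =>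
      simp only [Cert.chkU, Bool.and_eq_true, decide_eq_true_eq] at hU
      simpa [hU.1.1.1] using ih hU.2
  induction rs with
  | nil => simp
  | cons r tl ih =>
  simp only [Cert.chkU, Bool.and_eq_true, decide_eq_true_eq, List.all_eq_true, Cert.ht_eq] at hU
  have hP : ∀ μ ν : Fin D.rank → ℤ, e * ∑ a, C.ρ D r a ≤ e * ∑ a, μ a ∧ μ ≠ C.ρ D r →
      e * ∑ a, C.ρ D r a ≤ e * ∑ a, ν a ∧ ν ≠ C.ρ D r →
      e * ∑ a, C.ρ D r a ≤ e * ∑ a, (μ + ν) a ∧ μ + ν ≠ C.ρ D r := fun μ ν h1 h2 => by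
    have : e * ∑ a, C.ρ D r a < e * ∑ a, (μ + ν) a := by
      simp only [Pi.add_apply, Finset.sum_add_distrib, mul_add]
      linarith [h1.1, h2.1, hU.1.1.2]
    exact ⟨this.le, fun h => by rw [h] at this; exact this.false⟩
  have h1 : ∀ c : ℕ → K, (tl.map fun r => h.gx r (c r)).prod ∈ C.pat K _ hP := fun c =>
    list_prod_mem (List.forall_mem_map.2 fun s hs => h.gx_mem_pat (h0 tl hU.2 s hs)
      ⟨(hU.1.2 s hs).2, fun h1 => (hU.1.2 s hs).1 (h.ρ_inj (h0 tl hU.2 s hs) hU.1.1.1 h1).symm⟩ _)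
  rw [List.map_cons, List.map_cons, List.prod_cons, List.prod_cons] at hc
  have h2 := h.eq_zero_of_mem_pat hU.1.1.1 (hP := hP) (fun h => h.2 rfl) (t := -c' r + c r) (by
    rw [h.gx_add, h.gx_neg, eq_mul_inv_of_mul_eq hc, mul_assoc, inv_mul_cancel_left]
    exact mul_mem (h1 c') (inv_mem (h1 c)))
  rw [neg_add_eq_zero] at h2
  simpa [h2] using ih hU.2 (by simpa [h2] using hc)

namespace Sys

variable (S : Sys C D K) (h : C.GoodT D .id 0)

theorem exists_nf {rs : List ℕ} (hT : C.chkTow D.rank D.nroots S.τ S.p rs = true) {g}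
    (hg : g ∈ (S.rgd h).XS fun μ => ∃ r ∈ rs, r < D.nroots ∧ C.ρ D r = μ) :
    ∃ c : ℕ → K, g = (rs.map fun r => S.y r (c r)).prod := by
  induction rs generalizing g with
  | nil => exact ⟨0, Subgroup.mem_bot.1 (XS_le (by simp) hg)⟩
  | cons r tl ih =>
  simp only [Cert.chkTow, Bool.and_eq_true, decide_eq_true_eq, List.all_eq_true] at hT
  have h0 : ∀ rs, C.chkTow D.rank D.nroots S.τ S.p rs = true → ∀ r ∈ rs, r < D.nroots := fun rs h => by
    induction rs with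
    | nil => simp
    | cons r tl ih =>
      simp only [Cert.chkTow, Bool.and_eq_true, decide_eq_true_eq] at h
      simpa [h.1.1.1] using ih h.2
  have h1 : ∀ x ∈ S.X (C.ρ D r), ∀ y ∈ (S.rgd h).XS fun μ => ∃ r ∈ tl, r < D.nroots ∧ C.ρ D r = μ,
      x * y * x⁻¹ ∈ (S.rgd h).XS fun μ => ∃ r ∈ tl, r < D.nroots ∧ C.ρ D r = μ := fun x hx y =>
    conj_XS (by
      rintro _ - ⟨s, hs, h1, rfl⟩ y hy
      obtain ⟨t, rfl⟩ := S.mem_X hT.1.1.1 hx
      obtain ⟨u, rfl⟩ := S.mem_X h1 hy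
      exact S.y_comm h (hT.1.2 s hs).1.1 (hT.1.2 s hs).1.2 (fun f hf t => S.y_mem_XS h
        (h0 tl hT.2 _ ((hT.1.2 s hs).2 f hf)) ⟨_, (hT.1.2 s hs).2 f hf,
        h0 tl hT.2 _ ((hT.1.2 s hs).2 f hf), rfl⟩ t) t u)
  obtain ⟨x, hx, y, hy, rfl⟩ := (Subgroup.coe_mul_of_left_le_normalizer_right (S.X (C.ρ D r)) _
    fun x hx => Subgroup.mem_normalizer_iff.2 fun y => ⟨h1 x hx y, fun h => by
      simpa [mul_assoc] using h1 _ (inv_mem hx) _ h⟩).le (XS_le (by
      rintro _ - ⟨s, hs, h1, rfl⟩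
      rcases List.mem_cons.1 hs with rfl | hs
      exacts [le_sup_left, fun _ h => Subgroup.mem_sup_right (mem_XS ⟨s, hs, h1, rfl⟩ h)]) hg)
  obtain ⟨t, rfl⟩ := S.mem_X hT.1.1.1 hx
  obtain ⟨c, rfl⟩ := ih hT.2 hy
  refine ⟨Function.update c r t, ?_⟩
  rw [List.map_cons, List.prod_cons, Function.update_self]
  exact congrArg (_ * List.prod ·) (List.map_congr_left fun s hs => by
    rw [Function.update_of_ne (by rintro rfl; exact hT.1.1.2 hs)])

theorem supp_iff (i : Fin D.rank) (r : ℕ) : (∀ j ∉ orbJ S.b0 i, C.ρ D r j = 0) ↔ ∀ a < D.rank,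
    ((a = i ∨ a = S.τ.β0 i) ∨ a = S.τ.β0 (S.τ.β0 i)) ∨ C.R (D.rank + r) a = 8 := by
  simp only [orbJ, Set.mem_insert_iff, Set.mem_singleton_iff, Fin.ext_iff, b0, Fin.forall_iff,
    Cert.wt, or_assoc]
  refine forall₂_congr fun a _ => ?_
  omega

theorem exists_nf_res (i : Fin D.rank) {rs : List ℕ} (hJ : C.chkJ D.rank D.nroots S.τ i rs = true)
    (hT : C.chkTow D.rank D.nroots S.τ S.p rs = true) {g}
    (hg : g ∈ ((S.rgd h).res (orbJ S.b0 i)).U) :
    ∃ c : ℕ → K, g = (rs.map fun r => S.y r (c r)).prod :=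
  S.exists_nf h hT (S.XS_le_of h (fun r hr h1 => S.y_mem_XS h hr ⟨r, by
    have := of_allLt hJ r hr
    simp only [Cert.Good.pos_iff.2 h1.1, Bool.or_eq_true, Bool.not_eq_true', ← Bool.not_eq_true,
      allLt_iff, decide_eq_true_eq, ← S.supp_iff] at this
    tauto, hr, rfl⟩) (res_XS.le hg))

theorem nf_mem_res (i : Fin D.rank) {rs : List ℕ} (hJ : C.chkJ' D.rank D.nroots S.τ i rs = true)
    (c : ℕ → K) : (rs.map fun r => S.y r (c r)).prod ∈ ((S.rgd h).res (orbJ S.b0 i)).V :=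
  res_XS.ge (list_prod_mem (List.forall_mem_map.2 fun r hr => by
    have := List.all_eq_true.1 hJ r hr
    simp only [Bool.and_eq_true, Bool.or_eq_true, Bool.not_eq_true', ← Bool.not_eq_true,
      allLt_iff, decide_eq_true_eq, ← S.supp_iff, Cert.Good.pos_iff] at this
    exact S.y_mem_XS h this.1.1 ⟨(S.good.ρ_sign this.1.1).resolve_left this.1.2, this.2⟩ _))

theorem collect {w : List Fc} {w' : List (ℕ × ℕ × ℕ × List ℕ)} (h : rel S.p D.nroots
    (D.rank + D.nroots) C.T (w.map S.τ.tw) (w'.map encE) = true) (mon : ℕ →* K) :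
    (w.map fun f => S.z f.1 (val mon f)).prod = (w'.map fun f => S.good.gx f.1
      ((-1) ^ f.2.1 * (f.2.2.1 : K) * (f.2.2.2.map fun q => S.φ (mon q)).prod)).prod := by
  refine Units.ext ((S.val_word mon w).trans ((S.good.rep.of_rel S.cast_p _ h).trans ?_))
  clear h
  induction w' with
  | nil => rfl
  | cons f w ih =>
    rw [List.map_cons, List.map_cons, List.prod_cons, Units.val_mul, ← ih]
    simp [wv, Cert.Good.gx, val, encE, map_list_prod, Function.comp_def]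

theorem lie_good [Finite K] (p : ℕ) [Fact p.Prime] [CharP K p] (G : Subgroup (GL D.Idx K))
    (hZ : ∀ i, ∀ g ∈ ((S.rgd h).res (orbJ S.b0 i)).U, g.1 = g.2 → g.1 ∈ G)
    (hY : ∀ i, ∃ g ∈ ((S.rgd h).res (orbJ S.b0 i)).V, g.1 = g.2 ∧ g.1 ∈ G ∧ g.1 ≠ 1)
    {s : Set (GL D.Idx K)} (hG : G = Subgroup.closure s)
    (hs : ∀ g ∈ s, (g, g) ∈ (S.rgd h).U ∨ (g, g) ∈ (S.rgd h).V) :
    LieRigid p G ∧ ∀ n, (∀ i, AbExp n (((S.rgd h).res (orbJ S.b0 i)).U ⊓ (MonoidHom.fst _ _).eqLocus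
      (MonoidHom.snd _ _))) → ∀ P : Sylow p G, AbExp n (P : Subgroup G) := by
  have hf : Function.Injective (G.subtype.prod G.subtype) := fun _ _ h =>
    Subtype.ext (congrArg Prod.fst h)
  have hE : (G.subtype.prod G.subtype).range ≤ (MonoidHom.fst _ _).eqLocus (MonoidHom.snd _ _) := by
    rintro _ ⟨g, rfl⟩; rfl
  have hZ' : ∀ i, ((S.rgd h).res (orbJ S.b0 i)).U ⊓ (MonoidHom.fst _ _).eqLocus (MonoidHom.snd _ _) ≤
      (G.subtype.prod G.subtype).range := fun i g hg => ⟨⟨g.1, hZ i g hg.1 hg.2⟩, Prod.ext rfl hg.2⟩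
  have hY' : ∀ i, ((S.rgd h).res (orbJ S.b0 i)).V ⊓ (G.subtype.prod G.subtype).range ≠ ⊥ := by
    intro i h0
    obtain ⟨g, h1, h2, h3, h4⟩ := hY i
    exact h4 (congrArg Prod.fst (Subgroup.mem_bot.1 (h0.le ⟨h1, ⟨_, h3⟩, Prod.ext rfl h2⟩)))
  have hB := (S.tw h p).bnLike hE hZ' hY' (by
    rintro _ ⟨⟨g, hg⟩, rfl⟩
    change (MonoidHom.id _).prod (MonoidHom.id _) g ∈ _
    refine Subgroup.mem_comap.1 <| (Subgroup.closure_le (Subgroup.comap ((MonoidHom.id _).prod (MonoidHom.id _)) _)).2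
      (fun g hg => Subgroup.mem_comap.2 ?_) (hG ▸ hg)
    exact (hs g hg).elim (fun h => Subgroup.mem_sup_left (Subgroup.mem_inf.2 ⟨h, rfl⟩))
      fun h => Subgroup.mem_sup_right (Subgroup.mem_inf.2 ⟨h, rfl⟩)) hf rfl
  exact ⟨hB.lieRigid, fun n hn => hB.abExp ((S.tw h p).abExp hE hZ' hY' hn hf rfl)⟩

end Sys

theorem Cert.Good.chev (h : C.Good D) (h' : C.GoodT D .id 0) [Finite K] (p : ℕ) [Fact p.Prime]
    [CharP K p] : LieRigid p (D.group K) ∧ ∀ P : Sylow p (D.group K), AbExp p P.toSubgroup := by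
  let S : Sys C D K := ⟨.id, 0, .id K, h, h', .inl rfl⟩
  have h1 : ∀ r t, S.y r t = (h.gx r t, h.gx r t) := fun r t => Prod.ext rfl (S.base_z h' r t)
  have h2 : ∀ r < D.nroots, ∀ t : K, h.gx r t ∈ D.group K := fun r hr t =>
    Subgroup.subset_closure ⟨⟨r, hr⟩, t, dif_pos hr⟩
  have h3 : ∀ i, ∀ g ∈ ((S.rgd h').res (orbJ S.b0 i)).U, ∃ t, g = S.y (C.sp i) t := fun i g hg =>
    S.mem_X (h.simple i i.2).1 (XS_le (fun μ h3 h4 => ((S.rgd h').red μ i h3 h4.1 fun j hj => h4.2 j (by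
      rintro (h | h | h) <;> exact hj h)).trans (h.ρ_sp i).symm ▸ le_rfl) (res_XS.le hg))
  obtain ⟨h4, h5⟩ := S.lie_good h' p (D.group K) (fun i g hg _ => by
      obtain ⟨t, rfl⟩ := h3 i g hg
      exact h2 _ (h.simple i i.2).1 t) (fun i => by
      refine ⟨_, res_XS.ge (S.y_mem_XS h' (h.simple i i.2).2.1 ?_ 1), by rw [h1],
        h2 _ (h.simple i i.2).2.1 1, fun h => one_ne_zero (S.eq_zero_of_y (S.good.simple i i.2).2.1 h)⟩
      rw [h.ρ_ng]
      exact ⟨neg_nonpos.2 (Pi.single_nonneg.2 zero_le_one), fun j hj =>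
        neg_eq_zero.2 (Pi.single_eq_of_ne (by rintro rfl; exact hj (.inl rfl)) _)⟩) rfl (by
      rintro g ⟨r, t, hg⟩
      rw [show g = h.gx r t from Units.ext (hg.trans (dif_pos r.2 : D.x K r t = _).symm), ← h1]
      exact (h.ρ_sign r.2).imp (S.y_mem_XS h' r.2 · t) (S.y_mem_XS h' r.2 · t))
  refine ⟨h4, h5 p fun i g hg => ?_⟩
  obtain ⟨t, rfl⟩ := h3 i g hg.1
  have : ∀ k : ℕ, S.y (C.sp i) t ^ k = S.y (C.sp i) (k * t) := fun k => by
    induction k with
    | zero => simp [S.y_zero (h.simple i i.2).1]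
    | succ k ih => rw [pow_succ, ih, ← S.y_add (h.simple i i.2).1, Nat.cast_succ, add_one_mul]
  rw [this, CharP.cast_eq_zero, zero_mul, S.y_zero (h.simple i i.2).1]
  exact one_mem _

end Cfsg.Lie.Chk
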