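import Cfsg.Agent.Lie.Cert

/-! The root group datum attached to a certified Chevalley datum and a twist. -/

set_option autoImplicit false

namespace Cfsg.Lie.Chk

open Matrix

variable {D : ChevalleyDatum} {K : Type*} [Field K] {C : Cert}

/-- a relation between two words -/
def WordRel {G : Type*} [Group G] (Y : ℕ → K → G) (w w' : List Fc) : Prop :=
  ∀ mon : ℕ →* K, (w.map fun f => Y f.1 (val mon f)).prod = (w'.map fun f => Y f.1 (val mon f)).prod

theorem WordRel.prod {G G' : Type*} [Group G] [Group G'] {Y : ℕ → K → G} {Y' : ℕ → K → G'}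
    {w w' : List Fc} (h : WordRel Y w w') (h' : WordRel Y' w w') :
    WordRel (fun r t => (Y r t, Y' r t)) w w' := fun mon => by
  have (w : List Fc) : (w.map fun f => (Y f.1 (val mon f), Y' f.1 (val mon f))).prod =
      ((w.map fun f => Y f.1 (val mon f)).prod, (w.map fun f => Y' f.1 (val mon f)).prod) := by
    induction w <;> simp [*, Prod.one_eq_mk]
  rw [this, this, h mon, h' mon]

/-- everything needed to define a twisted system of root elements -/
structure Sys (C : Cert) (D : ChevalleyDatum) (K : Type*) [Field K] where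
  τ : Twist
  p : ℕ
  φ : K →+* K
  good : C.Good D
  goodT : C.GoodT D τ p
  char : p = 0 ∨ p.Prime ∧ CharP K p

namespace Sys

variable (S : Sys C D K) {r : ℕ}

/-- twisted root elements -/
def z (r : ℕ) (t : K) : GL D.Idx K := S.good.gx (S.τ.β r) ((-1) ^ S.τ.sg r * S.φ t ^ S.τ.lam r)

theorem cast_p : (S.p : K) = 0 :=
  S.char.elim (fun h => by simp [h]) fun h => have := h.2; CharP.cast_eq_zero K _

theorem pow_add (hr : r < D.nroots) (s t : K) : (s + t) ^ S.τ.lam r = s ^ S.τ.lam r + t ^ S.τ.lam r := by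
  rcases (S.goodT.lt r hr).2.2.1 with h | h
  · simp [h]
  · obtain ⟨h1, h2⟩ := S.char.resolve_left h.2
    have := Fact.mk h1
    rw [h.1, add_pow_char]

theorem pow_neg (hr : r < D.nroots) (t : K) : (-t) ^ S.τ.lam r = -t ^ S.τ.lam r := by
  rw [eq_neg_iff_add_eq_zero, ← S.pow_add hr, neg_add_cancel, zero_pow]
  rcases (S.goodT.lt r hr).2.2.1 with h | h <;> omega

theorem z_add (hr : r < D.nroots) (s t : K) : S.z r (s + t) = S.z r s * S.z r t := by
  rw [z, map_add, S.pow_add hr, mul_add, Cert.Good.gx_add, z, z]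

theorem val_word (mon : ℕ →* K) (w : List Fc) : ((w.map fun f => S.z f.1 (val mon f)).prod).1 =
    wv D (S.φ.toMonoidHom.comp mon) (w.map S.τ.tw) := by
  induction w with
  | nil => rfl
  | cons f w ih =>
    rw [List.map_cons, List.prod_cons, Units.val_mul, ih]
    simp [wv, z, Cert.Good.gx, val, Twist.tw, mul_pow, _root_.pow_add, pow_mul, mul_assoc]

theorem wordRel {w w' : List Fc} (h : rel S.p D.nroots (D.rank + D.nroots) C.T (w.map S.τ.tw)
    (w'.map S.τ.tw) = true) : WordRel S.z w w' := fun mon =>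
  Units.ext (by rw [val_word, val_word]; exact S.good.rep.of_rel S.cast_p _ h)

/-- the induced permutation of the simple roots -/
def b0 (i : Fin D.rank) : Fin D.rank := ⟨S.τ.β0 i, (S.goodT.simple i i.2).1⟩

theorem z_sp (i : Fin D.rank) (t : K) :
    S.z (C.sp i) t = S.good.gx (C.sp (S.b0 i)) (S.φ t ^ S.τ.lam (C.sp i)) := by
  obtain ⟨-, h1, -, h2, -⟩ := S.goodT.simple i i.2
  simp [z, h1, h2, b0]

theorem z_ng (i : Fin D.rank) (t : K) :
    S.z (C.ng i) (-t) = S.good.gx (C.ng (S.b0 i)) (-S.φ t ^ S.τ.lam (C.sp i)) := by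
  obtain ⟨-, -, h1, -, h2, h3, -⟩ := S.goodT.simple i i.2
  simp [z, h1, h2, h3, b0, S.pow_neg (S.good.simple i i.2).1]

end Sys

namespace Cert.Good

variable (h : C.Good D) {r : ℕ}

/-- monomial elements -/
def nx (i : Fin D.rank) (c : Kˣ) : GL D.Idx K :=
  h.gx (C.sp i) (c : K) * h.gx (C.ng i) (-(c⁻¹ : Kˣ) : K) * h.gx (C.sp i) (c : K)

theorem nx_bv (i : Fin D.rank) (j : ℕ) :
    (h.nx i (1 : Kˣ)).1 *ᵥ bv D K j = ev (bv D K) (fun _ => (1 : K)) (C.N i j) := by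
  have := h.simple i i.2
  simpa [wv, val, nx, gx, mul_assoc] using
    h.rep.of_chkW (K := K) (by simp [this.1, this.2.1]) (h.hN0 i) (h.hN i i.2) j

theorem dg_nx (i : Fin D.rank) (c : Kˣ) : C.dg i c * h.nx i 1 * (C.dg i c)⁻¹ = h.nx i c := by
  have := h.simple i i.2
  have h1 := h.dg_gx this.1 i c 1
  have h2 := h.dg_gx this.2.1 i c (-1)
  rw [h.ρ_sp] at h1
  rw [h.ρ_ng] at h2
  simp only [Pi.neg_apply, Pi.single_eq_same, zpow_one, _root_.zpow_neg, mul_one, mul_neg] at h1 h2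
  rw [nx, nx, ← h1, ← h2]
  simp [mul_assoc]

include h in
theorem σ_lt (i : Fin D.rank) (hr : r < D.nroots) : C.σ D.rank i r < D.nroots := (h.hNe i i.2 r hr).1

/-- the action of a monomial element on root vectors and coroots -/
def Mon (C : Cert) (g : GL D.Idx K) (w : (Fin D.rank → ℤ) ≃ₗ[ℤ] (Fin D.rank → ℤ)) : Prop :=
  ∀ r < D.nroots, ∃ s < D.nroots, C.ρ D s = w (C.ρ D r) ∧
    g.1 *ᵥ ev (bv D K) (1 : ℕ →* K) (C.H r) = ev (bv D K) (1 : ℕ →* K) (C.H s) ∧
    ∃ c : K, g.1 *ᵥ bv D K (D.rank + r) = c • bv D K (D.rank + s)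

include h in
theorem Mon.diag {g : GL D.Idx K} (hg : Mon C g 1) : ∃ c, g.1 = diagonal c := by
  have : ∀ b, ∃ c : K, g.1 *ᵥ bv D K (enc D b) = c • bv D K (enc D b) := by
    rintro (i | r)
    · obtain ⟨s, hs, h1, h2, -⟩ := hg _ (h.simple i i.2).1
      rw [h.ρ_inj hs (h.simple i i.2).1 h1, VL.eq_of_beq (h.hHs i i.2)] at h2
      exact ⟨1, by simpa [ev, enc] using h2⟩
    · obtain ⟨s, hs, h1, -, h2⟩ := hg _ r.2
      rwa [h.ρ_inj hs r.2 h1] at h2
  choose c hc using this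
  refine ⟨c, Matrix.ext fun a b => ?_⟩
  have := congrFun (hc b) a
  by_cases hab : a = b <;> simpa [bv_enc, hab] using this

/-- Cartan matrix rows -/
noncomputable def A (C : Cert) (D : ChevalleyDatum) (i : Fin D.rank) : Module.Dual ℤ (Fin D.rank → ℤ) :=
  ∑ b : Fin D.rank, C.A D.rank i b • LinearMap.proj b

include h in
theorem A_self (i : Fin D.rank) : A C D i (sr i) = 2 := by
  simpa [A, Pi.single_apply] using (h.simple i i.2).2.2.1

theorem ρ_σ (i : Fin D.rank) (hr : r < D.nroots) :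
    C.ρ D (C.σ D.rank i r) = Module.reflection (h.A_self i) (C.ρ D r) := funext fun a => by
  have := h.refl i i.2 r hr a a.2
  rw [show (List.map _ (List.range _)).sum = ∑ b ∈ Finset.range D.rank, _ from rfl,
    Finset.sum_range] at this
  simp only [Cert.wt, this, Module.reflection_apply, A, Pi.sub_apply, Pi.smul_apply, smul_eq_mul,
    Pi.single_apply, Fin.ext_iff, LinearMap.sum_apply, LinearMap.smul_apply, LinearMap.proj_apply,
    mul_comm (C.A _ _ _)]
  split_ifs <;> ring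

theorem mon_nx (i : Fin D.rank) (c : Kˣ) : Mon C (h.nx i c) (Module.reflection (h.A_self i)) := by
  intro r hr
  have h1 : ∀ (c : Kˣ) r, r < D.nroots → (C.dg i c).1 *ᵥ ev (bv D K) (1 : ℕ →* K) (C.H r) =
      ev (bv D K) (1 : ℕ →* K) (C.H r) := fun c r hr => by
    have := h.hH0 r hr
    generalize C.H r = L at this
    induction L with
    | nil => simp [ev]
    | cons j E a tl ih =>
      rw [allV_cons, decide_eq_true_eq] at this
      simp [ev, mulVec_add, mulVec_smul, ih this.2, dg_bv, Cert.wt, h.wt0 _ this.1]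
  have h2 : (C.dg i c)⁻¹ = C.dg i c⁻¹ := Units.ext (by simp [Cert.dg])
  refine ⟨_, h.σ_lt i hr, h.ρ_σ i hr, ?_, ?_⟩
  · have := ev_eq_zero (B := bv D K) Nat.cast_zero (1 : ℕ →* K) (of_allLt (h.hH i i.2) r hr)
    rw [ev_act _ (A := (h.nx i 1).1.mulVecLin) (by simpa using h.nx_bv i), ev_act1] at this
    rw [← h.dg_nx, h2, Units.val_mul, Units.val_mul, ← mulVec_mulVec, ← mulVec_mulVec, h1 _ r hr,
      ← h1 c _ (h.σ_lt i hr)]
    congr 1
    simp only [ev, pow_zero, Nat.cast_one, mul_one, map_one, one_pow, pow_one, neg_smul, one_smul,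
      add_zero, add_neg_eq_zero] at this
    exact this
  · rw [← h.dg_nx, h2, Units.val_mul, Units.val_mul, ← mulVec_mulVec, ← mulVec_mulVec, dg_bv,
      mulVec_smul, nx_bv, VL.eq_of_beq (h.hNe i i.2 r hr).2, ev, ev, add_zero, mulVec_smul,
      mulVec_smul, dg_bv, smul_smul, smul_smul, show (2 * (D.rank + C.σ D.rank i r) +
        C.η D.rank i r) / 2 = D.rank + C.σ D.rank i r by rw [Cert.η]; omega]
    exact ⟨_, rfl⟩

end Cert.Good

namespace Sys

variable (S : Sys C D K) {r : ℕ}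

theorem z_conj (i : Fin D.rank) (hr : r < D.nroots) (u : K) : S.good.nx (S.b0 i) 1 * S.z r u *
    (S.good.nx (S.b0 i) 1)⁻¹ = S.z (C.σ D.rank i r) ((-1) ^ C.η D.rank i r * u) := by
  obtain ⟨mon, h1, -⟩ := exists_mon8 (S.φ u) 1 1 1 1 1 1 1
  have := S.good.rep.of_relN S.cast_p mon (S.good.nx_bv (S.b0 i)) (S.goodT.lt r hr).1
    (S.goodT.lt _ (S.good.σ_lt i hr)).1 (of_allLt (S.goodT.conj i i.2) r hr)
  rw [mul_inv_eq_iff_eq_mul]
  refine Units.ext ?_
  simpa [z, Cert.Good.gx, h1, mul_pow, _root_.pow_add, pow_mul, mul_assoc] using this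

/-- the twisted parameter of a torus element -/
def tp (i : Fin D.rank) (c : Kˣ) : Kˣ := Units.map S.φ.toMonoidHom c ^ S.τ.lam (C.sp i)

theorem z_dg (i : Fin D.rank) (c : Kˣ) (hr : r < D.nroots) (u : K) : C.dg (S.b0 i) (S.tp i c) *
    S.z r u * (C.dg (S.b0 i) (S.tp i c))⁻¹ = S.z r ((c ^ C.ρ D r i : Kˣ) * u) := by
  have h1 : (S.τ.lam (C.sp i) : ℤ) * C.ρ D (S.τ.β r) (S.b0 i) = S.τ.lam r * C.ρ D r i :=
    (S.goodT.lt r hr).2.2.2 i i.2
  rw [z, S.good.dg_gx (S.goodT.lt r hr).1, tp, ← zpow_natCast, ← _root_.zpow_mul, h1, mul_comm (_ : ℤ),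
    _root_.zpow_mul, zpow_natCast, z]
  simp [mul_pow, mul_left_comm]

theorem z_nx (i : Fin D.rank) (c : Kˣ) : S.z (C.sp i) c * S.z (C.ng i) (-(c⁻¹ : Kˣ)) *
    S.z (C.sp i) c = S.good.nx (S.b0 i) (S.tp i c) := by
  simp [z_sp, z_ng, Cert.Good.nx, tp]

theorem z_conj' (i : Fin D.rank) (c : Kˣ) (hr : r < D.nroots) (u : K) :
    S.good.nx (S.b0 i) (S.tp i c) * S.z r u * (S.good.nx (S.b0 i) (S.tp i c))⁻¹ =
    S.z (C.σ D.rank i r) ((c ^ C.ρ D (C.σ D.rank i r) i : Kˣ) *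
      ((-1) ^ C.η D.rank i r * ((c ^ C.ρ D r i : Kˣ)⁻¹.1 * u))) := by
  rw [← S.z_dg i c (S.good.σ_lt i hr), ← S.z_conj i hr, ← S.good.dg_nx]
  conv_lhs => rw [← Units.mul_inv_cancel_left (c ^ C.ρ D r i) u, ← S.z_dg i c hr]
  group

/-- the untwisted system -/
def base (h : C.GoodT D .id 0) : Sys C D K := ⟨.id, 0, .id K, S.good, h, .inl rfl⟩

variable (h : C.GoodT D .id 0)

@[simp] theorem base_z (r : ℕ) (t : K) : (S.base h).z r t = S.good.gx r t := by
  simp [z, base, Twist.id]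

/-- root elements of the graph of the twist -/
def y (r : ℕ) (t : K) : GL D.Idx K × GL D.Idx K := (S.good.gx r t, S.z r t)

theorem y_add (hr : r < D.nroots) (s t : K) : S.y r (s + t) = S.y r s * S.y r t :=
  Prod.ext (S.good.gx_add r s t) (S.z_add hr s t)

theorem y_zero (hr : r < D.nroots) : S.y r 0 = 1 := by simpa using S.y_add hr 0 0

theorem y_neg (hr : r < D.nroots) (t : K) : S.y r (-t) = (S.y r t)⁻¹ :=
  eq_inv_of_mul_eq_one_left (by rw [← S.y_add hr, neg_add_cancel, S.y_zero hr])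

/-- root subgroups -/
def X (μ : Fin D.rank → ℤ) : Subgroup (GL D.Idx K × GL D.Idx K) where
  carrier := {g | g = 1 ∨ ∃ r < D.nroots, C.ρ D r = μ ∧ ∃ t, g = S.y r t}
  one_mem' := .inl rfl
  mul_mem' := by
    rintro _ _ (rfl | ⟨r, hr, h1, t, rfl⟩) (rfl | ⟨s, hs, h2, u, rfl⟩)
    · exact .inl (mul_one _)
    · exact .inr ⟨s, hs, h2, u, one_mul _⟩
    · exact .inr ⟨r, hr, h1, t, mul_one _⟩
    · obtain rfl := S.good.ρ_inj hr hs (h1.trans h2.symm)
      exact .inr ⟨r, hr, h1, _, (S.y_add hr t u).symm⟩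
  inv_mem' := by
    rintro _ (rfl | ⟨r, hr, h1, t, rfl⟩)
    exacts [.inl inv_one, .inr ⟨r, hr, h1, _, (S.y_neg hr t).symm⟩]

theorem y_mem (hr : r < D.nroots) (t : K) : S.y r t ∈ S.X (C.ρ D r) := .inr ⟨r, hr, rfl, t, rfl⟩

theorem mem_X (hr : r < D.nroots) {g} (hg : g ∈ S.X (C.ρ D r)) : ∃ t, g = S.y r t := by
  rcases hg with rfl | ⟨s, hs, h1, t, rfl⟩
  exacts [⟨0, (S.y_zero hr).symm⟩, ⟨t, S.good.ρ_inj hs hr h1 ▸ rfl⟩]

theorem exists_root {μ} (hμ : S.X μ ≠ ⊥) : ∃ r < D.nroots, C.ρ D r = μ := by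
  obtain ⟨g, rfl | ⟨r, hr, h1, -⟩, h2⟩ := (Subgroup.bot_or_exists_ne_one _).resolve_left hμ
  exacts [(h2 rfl).elim, ⟨r, hr, h1⟩]

theorem eq_zero_of_y (hr : r < D.nroots) {t : K} (ht : (S.y r t).1 = 1) : t = 0 :=
  S.good.eq_zero_of_mem_pat (P := fun _ => False) (hP := fun _ _ h _ => h) hr id
    ((show S.good.gx r t = 1 from ht) ▸ one_mem _)

include h in
theorem y_comm {s : ℕ} (h1 : C.chkC D.rank D.nroots .id 0 r s = true)
    (h2 : C.chkC D.rank D.nroots S.τ S.p r s = true) {H : Subgroup _}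
    (hH : ∀ f ∈ C.wd D.rank r s, ∀ t, S.y f.1 t ∈ H) (t u : K) :
    S.y r t * S.y s u * (S.y r t)⁻¹ ∈ H := by
  obtain ⟨mon, rfl, rfl, -⟩ := exists_mon8 t u 1 1 1 1 1 1
  have := (((S.base h).wordRel h1).prod (S.wordRel h2)) mon
  simp only [base_z, List.map_append, List.prod_append, List.map_cons, List.map_nil, List.prod_cons,
    List.prod_nil, mul_one, val, pow_zero, Nat.cast_one, one_mul, List.map_map] at this
  exact (mul_inv_eq_iff_eq_mul.2 this : S.y r _ * S.y s _ * (S.y r _)⁻¹ = _) ▸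
    list_prod_mem (List.forall_mem_map.2 fun f hf => hH f hf _)

/-- the root group datum -/
noncomputable def rgd : RGD (Fin D.rank) (GL D.Idx K × GL D.Idx K) where
  A := Cert.Good.A C D
  A_self := S.good.A_self
  I := Set.univ
  X := S.X
  S i := {g | ∃ c : Kˣ, g = S.y (C.sp i) c * S.y (C.ng i) (-(c⁻¹ : Kˣ)) * S.y (C.sp i) c}
  fin := ((Set.finite_lt_nat D.nroots).image (C.ρ D)).subset fun _ => S.exists_root
  supp _ _ _ hi := (hi trivial).elim
  sign μ hμ := by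
    obtain ⟨r, hr, rfl⟩ := S.exists_root hμ
    exact ⟨S.good.ρ_sign hr, S.good.ρ_ne_zero hr⟩
  red μ i hμ h0 h1 := by
    obtain ⟨r, hr, rfl⟩ := S.exists_root hμ
    have h2 : C.ρ D r i ≠ 0 := fun h2 => S.good.ρ_ne_zero hr (funext fun j => by
      by_cases hj : j = i
      exacts [hj ▸ h2, h1 j hj])
    have h3 := (S.good.red r hr i i.2).resolve_right fun ⟨a, ha, h3, h4⟩ => by
      have := h1 ⟨a, ha⟩ (Fin.ne_of_val_ne h3)
      simp only [Cert.wt] at this
      omega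
    have h4 := h0 i
    simp only [Cert.wt, Pi.zero_apply] at h2 h4
    refine funext fun j => ?_
    by_cases hj : j = i
    · simp only [hj, Cert.wt, Pi.single_eq_same]; omega
    · rw [h1 j hj, sr, Pi.single_eq_of_ne hj]
  comm i _ μ h0 h1 x hx y hy := by
    rcases hy with rfl | ⟨r, hr, rfl, u, rfl⟩
    · simp
    obtain ⟨t, rfl⟩ := S.mem_X (S.good.simple i i.2).1 (by rwa [S.good.ρ_sp])
    have h2 := Cert.Good.pos_iff.2 h0
    have h3 : Nat.beq r (C.sp i) = false := Bool.eq_false_iff.2 fun h3 =>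
      h1 (Nat.eq_of_beq_eq_true h3 ▸ S.good.ρ_sp i)
    refine S.y_comm h (by simpa [h2, h3] using of_allLt (h.comm i i.2) r hr)
      (by simpa [h2, h3] using of_allLt (S.goodT.comm i i.2) r hr) (fun f hf t => ?_) t u
    have h4 := List.all_eq_true.1 (S.good.wd i i.2 r hr h2) f hf
    simp only [Bool.and_eq_true, decide_eq_true_eq] at h4
    refine Subgroup.mem_iSup_of_mem ⟨_, f.2.2.2.1, f.2.2.2.2, h4.1.1, ?_⟩ (S.y_mem h4.1.2 t)
    rw [← S.good.ρ_sp]
    funext a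
    have := Nat.eq_of_beq_eq_true (of_allLt h4.2 a a.2)
    rw [Pi.add_apply, Pi.smul_apply, Pi.smul_apply, nsmul_eq_mul, nsmul_eq_mul]
    simp only [Cert.wt]
    zify at this
    linear_combination this
  S_inv i := by
    rintro _ ⟨c, rfl⟩
    exact ⟨-c, by simp [S.y_neg (S.good.simple i i.2).1, S.y_neg (S.good.simple i i.2).2.1,
      mul_assoc]⟩
  conj i _ := by
    rintro _ ⟨c, rfl⟩ μ _ (rfl | ⟨r, hr, rfl, u, rfl⟩)
    · simp
    rw [← S.good.ρ_σ i hr]
    convert S.y_mem (S.good.σ_lt i hr) ((c ^ C.ρ D (C.σ D.rank i r) i : Kˣ) *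
      ((-1) ^ C.η D.rank i r * ((c ^ C.ρ D r i : Kˣ)⁻¹.1 * u))) using 1
    refine Prod.ext ?_ ((congrArg (fun g => g * _ * g⁻¹) (S.z_nx i c)).trans (S.z_conj' i c hr u))
    simpa [y] using (congrArg (fun g => g * _ * g⁻¹) ((S.base h).z_nx i c)).trans
      ((S.base h).z_conj' i c hr u)
  sl2 i _ x hx h1 := by
    obtain ⟨h2, h3, -⟩ := S.good.simple i i.2
    obtain ⟨t, rfl⟩ := S.mem_X h3 (by rwa [S.good.ρ_ng])
    have h4 : t ≠ 0 := by rintro rfl; exact h1 (S.y_zero h3)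
    exact ⟨_, S.good.ρ_sp i ▸ S.y_mem h2 (-t⁻¹), _, S.good.ρ_sp i ▸ S.y_mem h2 (-t⁻¹),
      -(Units.mk0 t h4)⁻¹, by simp⟩
  ne i _ h1 := by
    have := S.y_mem (S.good.simple i i.2).2.1 1
    rw [S.good.ρ_ng, h1] at this
    exact one_ne_zero (S.eq_zero_of_y (S.good.simple i i.2).2.1 (congrArg Prod.fst this))

end Sys

end Cfsg.Lie.Chk
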