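import Cfsg.Agent.Lie.StSys

/-! The descent datum attached to a certified Chevalley datum and a twist. -/

set_option autoImplicit false

namespace Cfsg.Lie.Chk.Sys

open Matrix RGD

variable {D : ChevalleyDatum} {K : Type*} [Field K] {C : Cert} (S : Sys C D K)
  (h : C.GoodT D .id 0) {r : ℕ} {P : (Fin D.rank → ℤ) → Prop}

theorem y_mem_XS (hr : r < D.nroots) (hP : P (C.ρ D r)) (t : K) : S.y r t ∈ (S.rgd h).XS P :=
  mem_XS hP (S.y_mem hr t)

theorem XS_le_of {H : Subgroup _} (hH : ∀ r < D.nroots, P (C.ρ D r) → ∀ t, S.y r t ∈ H) :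
    (S.rgd h).XS P ≤ H := XS_le fun μ _ hμ => by
  rintro _ (rfl | ⟨r, hr, rfl, t, rfl⟩)
  exacts [one_mem _, hH r hr hμ t]

theorem mon_NN {z} (hz : z ∈ (S.rgd h).NN) : Cert.Good.Mon C z.1.1 z.2 := by
  refine NN_induction (C := fun z => Cert.Good.Mon C z.1.1 z.2) hz
    (fun r hr => ⟨r, hr, rfl, by simp, 1, by simp⟩) ?_ fun z z' h h' r hr => ?_
  · rintro i - _ ⟨c, rfl⟩
    exact S.good.mon_nx i c
  · obtain ⟨s, hs, h1, h2, c, h3⟩ := h' r hr
    obtain ⟨t, ht, h4, h5, d, h6⟩ := h s hs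
    exact ⟨t, ht, by simp [h4, h1], by simp [← mulVec_mulVec, h2, h5], c * d, by
      simp [← mulVec_mulVec, h3, mulVec_smul, h6, smul_smul]⟩

omit S in
theorem ht_add_pos (μ ν : Fin D.rank → ℤ) (h : 0 < ∑ a, μ a) (h' : 0 < ∑ a, ν a) :
    0 < ∑ a, (μ + ν) a := by simpa [Finset.sum_add_distrib] using add_pos h h'

omit S in
theorem ht_add_neg (μ ν : Fin D.rank → ℤ) (h : ∑ a, μ a < 0) (h' : ∑ a, ν a < 0) :
    ∑ a, (μ + ν) a < 0 := by simpa [Finset.sum_add_distrib] using add_neg h h'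

theorem U_le_pat : (S.rgd h).U.map (MonoidHom.fst _ _) ≤ C.pat K _ ht_add_pos :=
  Subgroup.map_le_iff_le_comap.2 (S.XS_le_of h fun r hr h0 => S.good.gx_mem_pat hr (hP := ht_add_pos) (by
    obtain ⟨a, ha⟩ := Function.ne_iff.1 (S.good.ρ_ne_zero hr)
    exact Finset.sum_pos' (fun a _ => h0 a) ⟨a, Finset.mem_univ _, (h0 a).lt_of_ne' ha⟩))

theorem V_le_pat : (S.rgd h).V.map (MonoidHom.fst _ _) ≤ C.pat K _ ht_add_neg :=
  Subgroup.map_le_iff_le_comap.2 (S.XS_le_of h fun r hr h0 => S.good.gx_mem_pat hr (hP := ht_add_neg) (by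
    obtain ⟨a, ha⟩ := Function.ne_iff.1 (S.good.ρ_ne_zero hr)
    exact Finset.sum_neg' (fun a _ => h0 a) ⟨a, Finset.mem_univ _, (h0 a).lt_of_ne ha⟩))

theorem pos_β (hr : r < D.nroots) : 0 ≤ C.ρ D (S.τ.β r) ↔ 0 ≤ C.ρ D r := by
  rw [← Cert.Good.pos_iff, ← Cert.Good.pos_iff, (S.goodT.lt r hr).2.1]

/-- the descent datum -/
noncomputable def tw (p : ℕ) [Fact p.Prime] [CharP K p] :
    (S.rgd h).Tw p (MonoidHom.fst _ _) (MonoidHom.snd _ _) S.b0 where
  U₀ := (S.rgd h).U.map (MonoidHom.fst _ _)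
  V₀ := (S.rgd h).V.map (MonoidHom.fst _ _)
  N₀ := (S.rgd h).NN.map ((MonoidHom.fst _ _).comp (MonoidHom.fst _ _))
  top := rfl
  hU := rfl
  hU₂ _ hu := S.XS_le_of h (H := Subgroup.comap (MonoidHom.snd _ _) (Subgroup.map _ _))
    (fun r hr h0 t => ⟨_, S.y_mem_XS h (S.goodT.lt r hr).1 ((S.pos_β hr).2 h0) _, rfl⟩) hu
  hV u hu := ⟨⟨u, hu, rfl⟩, S.XS_le_of h (H := Subgroup.comap (MonoidHom.snd _ _) (Subgroup.map _ _))
    (fun r hr h0 t => ⟨_, S.y_mem_XS h (S.goodT.lt r hr).1 ((S.good.ρ_sign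
      (S.goodT.lt r hr).1).resolve_left fun h1 => S.good.ρ_ne_zero hr
      (le_antisymm h0 ((S.pos_β hr).1 h1))) _, rfl⟩) hu⟩
  hN z hz := ⟨⟨z, hz, rfl⟩, NN_induction (C := fun z => z.1.2 ∈ (S.rgd h).NN.map
    ((MonoidHom.fst _ _).comp (MonoidHom.fst _ _))) hz (one_mem _) (by
      rintro i - _ ⟨c, rfl⟩
      exact ⟨_, mem_NN (R := S.rgd h) (i := S.b0 i) trivial ⟨S.tp i c, rfl⟩, (S.z_nx i c).symm⟩)
    fun _ _ => mul_mem⟩
  tri := (Subgroup.eq_bot_iff_forall _).2 fun g hg => Units.ext (sub_eq_zero.1 (Matrix.ext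
    fun a b => by_contra fun h1 => lt_asymm (not_not.1 (mt ((S.U_le_pat h hg.1).1 a b) h1))
      (not_not.1 (mt ((S.V_le_pat h hg.2).1 a b) h1))))
  t1 u hu v hv := by
    rintro ⟨z, hz, h1⟩
    replace hu := (S.U_le_pat h hu).2
    replace hv := (S.V_le_pat h hv).1
    replace h1 : v.1 = (u⁻¹).1 * z.1.1.1 := by
      rw [show z.1.1 = u * v from h1, ← Units.val_mul, inv_mul_cancel_left]
    have h2 : ∀ a, v.1 a a = 1 := fun a => by simpa [sub_eq_zero] using hv a a (by simp)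
    have h3 : z.2 = 1 := eq_one_of_pos rfl hz fun i => by
      obtain ⟨s, hs, h3, -, c, h4⟩ := S.mon_NN h hz _ (S.good.simple i i.2).2.1
      rw [S.good.ρ_ng, map_neg] at h3
      rw [← neg_nonpos, ← h3]
      refine (S.good.ρ_sign hs).resolve_left fun h5 => ?_
      have h6 := hu (.inr ⟨_, (S.good.simple i i.2).2.1⟩) (.inr ⟨s, hs⟩) (by
        have := Finset.sum_nonneg (s := Finset.univ) fun a _ => h5 a
        change ¬ 0 < ∑ a, (C.ρ D (C.ng i) - C.ρ D s) a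
        simp only [S.good.ρ_ng, Pi.sub_apply, Finset.sum_sub_distrib, Pi.neg_apply,
          Finset.sum_neg_distrib, Finset.sum_pi_single', Finset.mem_univ, if_true]
        omega)
      have h7 : C.ng i ≠ s := fun h7 => by
        have := h5 i
        simp [← h7, S.good.ρ_ng] at this
      have h8 := congrFun (congrArg ((u⁻¹).1 *ᵥ ·) h4) (.inr ⟨_, (S.good.simple i i.2).2.1⟩)
      simp only [mulVec_mulVec, ← h1, mulVec_smul] at h8
      rw [show bv D K (D.rank + s) = _ from bv_enc (.inr ⟨s, hs⟩), show bv D K (D.rank + C.ng i) = _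
        from bv_enc (.inr ⟨_, (S.good.simple i i.2).2.1⟩)] at h8
      rw [Matrix.sub_apply, one_apply_ne (by simpa using h7), sub_zero] at h6
      simp [-coe_units_inv, h2, h6] at h8
    obtain ⟨c, hc⟩ := Cert.Good.Mon.diag S.good (h3 ▸ S.mon_NN h hz)
    have h4 : c = 1 := funext fun a => by
      have := hu a a (by simp)
      rw [Matrix.sub_apply, sub_eq_zero, one_apply_eq] at this
      simpa [-coe_units_inv, h1, hc, this] using h2 a
    rw [hc, h4] at h1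
    rw [show v = u⁻¹ from Units.ext (by simpa using h1), mul_inv_cancel]
  inj _ h h' := Prod.ext h h'
  pgrp := (C.isPGroup_pat p _).to_le (S.U_le_pat h)
  t2 n hn k hk := by
    obtain ⟨c, hc⟩ := Cert.Good.Mon.diag S.good (S.mon_NN h hn)
    have h1 : n.1.1 ^ p ^ k = 1 := by
      rw [← Units.val_pow_eq_pow_val, ← Prod.pow_fst, hk]; rfl
    rw [show n.1.1 = _ from hc, diagonal_pow, ← diagonal_one, diagonal_eq_diagonal_iff] at h1
    refine Units.ext (hc.trans ?_)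
    rw [show c = 1 from funext fun a => ?_]
    · exact diagonal_one
    · simpa using (ExpChar.pow_prime_pow_mul_eq_one_iff p k 1 (c a)).1 (by simpa using h1 a)
  orb i := by
    have h1 := (S.good.simple _ (S.b0 i).2).1
    refine ⟨_, S.good.ρ_sp i ▸ S.y_mem (S.good.simple i i.2).1 1, _,
      S.good.ρ_sp _ ▸ S.y_mem h1 1, by simpa [y] using S.z_sp i 1, fun h2 => ?_⟩
    exact one_ne_zero (S.eq_zero_of_y h1 h2)
  per i := (S.goodT.simple i i.2).2.2.2.2.2.2.imp Fin.ext Fin.ext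

end Cfsg.Lie.Chk.Sys
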