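import Cfsg.Agent.Lie.StNF

/-! Packed certificates. -/

set_option autoImplicit false

namespace Cfsg.Lie.Chk

noncomputable section

def allIn (lo hi : ℕ) (f : ℕ → Bool) : Bool := allLt hi fun r => Bool.rec (f r) true (Nat.blt r lo)

def corT (l CC r : ℕ) (tl : VL) : VL :=
  corV (fun i => Int.subNatNat (fld CC 4 (l * r + i)) 8) l tl

def tabN (l : ℕ) (T : ℕ → ℕ → VL) (sp : ℕ → ℕ) (m U i j : ℕ) : VL :=
  Bool.rec (tabT (fun _ => .nil) 12 m U i j) (.cons (2 * j) 1 1 (VL.rec .nil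
    (fun k _ a _ _ => .cons (2 * i + k % 2) 1 a .nil) (T (sp i) j))) (Nat.blt j l)

def exT (L : List (ℕ × ℕ × List (ℕ × ℕ × ℕ × ℕ × ℕ))) (r s : ℕ) : List (ℕ × ℕ × ℕ × ℕ × ℕ) :=
  List.rec [] (fun e _ ih => Bool.rec ih e.2.2 (Nat.beq e.1 r && Nat.beq e.2.1 s)) L

def tabX (D : ChevalleyDatum) (w U CC : ℕ) : ℕ → ℕ → VL :=
  tabT (fun r => corT D.rank CC r (mkV (D.rank + r) 2 (-1) .nil)) w (D.rank + D.nroots) U

/-- a certificate from packed tables -/
def mkCert (D : ChevalleyDatum) (w U N R CC W : ℕ) (sp : List ℕ)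
    (ex : List (ℕ × ℕ × List (ℕ × ℕ × ℕ × ℕ × ℕ))) : Cert where
  T := tabX D w U CC
  N := tabN D.rank (tabX D w U CC) (sp.getD · 0) (D.rank + D.nroots) N
  R j a := fld R 4 (D.rank * j + a)
  H r := corT D.rank CC r .nil
  sp i := sp.getD i 0
  ng i := D.nroots - 1 - sp.getD i 0
  ex := exT ex
  wit := fld W 8

/-- a twist from packed tables -/
def mkTwist (B : ℕ) (β0 : List ℕ) (G L : ℕ) : Twist := ⟨fld B 8, (β0.getD · 0), fld G 1, fld L 2⟩

end

theorem allIn_iff {a b : ℕ} {f : ℕ → Bool} :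
    allIn a b f = true ↔ ∀ r, a ≤ r → r < b → f r = true := by
  rw [allIn, allLt_iff]
  refine forall_congr' fun r => ?_
  by_cases h : r < a
  · rw [Nat.blt_eq.mpr h]; simp [h.not_ge]
  · rw [Bool.eq_false_iff.2 (Nat.blt_eq ▸ h : ¬ Nat.blt r a = true)]; simp [not_lt.1 h]

theorem allIn_trans {a b c : ℕ} {f : ℕ → Bool} (h : allIn a b f = true) (h' : allIn b c f = true) :
    allIn a c f = true := allIn_iff.2 fun r h1 h2 =>
  (lt_or_ge r b).elim (allIn_iff.1 h r h1) (allIn_iff.1 h' r · h2)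

theorem of_allIn {n : ℕ} {f : ℕ → Bool} (h : allIn 0 n f = true) : ∀ r < n, f r = true :=
  fun r => allIn_iff.1 h r r.zero_le

theorem mkCert_N (D : ChevalleyDatum) (w U N R CC W : ℕ) (sp ex) (i j : ℕ)
    (h : D.rank + D.nroots ≤ j) : (mkCert D w U N R CC W sp ex).N i j = .nil := by
  rw [mkCert]
  dsimp only
  rw [tabN, Bool.eq_false_iff.2 (Nat.blt_eq ▸ (by omega) : ¬ Nat.blt j D.rank = true)]
  exact tabT_of_le _ _ _ _ h

end Cfsg.Lie.Chk
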