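import Cfsg.Agent.Lie.TabE60

set_option autoImplicit false

namespace Cfsg.Lie.Chk

theorem cCE6_0 : allIn 0 6 (certE6.chkCs chevE6.rank chevE6.nroots .id 0) = true := by decide +kernel

theorem cCE6 : allIn 0 6 (certE6.chkCs chevE6.rank chevE6.nroots .id 0) = true :=
  cCE6_0

theorem cCtE6_0 : allIn 0 6 (certE6.chkCs chevE6.rank chevE6.nroots twE6 0) = true := by decide +kernel

theorem cCtE6 : allIn 0 6 (certE6.chkCs chevE6.rank chevE6.nroots twE6 0) = true :=
  cCtE6_0

end Cfsg.Lie.Chk
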