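import Cfsg.Agent.Lie.TabE60

set_option autoImplicit false

namespace Cfsg.Lie.Chk

theorem cPE6_0 : allIn 0 72 (chkP chevE6 certE6.T) = true := by decide +kernel

theorem cPE6 : allIn 0 72 (chkP chevE6 certE6.T) = true :=
  cPE6_0

theorem cAE6_0 : allIn 0 72 (chkA (chevE6.rank + chevE6.nroots) certE6.T) = true := by decide +kernel

theorem cAE6 : allIn 0 72 (chkA (chevE6.rank + chevE6.nroots) certE6.T) = true :=
  cAE6_0

theorem cGE6_0 : allIn 0 72 (certE6.chkG chevE6.rank chevE6.nroots) = true := by decide +kernel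

theorem cGE6 : allIn 0 72 (certE6.chkG chevE6.rank chevE6.nroots) = true :=
  cGE6_0

end Cfsg.Lie.Chk
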