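import Cfsg.Agent.Lie.TabE70

set_option autoImplicit false

namespace Cfsg.Lie.Chk

theorem cPE7_0 : allIn 0 60 (chkP chevE7 certE7.T) = true := by decide +kernel

theorem cPE7_60 : allIn 60 120 (chkP chevE7 certE7.T) = true := by decide +kernel

theorem cPE7_120 : allIn 120 126 (chkP chevE7 certE7.T) = true := by decide +kernel

theorem cPE7 : allIn 0 126 (chkP chevE7 certE7.T) = true :=
  allIn_trans (allIn_trans (cPE7_0) cPE7_60) cPE7_120

theorem cAE7_0 : allIn 0 120 (chkA (chevE7.rank + chevE7.nroots) certE7.T) = true := by decide +kernel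

theorem cAE7_120 : allIn 120 126 (chkA (chevE7.rank + chevE7.nroots) certE7.T) = true := by decide +kernel

theorem cAE7 : allIn 0 126 (chkA (chevE7.rank + chevE7.nroots) certE7.T) = true :=
  allIn_trans (cAE7_0) cAE7_120

theorem cGE7_0 : allIn 0 120 (certE7.chkG chevE7.rank chevE7.nroots) = true := by decide +kernel

theorem cGE7_120 : allIn 120 126 (certE7.chkG chevE7.rank chevE7.nroots) = true := by decide +kernel

theorem cGE7 : allIn 0 126 (certE7.chkG chevE7.rank chevE7.nroots) = true :=
  allIn_trans (cGE7_0) cGE7_120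

end Cfsg.Lie.Chk
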