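import Cfsg.Agent.Lie.TabE80

set_option autoImplicit false

namespace Cfsg.Lie.Chk

theorem cPE8_0 : allIn 0 32 (chkP chevE8 certE8.T) = true := by decide +kernel

theorem cPE8_32 : allIn 32 64 (chkP chevE8 certE8.T) = true := by decide +kernel

theorem cPE8_64 : allIn 64 96 (chkP chevE8 certE8.T) = true := by decide +kernel

theorem cPE8_96 : allIn 96 128 (chkP chevE8 certE8.T) = true := by decide +kernel

theorem cPE8_128 : allIn 128 160 (chkP chevE8 certE8.T) = true := by decide +kernel

theorem cPE8_160 : allIn 160 192 (chkP chevE8 certE8.T) = true := by decide +kernel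

theorem cPE8_192 : allIn 192 224 (chkP chevE8 certE8.T) = true := by decide +kernel

theorem cPE8_224 : allIn 224 240 (chkP chevE8 certE8.T) = true := by decide +kernel

theorem cPE8 : allIn 0 240 (chkP chevE8 certE8.T) = true :=
  allIn_trans (allIn_trans (allIn_trans (allIn_trans (allIn_trans (allIn_trans (allIn_trans (cPE8_0) cPE8_32) cPE8_64) cPE8_96) cPE8_128) cPE8_160) cPE8_192) cPE8_224

theorem cAE8_0 : allIn 0 64 (chkA (chevE8.rank + chevE8.nroots) certE8.T) = true := by decide +kernel

theorem cAE8_64 : allIn 64 128 (chkA (chevE8.rank + chevE8.nroots) certE8.T) = true := by decide +kernel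

theorem cAE8_128 : allIn 128 192 (chkA (chevE8.rank + chevE8.nroots) certE8.T) = true := by decide +kernel

theorem cAE8_192 : allIn 192 240 (chkA (chevE8.rank + chevE8.nroots) certE8.T) = true := by decide +kernel

theorem cAE8 : allIn 0 240 (chkA (chevE8.rank + chevE8.nroots) certE8.T) = true :=
  allIn_trans (allIn_trans (allIn_trans (cAE8_0) cAE8_64) cAE8_128) cAE8_192

theorem cGE8_0 : allIn 0 64 (certE8.chkG chevE8.rank chevE8.nroots) = true := by decide +kernel

theorem cGE8_64 : allIn 64 128 (certE8.chkG chevE8.rank chevE8.nroots) = true := by decide +kernel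

theorem cGE8_128 : allIn 128 192 (certE8.chkG chevE8.rank chevE8.nroots) = true := by decide +kernel

theorem cGE8_192 : allIn 192 240 (certE8.chkG chevE8.rank chevE8.nroots) = true := by decide +kernel

theorem cGE8 : allIn 0 240 (certE8.chkG chevE8.rank chevE8.nroots) = true :=
  allIn_trans (allIn_trans (allIn_trans (cGE8_0) cGE8_64) cGE8_128) cGE8_192

end Cfsg.Lie.Chk
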