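import Cfsg.Agent.Lie.TabDef

/-! Twisted groups given by generating words. -/

set_option autoImplicit false

namespace Cfsg.Lie.Chk

open Matrix RGD

/-- the roots in `rs` have sign `e` and are supported on the orbit of `i` -/
noncomputable def Cert.chkS (C : Cert) (l n : ℕ) (τ : Twist) (e : Bool) (i : ℕ) (rs : List ℕ) : Bool :=
  rs.all fun r => r < n && C.pos l r == e && allLt l fun a =>
    a = i || a = τ.β0 i || a = τ.β0 (τ.β0 i) || C.R (l + r) a = 8

variable {D : ChevalleyDatum} {K : Type*} [Field K] {C : Cert}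

namespace Cert.Good

variable (h : C.Good D)

/-- the group element given by a word -/
def gw (w : List (ℕ × K)) : GL D.Idx K := (w.map fun f => h.gx f.1 f.2).prod

theorem val_gw (w : List (ℕ × K)) : (h.gw w).1 = D.wordMat K w := by
  induction w with
  | nil => rfl
  | cons f w ih => exact congrArg (D.x K f.1 f.2 * ·) ih

theorem gw_inj {e : ℤ} {rs : List ℕ} (hU : C.chkU D.rank D.nroots e rs = true)
    {w w' : List (ℕ × K)} (h1 : w.map Prod.fst = rs) (h2 : w'.map Prod.fst = rs)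
    (h3 : h.gw w = h.gw w') : w = w' := by
  have h4 : rs.Nodup := by
    clear h1 h2
    induction rs with
    | nil => simp
    | cons r tl ih =>
      simp only [Cert.chkU, Bool.and_eq_true, decide_eq_true_eq, List.all_eq_true] at hU
      exact List.nodup_cons.2 ⟨fun h => (hU.1.2 r h).1 rfl, ih hU.2⟩
  have h5 : ∀ w : List (ℕ × K), (w.map Prod.fst).Nodup →
      ∃ c : ℕ → K, w = (w.map Prod.fst).map fun r => (r, c r) := fun w hw => by
    induction w with
    | nil => simp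
    | cons f w ih =>
      rw [List.map_cons, List.nodup_cons] at hw
      obtain ⟨c, hc⟩ := ih hw.2
      refine ⟨Function.update c f.1 f.2, ?_⟩
      rw [List.map_cons, List.map_cons, Function.update_self]
      exact congrArg _ (hc.trans (List.map_congr_left fun s hs => by
        rw [Function.update_of_ne (by rintro rfl; exact hw.1 hs)]))
  obtain ⟨c, hc⟩ := h5 w (h1 ▸ h4)
  obtain ⟨c', hc'⟩ := h5 w' (h2 ▸ h4)
  rw [hc, hc', h1, h2] at h3 ⊢
  exact List.map_congr_left fun r hr => congrArg _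
    (h.nf_uniq hU (by simpa [gw, Function.comp_def] using h3) r hr)

theorem gw_ne_one {e : ℤ} {rs : List ℕ} (hU : C.chkU D.rank D.nroots e rs = true)
    {w : List (ℕ × K)} (h1 : w.map Prod.fst = rs) (h2 : ∃ f ∈ w, f.2 ≠ 0) : h.gw w ≠ 1 := by
  intro h3
  obtain ⟨f, hf, h4⟩ := h2
  rw [h.gw_inj hU h1 (w' := rs.map fun r => (r, 0)) (by simp [Function.comp_def])
    (h3.trans (by simp [gw, Function.comp_def]))] at hf
  obtain ⟨r, -, rfl⟩ := List.mem_map.1 hf
  exact h4 rfl

theorem gw_rel {p : ℕ} (hp : (p : K) = 0) {w w' : List (ℕ × ℕ × ℕ × List ℕ)} (hw : rel p D.nroots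
    (D.rank + D.nroots) C.T (w.map encE) (w'.map encE) = true) (mon : ℕ →* K) :
    h.gw (w.map fun f => (f.1, (-1) ^ f.2.1 * (f.2.2.1 : K) * (f.2.2.2.map mon).prod)) =
      h.gw (w'.map fun f => (f.1, (-1) ^ f.2.1 * (f.2.2.1 : K) * (f.2.2.2.map mon).prod)) :=
  Units.ext (by simpa [val_gw, ChevalleyDatum.wordMat, wv, Function.comp_def, val, encE,
    map_list_prod] using h.rep.of_rel hp mon hw)

end Cert.Good

namespace Sys

variable (S : Sys C D K) (h : C.GoodT D .id 0)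

/-- the twisted word -/
def zw (w : List (ℕ × K)) : GL D.Idx K := (w.map fun f => S.z f.1 f.2).prod

theorem prod_y (w : List (ℕ × K)) : (w.map fun f => S.y f.1 f.2).prod = (S.good.gw w, S.zw w) := by
  induction w with
  | nil => rfl
  | cons f w ih => rw [List.map_cons, List.prod_cons, ih]; rfl

theorem mem_res (i : Fin D.rank) {e : Bool} {w : List (ℕ × K)}
    (hJ : C.chkS D.rank D.nroots S.τ e i (w.map Prod.fst) = true) : (S.good.gw w, S.zw w) ∈
    ((S.rgd h).res (orbJ S.b0 i)).XS fun μ => if e then 0 ≤ μ else μ ≤ 0 :=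
  S.prod_y w ▸ res_XS.ge (list_prod_mem (List.forall_mem_map.2 fun f hf => by
    have := List.all_eq_true.1 hJ _ (List.mem_map_of_mem hf)
    simp only [Bool.and_eq_true, Bool.or_eq_true, allLt_iff, decide_eq_true_eq, ← S.supp_iff,
      beq_iff_eq] at this
    refine S.y_mem_XS h this.1.1 ⟨?_, this.2⟩ _
    cases e
    · exact (S.good.ρ_sign this.1.1).resolve_left fun h => by
        simpa [this.1.2] using Cert.Good.pos_iff.2 h
    · exact Cert.Good.pos_iff.1 this.1.2))

theorem exists_nf_res' (i : Fin D.rank) {rs : List ℕ}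
    (hJ : C.chkJ D.rank D.nroots S.τ i rs = true) (hT : C.chkTow D.rank D.nroots S.τ S.p rs = true)
    {g} (hg : g ∈ ((S.rgd h).res (orbJ S.b0 i)).U) : ∃ c : ℕ → K,
      g = (S.good.gw (rs.map fun r => (r, c r)), S.zw (rs.map fun r => (r, c r))) := by
  simpa [← prod_y, Function.comp_def] using S.exists_nf_res h i hJ hT hg

theorem lie_words [Finite K] (p : ℕ) [Fact p.Prime] [CharP K p] (W : Set (List (ℕ × K)))
    (hW : ∀ w ∈ W, S.zw w = S.good.gw w ∧
      ∃ i < D.rank, ∃ e, C.chkS D.rank D.nroots S.τ e i (w.map Prod.fst) = true)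
    (hY : ∀ i < D.rank, ∃ w ∈ W, C.chkS D.rank D.nroots S.τ false i (w.map Prod.fst) = true ∧
      S.good.gw w ≠ 1)
    (hZ : ∀ i < D.rank, ∃ rs, C.chkJ D.rank D.nroots S.τ i rs = true ∧
      C.chkTow D.rank D.nroots S.τ S.p rs = true ∧ ∀ c : ℕ → K, S.zw (rs.map fun r => (r, c r)) =
      S.good.gw (rs.map fun r => (r, c r)) → (rs.map fun r => (r, c r)) ∈ W) :
    LieRigid p (D.genSubgroup K W) ∧ ∀ n, (∀ i, AbExp n (((S.rgd h).res (orbJ S.b0 i)).U ⊓
      (MonoidHom.fst _ _).eqLocus (MonoidHom.snd _ _))) →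
      ∀ P : Sylow p (D.genSubgroup K W), AbExp n P.toSubgroup := by
  have h1 : ∀ w ∈ W, S.good.gw w ∈ D.genSubgroup K W := fun w hw =>
    Subgroup.subset_closure ⟨w, hw, S.good.val_gw w⟩
  refine S.lie_good h p _ (fun i g hg hg' => ?_) (fun i => ?_) rfl ?_
  · obtain ⟨rs, h2, h3, h4⟩ := hZ i i.2
    obtain ⟨c, rfl⟩ := S.exists_nf_res' h i h2 h3 hg
    exact h1 _ (h4 c hg'.symm)
  · obtain ⟨w, hw, h2, h3⟩ := hY i i.2
    have := S.mem_res h i h2
    exact ⟨(S.good.gw w, S.zw w), XS_mono (fun _ _ h => by simpa using h) this, (hW w hw).1.symm,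
      h1 w hw, h3⟩
  · rintro g ⟨w, hw, hg⟩
    obtain rfl : g = S.good.gw w := Units.ext (hg.trans (S.good.val_gw w).symm)
    obtain ⟨h2, i, hi, e, h3⟩ := hW w hw
    have := XS_mono (fun _ _ h => h.1) (res_XS.le (S.mem_res h ⟨i, hi⟩ h3))
    rw [h2] at this
    cases e
    exacts [.inr (XS_mono (fun _ _ h => by simpa using h) this),
      .inl (XS_mono (fun _ _ h => by simpa using h) this)]

theorem abExp_of_sq (i : Fin D.rank) {rs : List ℕ}
    (hJ : C.chkJ D.rank D.nroots S.τ i rs = true) (hT : C.chkTow D.rank D.nroots S.τ S.p rs = true)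
    (h1 : ∀ c : ℕ → K, S.good.gw (rs.map fun r => (r, c r)) ^ 2 = 1) :
    AbExp 2 (((S.rgd h).res (orbJ S.b0 i)).U ⊓
      (MonoidHom.fst _ _).eqLocus (MonoidHom.snd _ _)) := fun g hg => by
  obtain ⟨c, rfl⟩ := S.exists_nf_res' h i hJ hT hg.1
  rw [← show S.good.gw _ = S.zw _ from hg.2, Prod.pow_mk, h1]
  exact one_mem _

theorem zw_one {r : ℕ} (h : rel S.p D.nroots (D.rank + D.nroots) C.T ([(r, 0, 1, 2)].map S.τ.tw)
    ([(r, 0, 1, [2])].map encE) = true) (a : K) : S.zw [(r, a)] = S.good.gw [(r, S.φ a)] := by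
  obtain ⟨mon, rfl, -⟩ := exists_mon8 a 1 1 1 1 1 1 1
  simpa [zw, Cert.Good.gw, val] using S.collect h mon

theorem zw_two {r s k : ℕ} (h : rel S.p D.nroots (D.rank + D.nroots) C.T
    ([(r, 0, 1, 2), (s, 0, 1, 3)].map S.τ.tw)
    ([(r, 0, 1, [3]), (s, 0, 1, .replicate k 2)].map encE) = true) (a b : K) :
    S.zw [(r, a), (s, b)] = S.good.gw [(r, S.φ b), (s, S.φ a ^ k)] := by
  obtain ⟨mon, rfl, rfl, -⟩ := exists_mon8 a b 1 1 1 1 1 1
  simpa [zw, Cert.Good.gw, val] using S.collect h mon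

end Sys

theorem Cert.Good.gw_sq (h : C.Good D) [CharP K 2] {r s t : ℕ} (hw : rel 2 D.nroots
    (D.rank + D.nroots) C.T ([(r, 0, 1, [2]), (s, 0, 1, [3]), (t, 0, 1, [5]), (r, 0, 1, [2]),
    (s, 0, 1, [3]), (t, 0, 1, [5])].map encE) ([].map encE) = true) (a b c : K) :
    h.gw [(r, a), (s, b), (t, c)] ^ 2 = 1 := by
  obtain ⟨mon, rfl, rfl, rfl, -⟩ := exists_mon8 a b c 1 1 1 1 1
  simpa [gw, sq, mul_assoc] using h.gw_rel (CharP.cast_eq_zero K 2) hw mon

end Cfsg.Lie.Chk
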