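import Cfsg.Agent.Lie.TwBase
import Cfsg.Agent.Lie.TabE6
import Cfsg.Agent.Lie.TabD4
import Cfsg.Prelude.Def_LieTwisted

/-! The groups `²E₆(q)` and `³D₄(q)`. -/

set_option autoImplicit false

namespace Cfsg.Lie.Chk

/-- checks for an orbit of mutually orthogonal roots -/
def OrbOK (D : ChevalleyDatum) (C : Cert) (τ : Twist) (p : ℕ) (w : List Fc)
    (w' : List (ℕ × ℕ × ℕ × List ℕ)) (r s t : ℕ) : Prop :=
  rel p D.nroots (D.rank + D.nroots) C.T (w.map τ.tw) (w'.map encE) = true ∧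
  (∃ i < D.rank, ∃ e, C.chkS D.rank D.nroots τ e i (w.map Prod.fst) = true) ∧
  (∃ e ∈ [1, -1], C.chkU D.rank D.nroots e (w.map Prod.fst) = true) ∧
  rel 2 D.nroots (D.rank + D.nroots) C.T ([(r, 0, 1, [2]), (s, 0, 1, [3]), (t, 0, 1, [5]),
    (r, 0, 1, [2]), (s, 0, 1, [3]), (t, 0, 1, [5])].map encE) ([].map encE) = true

theorem orbE6_one : ∀ r ∈ [e6p2, e6m2, e6p4, e6m4],
    OrbOK chevE6 certE6 twE6 0 [(r, 0, 1, 2)] [(r, 0, 1, [2])] r r r := by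
  unfold OrbOK; decide +kernel

theorem orbE6_two : ∀ r ∈ [(e6p1, e6p6), (e6m1, e6m6), (e6p3, e6p5), (e6m3, e6m5)],
    OrbOK chevE6 certE6 twE6 0 [(r.1, 0, 1, 2), (r.2, 0, 1, 3)]
      [(r.1, 0, 1, [3]), (r.2, 0, 1, .replicate 1 2)] r.1 r.2 r.2 := by
  unfold OrbOK; decide +kernel

theorem orbE6_neg : ∀ i < chevE6.rank, (∃ r ∈ [e6p2, e6m2, e6p4, e6m4],
    certE6.chkS chevE6.rank chevE6.nroots twE6 false i [r] = true) ∨
    ∃ r ∈ [(e6p1, e6p6), (e6m1, e6m6), (e6p3, e6p5), (e6m3, e6m5)],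
      certE6.chkS chevE6.rank chevE6.nroots twE6 false i [r.1, r.2] = true := by decide +kernel

theorem orbE6_pos : ∀ i < chevE6.rank, (∃ r ∈ [e6p2, e6m2, e6p4, e6m4],
    certE6.chkJ chevE6.rank chevE6.nroots twE6 i [r] = true ∧
    certE6.chkTow chevE6.rank chevE6.nroots twE6 0 [r] = true) ∨
    ∃ r ∈ [(e6p1, e6p6), (e6m1, e6m6), (e6p3, e6p5), (e6m3, e6m5)],
      certE6.chkJ chevE6.rank chevE6.nroots twE6 i [r.1, r.2] = true ∧
      certE6.chkTow chevE6.rank chevE6.nroots twE6 0 [r.1, r.2] = true := by decide +kernel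

theorem orbD4_one : ∀ r ∈ [d4p2, d4m2],
    OrbOK chevD4 certD4 twD4 0 [(r, 0, 1, 2)] [(r, 0, 1, [2])] r r r := by
  unfold OrbOK; decide +kernel

theorem orbD4_three : ∀ r ∈ [(d4p1, d4p3, d4p4), (d4m1, d4m3, d4m4)],
    OrbOK chevD4 certD4 twD4 0 [(r.1, 0, 1, 2), (r.2.1, 0, 1, 3), (r.2.2, 0, 1, 5)]
      [(r.1, 0, 1, [5]), (r.2.1, 0, 1, [2]), (r.2.2, 0, 1, [3])] r.1 r.2.1 r.2.2 := by
  unfold OrbOK; decide +kernel

theorem orbD4_neg : ∀ i < chevD4.rank, (∃ r ∈ [d4p2, d4m2],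
    certD4.chkS chevD4.rank chevD4.nroots twD4 false i [r] = true) ∨
    ∃ r ∈ [(d4p1, d4p3, d4p4), (d4m1, d4m3, d4m4)],
      certD4.chkS chevD4.rank chevD4.nroots twD4 false i [r.1, r.2.1, r.2.2] = true := by
  decide +kernel

theorem orbD4_pos : ∀ i < chevD4.rank, (∃ r ∈ [d4p2, d4m2],
    certD4.chkJ chevD4.rank chevD4.nroots twD4 i [r] = true ∧
    certD4.chkTow chevD4.rank chevD4.nroots twD4 0 [r] = true) ∨
    ∃ r ∈ [(d4p1, d4p3, d4p4), (d4m1, d4m3, d4m4)],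
      certD4.chkJ chevD4.rank chevD4.nroots twD4 i [r.1, r.2.1, r.2.2] = true ∧
      certD4.chkTow chevD4.rank chevD4.nroots twD4 0 [r.1, r.2.1, r.2.2] = true := by
  decide +kernel

variable {K : Type*} [Field K] [Finite K] (p : ℕ) [Fact p.Prime] [CharP K p] (φ : K →+* K) {q : ℕ}
  (hq : ∀ t, t ^ q = φ t)
include hq

theorem lie_2E6 (h2 : ∀ t, φ (φ t) = t) : LieRigid p (twistedE6 K q) ∧
    (p = 2 → ∀ P : Sylow p (twistedE6 K q), AbExp 2 P.toSubgroup) := by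
  let S : Sys certE6 chevE6 K := ⟨twE6, 0, φ, goodE6, goodTE6, .inl rfl⟩
  have hφ : S.φ = φ := rfl
  refine (S.lie_words goodIE6 p (e6Words K q) ?_ (fun i hi => ?_) fun i hi => ?_).imp_right
    fun h hp => h 2 fun i => ?_
  · rintro _ (⟨t, ht, r, hr, rfl⟩ | ⟨t, r, hr, rfl⟩)
    · exact ⟨by rw [S.zw_one (orbE6_one r hr).1, hφ, ← hq, ht], (orbE6_one r hr).2.1⟩
    · exact ⟨by rw [S.zw_two (orbE6_two r hr).1, hφ, hq, h2, pow_one], (orbE6_two r hr).2.1⟩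
  · rcases orbE6_neg i hi with ⟨r, hr, h⟩ | ⟨r, hr, h⟩
    · obtain ⟨e, -, he⟩ := (orbE6_one r hr).2.2.1
      exact ⟨_, .inl ⟨1, one_pow _, r, hr, rfl⟩, h, S.good.gw_ne_one he rfl (by simp)⟩
    · obtain ⟨e, -, he⟩ := (orbE6_two r hr).2.2.1
      exact ⟨_, .inr ⟨1, r, hr, rfl⟩, h, S.good.gw_ne_one he rfl (by simp)⟩
  · rcases orbE6_pos i hi with ⟨r, hr, h⟩ | ⟨r, hr, h⟩
    · obtain ⟨e, -, he⟩ := (orbE6_one r hr).2.2.1
      refine ⟨_, h.1, h.2, fun c hc => .inl ⟨c r, ?_, r, hr, rfl⟩⟩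
      simpa [hq] using S.good.gw_inj he (by rfl) (by rfl) ((S.zw_one (orbE6_one r hr).1 _).symm.trans hc)
    · obtain ⟨e, -, he⟩ := (orbE6_two r hr).2.2.1
      refine ⟨_, h.1, h.2, fun c hc => .inr ⟨c r.1, r, hr, ?_⟩⟩
      have := S.good.gw_inj he (by rfl) (by rfl) ((S.zw_two (orbE6_two r hr).1 _ _).symm.trans hc)
      simp_all
  · subst hp
    rcases orbE6_pos i i.2 with ⟨r, hr, h⟩ | ⟨r, hr, h⟩
    · exact S.abExp_of_sq goodIE6 i h.1 h.2 fun c => by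
        simpa [Cert.Good.gw] using S.good.gw_sq (orbE6_one r hr).2.2.2 (c r) 0 0
    · exact S.abExp_of_sq goodIE6 i h.1 h.2 fun c => by
        simpa [Cert.Good.gw] using S.good.gw_sq (orbE6_two r hr).2.2.2 (c r.1) (c r.2) 0

theorem lie_3D4 (h3 : ∀ t, φ (φ (φ t)) = t) : LieRigid p (twistedD4 K q) ∧
    (p = 2 → ∀ P : Sylow p (twistedD4 K q), AbExp 2 P.toSubgroup) := by
  let S : Sys certD4 chevD4 K := ⟨twD4, 0, φ, goodD4, goodTD4, .inl rfl⟩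
  have hφ : S.φ = φ := rfl
  have h1 : ∀ r ∈ [(d4p1, d4p3, d4p4), (d4m1, d4m3, d4m4)], ∀ a b c : K,
      S.zw [(r.1, a), (r.2.1, b), (r.2.2, c)] = S.good.gw [(r.1, φ c), (r.2.1, φ a), (r.2.2, φ b)] := by
    intro r hr a b c
    obtain ⟨mon, rfl, rfl, rfl, -⟩ := exists_mon8 a b c 1 1 1 1 1
    simpa [Sys.zw, Cert.Good.gw, val] using S.collect (orbD4_three r hr).1 mon
  refine (S.lie_words goodID4 p (d4Words K q) ?_ (fun i hi => ?_) fun i hi => ?_).imp_right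
    fun h hp => h 2 fun i => ?_
  · rintro _ (⟨t, ht, r, hr, rfl⟩ | ⟨t, r, hr, rfl⟩)
    · exact ⟨by rw [S.zw_one (orbD4_one r hr).1, hφ, ← hq, ht], (orbD4_one r hr).2.1⟩
    · exact ⟨by rw [h1 r hr, sq, pow_mul, hq, hq, h3], (orbD4_three r hr).2.1⟩
  · rcases orbD4_neg i hi with ⟨r, hr, h⟩ | ⟨r, hr, h⟩
    · obtain ⟨e, -, he⟩ := (orbD4_one r hr).2.2.1
      exact ⟨_, .inl ⟨1, one_pow _, r, hr, rfl⟩, h, S.good.gw_ne_one he rfl (by simp)⟩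
    · obtain ⟨e, -, he⟩ := (orbD4_three r hr).2.2.1
      exact ⟨_, .inr ⟨1, r, hr, rfl⟩, h, S.good.gw_ne_one he rfl (by simp)⟩
  · rcases orbD4_pos i hi with ⟨r, hr, h⟩ | ⟨r, hr, h⟩
    · obtain ⟨e, -, he⟩ := (orbD4_one r hr).2.2.1
      refine ⟨_, h.1, h.2, fun c hc => .inl ⟨c r, ?_, r, hr, rfl⟩⟩
      simpa [hq] using S.good.gw_inj he (by rfl) (by rfl) ((S.zw_one (orbD4_one r hr).1 _).symm.trans hc)
    · obtain ⟨e, -, he⟩ := (orbD4_three r hr).2.2.1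
      refine ⟨_, h.1, h.2, fun c hc => .inr ⟨c r.1, r, hr, ?_⟩⟩
      have := S.good.gw_inj he (by rfl) (by rfl) ((h1 r hr _ _ _).symm.trans hc)
      simp only [List.map_cons, List.cons.injEq, Prod.mk.injEq, true_and] at this
      simp [sq, pow_mul, hq, this.2.1, this.2.2.1]
  · subst hp
    rcases orbD4_pos i i.2 with ⟨r, hr, h⟩ | ⟨r, hr, h⟩
    · exact S.abExp_of_sq goodID4 i h.1 h.2 fun c => by
        simpa [Cert.Good.gw] using S.good.gw_sq (orbD4_one r hr).2.2.2 (c r) 0 0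
    · exact S.abExp_of_sq goodID4 i h.1 h.2 fun c => S.good.gw_sq (orbD4_three r hr).2.2.2 _ _ _

end Cfsg.Lie.Chk
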